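import Cfsg.Agent.FGS3.ClassTwo
import Cfsg.Agent.FGS3.PGroupFrattini
import Cfsg.Prelude.Def_Transfer

/-!
# Extraspecial p-groups: basic facts
-/

set_option autoImplicit false
set_option linter.style.haveILetI false

namespace Cfsg.Agent.FGS3

open Subgroup
open scoped commutatorElement

variable {P : Type*} [Group P] {p : ℕ}

/-- A group with centre of prime order p containing all commutators: centralizer of noncentral has index p. -/
theorem index_centralizer_of_center_prime [Finite P] [hp : Fact p.Prime]
    (hc : commutator P ≤ center P) (hZ : Nat.card (center P) = p) {x : P} (hx : x ∉ center P) :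
    (centralizer ({x} : Set P)).index = p := by
  let f : P →* center P :=
    (commLeftHom hc x).codRestrict (center P) fun z => commutatorElement_mem_center hc z x
  have hker : f.ker = centralizer ({x} : Set P) := by
    ext z
    rw [MonoidHom.mem_ker, mem_centralizer_singleton_iff, ← commutatorElement_eq_one_iff_mul_comm,
      Subtype.ext_iff]
    rfl
  haveI : Fact (Nat.card (center P)).Prime := ⟨hZ ▸ hp.out⟩
  rcases Subgroup.eq_bot_or_eq_top_of_prime_card f.range with h | h
  · refine absurd (mem_center_iff.2 fun z => ?_) hx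
    have : f z ∈ f.range := ⟨z, rfl⟩
    rw [h, mem_bot, Subtype.ext_iff] at this
    exact commutatorElement_eq_one_iff_mul_comm.1 this
  · rw [← hker, index_ker, h, Subgroup.card_top, hZ]

/-- Order of a group with centre of order p containing all commutators. -/
theorem exists_card_eq_of_center_prime [Finite P] [hp : Fact p.Prime]
    (hc : commutator P ≤ center P) (hZ : Nat.card (center P) = p) :
    ∃ n : ℕ, Nat.card P = p ^ (2 * n + 1) := by
  suffices H : ∀ (m : ℕ) (K : Subgroup P), Nat.card K = m → Nat.card (center K) = p →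
      ∃ n : ℕ, m = p ^ (2 * n + 1) by
    refine H _ ⊤ Subgroup.card_top ?_
    rw [← hZ]
    exact (Nat.card_congr (Subgroup.centerCongr Subgroup.topEquiv).toEquiv)
  intro m
  induction m using Nat.strong_induction_on with
  | _ m ih =>
    intro K hKm hKZ
    by_cases hK : center K = ⊤
    · refine ⟨0, ?_⟩
      rw [← hKm, ← hKZ, hK, Subgroup.card_top, pow_one]
    obtain ⟨x, -, hx⟩ := SetLike.exists_of_lt (lt_top_iff_ne_top.2 hK : center K < ⊤)
    have hcK : commutator K ≤ center K := by
      rw [commutator_eq_closure, Subgroup.closure_le]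
      rintro _ ⟨a, b, rfl⟩
      rw [SetLike.mem_coe, mem_center_iff]
      intro g
      apply Subtype.ext
      exact mem_center_iff.1 (commutatorElement_mem_center hc (a : P) (b : P)) g
    have hix := index_centralizer_of_center_prime hcK hKZ hx
    obtain ⟨y, hy⟩ : ∃ y, y ∉ centralizer ({x} : Set K) := by
      by_contra h
      push Not at h
      exact hx (mem_center_iff.2 fun g => mem_centralizer_singleton_iff.1 (h g))
    have hyZ : y ∉ center K := fun h => hy (mem_centralizer_singleton_iff.2 (mem_center_iff.1 h x).symm)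
    have hxy : x ∉ centralizer ({y} : Set K) := fun h =>
      hy (mem_centralizer_singleton_iff.2 (mem_centralizer_singleton_iff.1 h).symm)
    have hiy := index_centralizer_of_center_prime hcK hKZ hyZ
    set Cx := centralizer ({x} : Set K)
    set Cy := centralizer ({y} : Set K)
    have hrel : Cy.relIndex Cx = p := by
      have h1 : Cy.relIndex Cx ∣ p := by
        haveI : Cy.Normal := ⟨fun a ha g => by
          rw [mem_centralizer_singleton_iff] at ha ⊢
          have hg : g * a * g⁻¹ = ⁅g, a⁆ * a := by rw [commutatorElement_def]; group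
          rw [hg, mul_assoc, ha, ← mul_assoc, ← mul_assoc,
            (mem_center_iff.1 (commutatorElement_mem_center hcK g a) y)]⟩
        exact hiy ▸ Subgroup.relIndex_dvd_index_of_normal Cy Cx
      rcases (Nat.dvd_prime hp.out).1 h1 with h | h
      · exfalso
        have hle : Cx ≤ Cy := Subgroup.relIndex_eq_one.1 h
        exact hxy (hle (mem_centralizer_singleton_iff.2 rfl))
      · exact h
    set C := Cy ⊓ Cx
    have hCi : C.index = p * p := by
      rw [← Subgroup.relIndex_mul_index (inf_le_right : C ≤ Cx), Subgroup.inf_relIndex_right, hrel, hix]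
    -- every element of K is a product of an element of C and elements generated by x, y
    have hgen : C ⊔ (zpowers x ⊔ zpowers y) = ⊤ := by
      have h1 : C < C ⊔ zpowers x := lt_of_le_of_ne le_sup_left fun h =>
        hxy ((h ▸ (le_sup_right : zpowers x ≤ _) (mem_zpowers x) : x ∈ C)).1
      have h2 : C ⊔ zpowers x ≤ Cx := sup_le inf_le_right
        (zpowers_le.2 (mem_centralizer_singleton_iff.2 rfl))
      have h3 : C ⊔ zpowers x < C ⊔ (zpowers x ⊔ zpowers y) := lt_of_le_of_ne
        (sup_le_sup_left le_sup_left _) fun h => hy (h2 (h ▸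
          ((le_sup_right : zpowers y ≤ _).trans le_sup_right (mem_zpowers y) : y ∈ C ⊔ (zpowers x ⊔ zpowers y))))
      rw [← Subgroup.index_eq_one]
      have d1 := Subgroup.relIndex_mul_index h1.le
      have d2 := Subgroup.relIndex_mul_index h3.le
      rw [hCi, ← d2, ← mul_assoc] at d1
      have n1 : C.relIndex (C ⊔ zpowers x) ≠ 1 := fun h => h1.not_ge (Subgroup.relIndex_eq_one.1 h)
      have n2 : (C ⊔ zpowers x).relIndex (C ⊔ (zpowers x ⊔ zpowers y)) ≠ 1 :=
        fun h => h3.not_ge (Subgroup.relIndex_eq_one.1 h)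
      generalize C.relIndex (C ⊔ zpowers x) = a at d1 n1
      generalize (C ⊔ zpowers x).relIndex (C ⊔ (zpowers x ⊔ zpowers y)) = b at d1 n2
      generalize (C ⊔ (zpowers x ⊔ zpowers y)).index = c at d1 ⊢
      obtain ⟨i, hi, rfl⟩ := (Nat.dvd_prime_pow hp.out).1 (⟨b * c, by rw [← mul_assoc, d1, sq]⟩ : a ∣ p ^ 2)
      obtain ⟨j, hj, rfl⟩ := (Nat.dvd_prime_pow hp.out).1 (⟨p ^ i * c, by rw [← mul_assoc, mul_comm b, d1, sq]⟩ : b ∣ p ^ 2)
      obtain ⟨k, hk, rfl⟩ := (Nat.dvd_prime_pow hp.out).1 (⟨p ^ i * p ^ j, by rw [mul_comm c, d1, sq]⟩ : c ∣ p ^ 2)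
      rw [← pow_add, ← pow_add, ← sq] at d1
      have := Nat.pow_right_injective hp.out.two_le d1
      have hi0 : i ≠ 0 := fun h => n1 (by simp [h])
      have hj0 : j ≠ 0 := fun h => n2 (by simp [h])
      simp [show k = 0 by omega]
    -- the centre of C
    let K' := C.map K.subtype
    have hK'card : Nat.card K' = Nat.card C := Subgroup.card_map_of_injective K.subtype_injective
    have hCeq : C.index * Nat.card C = Nat.card K := Subgroup.index_mul_card C
    have hCZ : Nat.card (center C) = p := by
      rw [← hKZ]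
      refine Nat.card_congr
        { toFun := fun c => ⟨c.1.1, ?_⟩
          invFun := fun z => ⟨⟨z.1, mem_centralizer_singleton_iff.2 (mem_center_iff.1 z.2 y).symm,
            mem_centralizer_singleton_iff.2 (mem_center_iff.1 z.2 x).symm⟩,
            mem_center_iff.2 fun g => Subtype.ext (mem_center_iff.1 z.2 g.1)⟩
          left_inv := fun c => rfl
          right_inv := fun z => rfl }
      rw [mem_center_iff]
      intro g
      have : (⊤ : Subgroup K) ≤ centralizer ({(c.1.1 : K)} : Set K) := by
        rw [← hgen]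
        refine sup_le (fun g hg => mem_centralizer_singleton_iff.2 ?_) (sup_le (zpowers_le.2 ?_) (zpowers_le.2 ?_))
        · exact congrArg Subtype.val (mem_center_iff.1 c.2 ⟨g, hg⟩)
        · exact mem_centralizer_singleton_iff.2 (mem_centralizer_singleton_iff.1 c.1.2.2).symm
        · exact mem_centralizer_singleton_iff.2 (mem_centralizer_singleton_iff.1 c.1.2.1).symm
      exact mem_centralizer_singleton_iff.1 (this (mem_top g))
    have hlt : Nat.card K' < m := by
      rw [← hKm, hK'card, ← hCeq, hCi]
      exact lt_mul_of_one_lt_left Nat.card_pos (one_lt_mul'' hp.out.one_lt hp.out.one_lt)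
    obtain ⟨n, hn⟩ := ih _ hlt K' rfl (by
      rw [← hCZ]
      exact (Nat.card_congr (Subgroup.centerCongr
        (C.equivMapOfInjective K.subtype K.subtype_injective)).toEquiv).symm)
    refine ⟨n + 1, ?_⟩
    rw [← hKm, ← hCeq, hCi, ← hK'card, hn]
    ring

section
variable (h : Cfsg.IsExtraspecial p P)
include h

theorem IsExtraspecial_frattini : frattini P = center P := h.1.2.1

theorem IsExtraspecial_commutator : commutator P = center P := h.1.2.2

theorem IsExtraspecial_not_comm [hp : Fact p.Prime] : ¬ IsMulCommutative P := by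
  intro hc
  have h1 : commutator P = ⊥ := by
    rw [commutator_eq_closure, Subgroup.closure_eq_bot_iff]
    rintro _ ⟨a, b, rfl⟩
    exact commutatorElement_eq_one_iff_mul_comm.2 (mul_comm' a b)
  have h2 := h.2
  rw [← h.1.2.2, h1, Subgroup.card_bot] at h2
  exact hp.out.ne_one h2.symm

theorem IsExtraspecial_pow_mem [Finite P] [Fact p.Prime] (x : P) : x ^ p ∈ center P :=
  h.1.2.1 ▸ pow_mem_frattini h.1.1 x

theorem IsExtraspecial_pow_sq [Finite P] [Fact p.Prime] (x : P) : x ^ (p * p) = 1 := by
  have h1 : (⟨x ^ p, IsExtraspecial_pow_mem h x⟩ : center P) ^ p = 1 := by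
    conv_lhs => arg 2; rw [← h.2]
    exact pow_card_eq_one'
  rw [pow_mul]
  exact congrArg Subtype.val h1

theorem IsExtraspecial_commutatorElement_pow [Finite P] [Fact p.Prime] (x y : P) : ⁅x, y⁆ ^ p = 1 :=
  commutatorElement_pow_eq_one h.1.2.2.le x y p (IsExtraspecial_pow_mem h x)

theorem IsExtraspecial_index_centralizer [Finite P] [Fact p.Prime] {x : P} (hx : x ∉ center P) :
    (centralizer ({x} : Set P)).index = p :=
  index_centralizer_of_center_prime h.1.2.2.le h.2 hx

theorem IsExtraspecial_card [Finite P] [hp : Fact p.Prime] :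
    ∃ n : ℕ, 1 ≤ n ∧ Nat.card P = p ^ (2 * n + 1) := by
  obtain ⟨n, hn⟩ := exists_card_eq_of_center_prime h.1.2.2.le h.2
  refine ⟨n, Nat.one_le_iff_ne_zero.2 ?_, hn⟩
  rintro rfl
  apply IsExtraspecial_not_comm h
  have : center P = ⊤ := Subgroup.eq_top_of_card_eq _ (by rw [h.2, hn]; simp)
  exact ⟨⟨fun a b => (mem_center_iff.1 (this ▸ mem_top a) b).symm⟩⟩

end

end Cfsg.Agent.FGS3
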