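import Cfsg.Prelude.Def_PLocal
import Cfsg.Agent.FGS3.PGroupFrattini

/-!
# Regular p-groups (P. Hall)
Everything is proved from the regularity formula at a single exponent `p ^ n`.
-/

set_option autoImplicit false
set_option linter.style.haveILetI false

namespace Cfsg.Agent.FGS3.Regular

open Subgroup Cfsg
open scoped commutatorElement

variable {G : Type*} [Group G] {p n : ℕ}

/-- The regularity formula at the exponent `p ^ n`. -/
def RegAt (p n : ℕ) (G : Type*) [Group G] : Prop :=
  ∀ a b : G, ∃ c ∈ powerClosure p n ⁅closure ({a, b} : Set G), closure ({a, b} : Set G)⁆,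
    (a * b) ^ p ^ n = a ^ p ^ n * b ^ p ^ n * c

theorem powerClosure_mono {H K : Subgroup G} (h : H ≤ K) :
    powerClosure p n H ≤ powerClosure p n K := by
  refine closure_mono ?_
  rintro _ ⟨x, hx, rfl⟩
  exact ⟨x, h hx, rfl⟩

theorem powerClosure_le_self (H : Subgroup G) : powerClosure p n H ≤ H := by
  rw [powerClosure, closure_le]
  rintro _ ⟨x, hx, rfl⟩
  exact pow_mem hx _

theorem map_powerClosure {G' : Type*} [Group G'] (f : G →* G') (H : Subgroup G) :
    (powerClosure p n H).map f = powerClosure p n (H.map f) := by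
  rw [powerClosure, powerClosure, MonoidHom.map_closure]
  congr 1
  ext y
  constructor
  · rintro ⟨_, ⟨x, hx, rfl⟩, rfl⟩
    exact ⟨f x, mem_map_of_mem f hx, map_pow _ _ _⟩
  · rintro ⟨_, ⟨x, hx, rfl⟩, rfl⟩
    exact ⟨x ^ p ^ n, ⟨x, hx, rfl⟩, map_pow _ _ _⟩

theorem powerClosure_eq_bot {H : Subgroup G} (h : ∀ x ∈ H, x ^ p ^ n = 1) :
    powerClosure p n H = ⊥ := by
  rw [powerClosure, closure_eq_bot_iff]
  rintro _ ⟨x, hx, rfl⟩
  exact h x hx

theorem RegAt.quotient (h : RegAt p n G) (N : Subgroup G) [N.Normal] : RegAt p n (G ⧸ N) := by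
  intro a b
  obtain ⟨a, rfl⟩ := QuotientGroup.mk'_surjective N a
  obtain ⟨b, rfl⟩ := QuotientGroup.mk'_surjective N b
  obtain ⟨c, hc, he⟩ := h a b
  refine ⟨QuotientGroup.mk' N c, ?_, by
    rw [← map_mul, ← map_pow, he, map_mul, map_mul, map_pow, map_pow]⟩
  have h1 := mem_map_of_mem (QuotientGroup.mk' N) hc
  rwa [map_powerClosure, Subgroup.map_commutator, MonoidHom.map_closure, Set.image_pair] at h1

theorem RegAt.subgroup (h : RegAt p n G) (H : Subgroup G) : RegAt p n H := by
  intro a b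
  obtain ⟨c, hc, he⟩ := h (a : G) (b : G)
  have e : closure ({(a : G), (b : G)} : Set G) = (closure ({a, b} : Set H)).map H.subtype := by
    rw [MonoidHom.map_closure, Set.image_pair]; rfl
  rw [e, ← Subgroup.map_commutator, ← map_powerClosure] at hc
  obtain ⟨c', hc', rfl⟩ := hc
  refine ⟨c', hc', ?_⟩
  apply Subtype.ext
  simpa using he

/-- The derived subgroup of a two generator group is the normal closure of one commutator. -/
theorem commutator_le_normalClosure {a b : G} (hgen : closure {a, b} = ⊤) :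
    commutator G ≤ normalClosure {⁅a, b⁆} := by
  set L := normalClosure ({⁅a, b⁆} : Set G)
  set π := QuotientGroup.mk' L
  rw [commutator_def, ← QuotientGroup.ker_mk' L, ← Subgroup.map_eq_bot_iff,
    Subgroup.map_commutator, Subgroup.map_top_of_surjective _ (QuotientGroup.mk'_surjective L),
    commutator_eq_bot_iff_le_centralizer]
  have hab : Commute (π a) (π b) := by
    rw [← commutatorElement_eq_one_iff_commute, ← map_commutatorElement]
    exact (QuotientGroup.eq_one_iff _).2 (subset_normalClosure rfl)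
  have hS : closure (π '' {a, b}) = ⊤ := by
    rw [← MonoidHom.map_closure, hgen,
      Subgroup.map_top_of_surjective _ (QuotientGroup.mk'_surjective L)]
  conv_lhs => rw [← hS]
  rw [closure_le]
  have hx : ∀ x ∈ π '' {a, b}, ∀ y ∈ π '' {a, b}, Commute x y := by
    rintro _ ⟨x, hx, rfl⟩ _ ⟨y, hy, rfl⟩
    rcases hx with rfl | rfl <;> rcases hy with rfl | rfl
    · exact Commute.refl _
    · exact hab
    · exact hab.symm
    · exact Commute.refl _
  intro x hxm
  rw [SetLike.mem_coe, ← hS, centralizer_closure, mem_centralizer_iff]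
  exact fun y hy => (hx y hy x hxm).eq

/-- Generators of `⁅⟨a, b⟩, ⟨a, b⟩⁆`. -/
theorem derived_le_closure (a b : G) :
    ⁅closure ({a, b} : Set G), closure ({a, b} : Set G)⁆ ≤
      closure {y | ∃ x ∈ closure ({a, b} : Set G), y = x * ⁅a, b⁆ * x⁻¹} := by
  set K := closure ({a, b} : Set G)
  have ha : a ∈ K := subset_closure (by simp)
  have hb : b ∈ K := subset_closure (by simp)
  have hgen : closure ({⟨a, ha⟩, ⟨b, hb⟩} : Set K) = ⊤ := by
    apply map_injective K.subtype_injective
    rw [MonoidHom.map_closure, Set.image_pair, ← MonoidHom.range_eq_map, range_subtype]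
    rfl
  have h := Subgroup.map_mono (f := K.subtype) (commutator_le_normalClosure hgen)
  rw [commutator_def, Subgroup.map_commutator, ← MonoidHom.range_eq_map, range_subtype] at h
  refine h.trans ?_
  rw [normalClosure, MonoidHom.map_closure]
  refine closure_mono ?_
  rintro _ ⟨y, hy, rfl⟩
  rw [Group.mem_conjugatesOfSet_iff] at hy
  obtain ⟨s, hs, hc⟩ := hy
  obtain ⟨x, hx⟩ := isConj_iff.1 hc
  rw [Set.mem_singleton_iff] at hs
  exact ⟨x, x.2, by rw [← hx, hs]; rfl⟩

variable [Finite G] [Fact p.Prime]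

/-- A non-commuting pair generates more than one generator and the derived subgroup. -/
theorem zpowers_sup_lt (hG : IsPGroup p G) {a b x : G} (hx : x ∈ closure ({a, b} : Set G))
    (hD : ⁅closure ({a, b} : Set G), closure ({a, b} : Set G)⁆ ≠ ⊥) :
    zpowers x ⊔ ⁅closure ({a, b} : Set G), closure ({a, b} : Set G)⁆ < closure ({a, b} : Set G) := by
  set K := closure ({a, b} : Set G)
  have hDK : ⁅K, K⁆ ≤ K := commutator_le_self K
  refine lt_of_le_of_ne (sup_le (zpowers_le.2 hx) hDK) fun e => hD ?_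
  have hmap : (commutator K).map K.subtype = ⁅K, K⁆ := by
    rw [commutator_def, Subgroup.map_commutator, ← MonoidHom.range_eq_map, range_subtype]
  have htop : zpowers (⟨x, hx⟩ : K) ⊔ frattini K = ⊤ := by
    refine top_le_iff.1 (le_trans ?_
      (sup_le_sup_left (commutator_le_frattini (hG.to_subgroup K)) _))
    rw [← Subgroup.map_le_map_iff_of_injective K.subtype_injective, Subgroup.map_sup, hmap,
      MonoidHom.map_zpowers, ← MonoidHom.range_eq_map, range_subtype]
    exact e.ge
  have hz := frattini_nongenerating htop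
  rw [← hmap, Subgroup.map_eq_bot_iff_of_injective _ K.subtype_injective, eq_bot_iff, commutator_def,
    Subgroup.commutator_le]
  intro u _ v _
  rw [mem_bot, commutatorElement_eq_one_iff_mul_comm]
  obtain ⟨i, rfl⟩ := mem_zpowers_iff.1 (show u ∈ zpowers (⟨x, hx⟩ : K) from hz ▸ mem_top u)
  obtain ⟨j, rfl⟩ := mem_zpowers_iff.1 (show v ∈ zpowers (⟨x, hx⟩ : K) from hz ▸ mem_top v)
  exact zpow_mul_comm _ i j

theorem derived_lt (hG : IsPGroup p G) {a b : G}
    (hD : ⁅closure ({a, b} : Set G), closure ({a, b} : Set G)⁆ ≠ ⊥) :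
    ⁅closure ({a, b} : Set G), closure ({a, b} : Set G)⁆ < closure ({a, b} : Set G) :=
  lt_of_le_of_lt le_sup_right (zpowers_sup_lt hG (one_mem _) hD)

omit [Fact p.Prime] in
theorem card_lt_card {H K : Subgroup G} (h : H < K) : Nat.card H < Nat.card K :=
  Set.ncard_lt_ncard (SetLike.coe_ssubset_coe.2 h) (Set.toFinite _)

theorem omega_aux (hG : IsPGroup p G) (hR : RegAt p n G) :
    ∀ (m : ℕ) (H : Subgroup G), Nat.card H ≤ m → ∀ a ∈ H, ∀ b ∈ H,
      a ^ p ^ n = 1 → b ^ p ^ n = 1 → (a * b) ^ p ^ n = 1 := by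
  intro m
  induction m using Nat.strong_induction_on with
  | _ m ih =>
    intro H hH a ha b hb hqa hqb
    set q := p ^ n
    set K := closure ({a, b} : Set G)
    have hKH : K ≤ H := (closure_le _).2 (Set.insert_subset ha (Set.singleton_subset_iff.2 hb))
    by_cases hD : ⁅K, K⁆ = ⊥
    · have hc : a * b = b * a := by
        rw [← commutatorElement_eq_one_iff_mul_comm, ← mem_bot, ← hD]
        exact commutator_mem_commutator (subset_closure (by simp)) (subset_closure (by simp))
      rw [(show Commute a b from hc).mul_pow, hqa, hqb, one_mul]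
    have hm : ∀ {L : Subgroup G}, L < K → Nat.card L < m := fun h =>
      ((card_lt_card h).trans_le (Subgroup.card_le_of_le hKH)).trans_le hH
    have hlt := zpowers_sup_lt hG (subset_closure (by simp) : a ∈ K) hD
    -- the commutator has order dividing q
    have hcq : ⁅a, b⁆ ^ q = 1 := by
      have h1 : ⁅a, b⁆ = a * (b * a⁻¹ * b⁻¹) := by rw [commutatorElement_def]; group
      have hmem : ⁅a, b⁆ ∈ zpowers a ⊔ ⁅K, K⁆ := (le_sup_right : ⁅K, K⁆ ≤ _)
        (commutator_mem_commutator (subset_closure (by simp)) (subset_closure (by simp)))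
      have hmem2 : b * a⁻¹ * b⁻¹ ∈ zpowers a ⊔ ⁅K, K⁆ := by
        rw [show b * a⁻¹ * b⁻¹ = a⁻¹ * ⁅a, b⁆ by rw [h1]; group]
        exact mul_mem (inv_mem ((le_sup_left : zpowers a ≤ _) (mem_zpowers a))) hmem
      rw [h1]
      exact ih _ (hm hlt) _ le_rfl a ((le_sup_left : zpowers a ≤ _) (mem_zpowers a)) _ hmem2 hqa
        (by rw [conj_pow, inv_pow, hqa]; group)
    have hDq : ∀ x ∈ ⁅K, K⁆, x ^ q = 1 := by
      intro x hx
      have h2 := derived_le_closure a b hx
      clear hx
      have key : x ∈ ⁅K, K⁆ ∧ x ^ q = 1 := by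
        induction h2 using closure_induction with
        | mem y hy =>
          obtain ⟨z, hz, rfl⟩ := hy
          refine ⟨?_, by rw [conj_pow, hcq]; group⟩
          have hc : ⁅a, b⁆ ∈ ⁅K, K⁆ :=
            commutator_mem_commutator (subset_closure (by simp)) (subset_closure (by simp))
          have h3 : z * ⁅a, b⁆ * z⁻¹ = ⁅z, ⁅a, b⁆⁆ * ⁅a, b⁆ := by
            rw [commutatorElement_def z]; group
          rw [h3]
          exact mul_mem (commutator_mem_commutator hz (commutator_le_self K hc)) hc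
        | one => exact ⟨one_mem _, one_pow _⟩
        | mul u v _ _ hu hv =>
          exact ⟨mul_mem hu.1 hv.1,
            ih _ (hm (derived_lt hG hD)) _ le_rfl u hu.1 v hv.1 hu.2 hv.2⟩
        | inv u _ hu => exact ⟨inv_mem hu.1, by rw [inv_pow, hu.2, inv_one]⟩
      exact key.2
    obtain ⟨c, hc, he⟩ := hR a b
    rw [powerClosure_eq_bot hDq, mem_bot] at hc
    rw [he, hc, hqa, hqb, one_mul, one_mul]

theorem omega_mul (hG : IsPGroup p G) (hR : RegAt p n G) {a b : G} (ha : a ^ p ^ n = 1)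
    (hb : b ^ p ^ n = 1) : (a * b) ^ p ^ n = 1 :=
  omega_aux hG hR _ ⊤ le_rfl a (mem_top a) b (mem_top b) ha hb

theorem pow_eq_one_of_commutator (hG : IsPGroup p G) (hR : RegAt p n G) {a b : G}
    (hc : ⁅a, b⁆ ^ p ^ n = 1) :
    ∀ x ∈ ⁅closure ({a, b} : Set G), closure ({a, b} : Set G)⁆, x ^ p ^ n = 1 := by
  intro x hx
  have h2 := derived_le_closure a b hx
  clear hx
  induction h2 using closure_induction with
  | mem y hy =>
    obtain ⟨z, -, rfl⟩ := hy
    rw [conj_pow, hc]; group
  | one => exact one_pow _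
  | mul u v _ _ hu hv => exact omega_mul hG hR hu hv
  | inv u _ hu => rw [inv_pow, hu, inv_one]

theorem pow_eq_pow_of_inv_mul (hG : IsPGroup p G) (hR : RegAt p n G) {a b : G}
    (h : (a⁻¹ * b) ^ p ^ n = 1) : a ^ p ^ n = b ^ p ^ n := by
  obtain ⟨t, rfl⟩ : ∃ t, a * t = b := ⟨a⁻¹ * b, mul_inv_cancel_left a b⟩
  rw [inv_mul_cancel_left] at h
  have hc : ⁅a, t⁆ ^ p ^ n = 1 := by
    rw [show ⁅a, t⁆ = a * t * a⁻¹ * t⁻¹ from commutatorElement_def a t]
    refine omega_mul hG hR ?_ (by rw [inv_pow, h, inv_one])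
    rw [conj_pow, h]; group
  obtain ⟨c, hcm, he⟩ := hR a t
  rw [powerClosure_eq_bot (pow_eq_one_of_commutator hG hR hc), mem_bot] at hcm
  rw [he, hcm, h, mul_one, mul_one]

theorem inv_mul_pow_aux (hG : IsPGroup p G) (hR : RegAt p n G) :
    ∀ (m : ℕ) (H : Subgroup G), Nat.card H ≤ m → ∀ a ∈ H, ∀ b ∈ H,
      a ^ p ^ n = b ^ p ^ n → (a⁻¹ * b) ^ p ^ n = 1 := by
  intro m
  induction m using Nat.strong_induction_on with
  | _ m ih =>
    intro H hH a ha b hb hq
    set q := p ^ n
    set K := closure ({a, b} : Set G)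
    have hKH : K ≤ H := (closure_le _).2 (Set.insert_subset ha (Set.singleton_subset_iff.2 hb))
    have haK : a ∈ K := subset_closure (by simp)
    have hbK : b ∈ K := subset_closure (by simp)
    by_cases hD : ⁅K, K⁆ = ⊥
    · have hc : a⁻¹ * b = b * a⁻¹ := by
        rw [← commutatorElement_eq_one_iff_mul_comm, ← mem_bot, ← hD]
        exact commutator_mem_commutator (inv_mem haK) hbK
      rw [(show Commute a⁻¹ b from hc).mul_pow, inv_pow, hq, inv_mul_cancel]
    have hlt := zpowers_sup_lt hG haK hD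
    have hmem : b * a * b⁻¹ ∈ zpowers a ⊔ ⁅K, K⁆ := by
      rw [show b * a * b⁻¹ = ⁅b, a⁆ * a by rw [commutatorElement_def]; group]
      exact mul_mem ((le_sup_right : ⁅K, K⁆ ≤ _) (commutator_mem_commutator hbK haK))
        ((le_sup_left : zpowers a ≤ _) (mem_zpowers a))
    have h1 := ih _ (((card_lt_card hlt).trans_le (Subgroup.card_le_of_le hKH)).trans_le hH) _ le_rfl
      a ((le_sup_left : zpowers a ≤ _) (mem_zpowers a)) _ hmem (by
        rw [conj_pow, hq, ← (Commute.refl b).pow_right q |>.eq.symm]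
        group)
    have h2 : ⁅a⁻¹, b⁆ ^ q = 1 := by
      rw [show ⁅a⁻¹, b⁆ = a⁻¹ * (b * a * b⁻¹) by rw [commutatorElement_def]; group]
      exact h1
    obtain ⟨c, hcm, he⟩ := hR a⁻¹ b
    rw [powerClosure_eq_bot (pow_eq_one_of_commutator hG hR h2), mem_bot] at hcm
    rw [he, hcm, inv_pow, hq, inv_mul_cancel, one_mul]

theorem pow_eq_pow_iff (hG : IsPGroup p G) (hR : RegAt p n G) (a b : G) :
    a ^ p ^ n = b ^ p ^ n ↔ (a⁻¹ * b) ^ p ^ n = 1 :=
  ⟨fun h => inv_mul_pow_aux hG hR _ ⊤ le_rfl a (mem_top a) b (mem_top b) h,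
    fun h => pow_eq_pow_of_inv_mul hG hR h⟩

theorem commute_pow_iff (hG : IsPGroup p G) (hR : RegAt p n G) (a b : G) :
    a ^ p ^ n * b = b * a ^ p ^ n ↔ (a⁻¹ * b⁻¹ * a * b) ^ p ^ n = 1 := by
  have h := pow_eq_pow_iff hG hR a (b⁻¹ * a * b)
  rw [show a⁻¹ * (b⁻¹ * a * b) = a⁻¹ * b⁻¹ * a * b by group] at h
  rw [← h, show (b⁻¹ * a * b) ^ p ^ n = b⁻¹ * a ^ p ^ n * b by
    have := conj_pow (i := p ^ n) (a := b⁻¹) (b := a); rwa [inv_inv] at this]
  constructor
  · intro e; rw [mul_assoc, e, inv_mul_cancel_left]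
  · intro e
    conv_rhs => rw [e, ← mul_assoc, mul_inv_cancel_left]

theorem mem_powerClosure_aux (hG : IsPGroup p G) (hR : RegAt p n G) :
    ∀ (m : ℕ) (H : Subgroup G), Nat.card H ≤ m →
      ∀ y ∈ powerClosure p n H, ∃ x ∈ H, y = x ^ p ^ n := by
  intro m
  induction m using Nat.strong_induction_on with
  | _ m ih =>
    intro H hH y hy
    induction hy using closure_induction with
    | mem y hy => exact hy
    | one => exact ⟨1, one_mem H, (one_pow _).symm⟩
    | inv u _ hu =>
      obtain ⟨x, hx, rfl⟩ := hu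
      exact ⟨x⁻¹, inv_mem hx, (inv_pow _ _).symm⟩
    | mul u v _ _ hu hv =>
      obtain ⟨a, ha, rfl⟩ := hu
      obtain ⟨b, hb, rfl⟩ := hv
      set K := closure ({a, b} : Set G)
      have hKH : K ≤ H := (closure_le _).2 (Set.insert_subset ha (Set.singleton_subset_iff.2 hb))
      have haK : a ∈ K := subset_closure (by simp)
      have hbK : b ∈ K := subset_closure (by simp)
      by_cases hD : ⁅K, K⁆ = ⊥
      · have hc : a * b = b * a := by
          rw [← commutatorElement_eq_one_iff_mul_comm, ← mem_bot, ← hD]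
          exact commutator_mem_commutator haK hbK
        exact ⟨a * b, mul_mem ha hb, ((show Commute a b from hc).mul_pow _).symm⟩
      have hm : ∀ {L : Subgroup G}, L < K → Nat.card L < m := fun h =>
        ((card_lt_card h).trans_le (Subgroup.card_le_of_le hKH)).trans_le hH
      obtain ⟨c, hc, he⟩ := hR a b
      obtain ⟨e, heD, hce⟩ := ih _ (hm (derived_lt hG hD)) _ le_rfl _ (inv_mem hc)
      have hab : a * b ∈ K := mul_mem haK hbK
      have hlt := zpowers_sup_lt hG hab hD
      obtain ⟨f, hf, hfe⟩ := ih _ (hm hlt) _ le_rfl ((a * b) ^ p ^ n * e ^ p ^ n)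
        (mul_mem
          (subset_closure ⟨a * b, (le_sup_left : zpowers (a * b) ≤ _) (mem_zpowers _), rfl⟩)
          (subset_closure ⟨e, (le_sup_right : ⁅K, K⁆ ≤ _) heD, rfl⟩))
      refine ⟨f, hKH (hlt.le hf), ?_⟩
      rw [← hfe, ← hce, he, mul_inv_cancel_right]

theorem mem_powerClosure (hG : IsPGroup p G) (hR : RegAt p n G) {H : Subgroup G} {y : G}
    (hy : y ∈ powerClosure p n H) : ∃ x ∈ H, y = x ^ p ^ n :=
  mem_powerClosure_aux hG hR _ H le_rfl y hy

theorem commutator_powerClosure_top (hG : IsPGroup p G) (hR : RegAt p n G) :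
    ⁅powerClosure p n (⊤ : Subgroup G), powerClosure p n (⊤ : Subgroup G)⁆ ≤
      powerClosure p n (commutator G) := by
  set N := powerClosure p n (commutator G)
  haveI hN : N.Normal := ⟨fun y hy g => by
    have h1 := mem_map_of_mem (MulAut.conj g).toMonoidHom hy
    rwa [map_powerClosure, Subgroup.characteristic_iff_map_eq.1 inferInstance] at h1⟩
  have hGq : IsPGroup p (G ⧸ N) := hG.to_quotient N
  have hRq := hR.quotient N
  set π := QuotientGroup.mk' N
  rw [Subgroup.commutator_le]
  intro u hu v hv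
  obtain ⟨a, -, rfl⟩ := mem_powerClosure hG hR hu
  obtain ⟨b, -, rfl⟩ := mem_powerClosure hG hR hv
  rw [← QuotientGroup.eq_one_iff]
  show π ⁅a ^ p ^ n, b ^ p ^ n⁆ = 1
  rw [map_commutatorElement, commutatorElement_eq_one_iff_commute, map_pow, map_pow]
  refine Commute.pow_right ?_ _
  refine (commute_pow_iff hGq hRq (π a) (π b)).2 ?_
  rw [← map_inv, ← map_inv, ← map_mul, ← map_mul, ← map_mul, ← map_pow]
  refine (QuotientGroup.eq_one_iff _).2 (subset_closure ⟨_, ?_, rfl⟩)
  have := commutator_mem_commutator (mem_top a⁻¹) (mem_top b⁻¹)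
  rw [← commutator_def] at this
  rwa [show a⁻¹ * b⁻¹ * a * b = ⁅a⁻¹, b⁻¹⁆ by rw [commutatorElement_def, inv_inv, inv_inv]]

theorem commutator_powerClosure (hG : IsPGroup p G) (hR : RegAt p n G) (H : Subgroup G) :
    ⁅powerClosure p n H, powerClosure p n H⁆ ≤ powerClosure p n ⁅H, H⁆ := by
  have h := Subgroup.map_mono (f := H.subtype)
    (commutator_powerClosure_top (hG.to_subgroup H) (hR.subgroup H))
  rwa [Subgroup.map_commutator, map_powerClosure, map_powerClosure, commutator_def,
    Subgroup.map_commutator, ← MonoidHom.range_eq_map, range_subtype] at h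

/-- Kemhadze: the formula at exponent `p` gives it at all exponents. -/
theorem regAt_of_one (hG : IsPGroup p G) (h1 : RegAt p 1 G) : ∀ n, RegAt p n G := by
  intro n
  induction n with
  | zero => exact fun a b => ⟨1, one_mem _, by simp⟩
  | succ n ih =>
    intro a b
    set K := closure ({a, b} : Set G)
    set D := ⁅K, K⁆
    obtain ⟨c, hc, he⟩ := ih a b
    have hpp : ∀ x : G, x ^ p ^ (n + 1) = (x ^ p ^ n) ^ p := fun x => by rw [pow_succ, pow_mul]
    have hpowK : ∀ x ∈ K, x ^ p ^ n ∈ powerClosure p n K := fun x hx =>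
      subset_closure ⟨x, hx, rfl⟩
    have hcK : c ∈ powerClosure p n K := powerClosure_mono (commutator_le_self K) hc
    -- every p-th power from the derived subgroup of ℧ⁿ(K) lies in ℧ⁿ⁺¹(D)
    have hsmall : ∀ x ∈ powerClosure p n K, ∀ y ∈ powerClosure p n K,
        ∃ z ∈ powerClosure p (n + 1) D, (x * y) ^ p = x ^ p * y ^ p * z := by
      intro x hx y hy
      obtain ⟨z, hz, hzeq⟩ := h1 x y
      obtain ⟨w, hw, rfl⟩ := mem_powerClosure hG h1 hz
      rw [pow_one] at hzeq
      refine ⟨w ^ p, ?_, hzeq⟩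
      have hle : closure ({x, y} : Set G) ≤ powerClosure p n K :=
        (closure_le _).2 (Set.insert_subset hx (Set.singleton_subset_iff.2 hy))
      have hwn := (commutator_powerClosure hG ih K) (Subgroup.commutator_mono hle hle hw)
      obtain ⟨v, hv, rfl⟩ := mem_powerClosure hG ih hwn
      exact subset_closure ⟨v, hv, (hpp v).symm⟩
    have haK : a ∈ K := subset_closure (by simp)
    have hbK : b ∈ K := subset_closure (by simp)
    obtain ⟨z1, hz1, e1⟩ := hsmall _ (hpowK a haK) (b ^ p ^ n * c) (mul_mem (hpowK b hbK) hcK)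
    obtain ⟨z2, hz2, e2⟩ := hsmall _ (hpowK b hbK) c hcK
    have hc3 : c ^ p ∈ powerClosure p (n + 1) D := by
      obtain ⟨v, hv, rfl⟩ := mem_powerClosure hG ih hc
      exact subset_closure ⟨v, hv, (hpp v).symm⟩
    refine ⟨c ^ p * z2 * z1, mul_mem (mul_mem hc3 hz2) hz1, ?_⟩
    rw [hpp, hpp, hpp, he, mul_assoc (a ^ p ^ n), e1, e2]
    group

end Cfsg.Agent.FGS3.Regular
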