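import Cfsg.Agent.Screen.AutAltSix

/-!
Almost alternating groups: Sylow subgroups and elements of order `pq`.
-/

set_option autoImplicit false
set_option linter.unusedSectionVars false

namespace Cfsg.Agent.FGS3.AlmostAlternating

open Equiv Subgroup

/-- A product of two disjoint three-cycles. -/
def dbl : Perm (Fin 6) := swap 0 1 * swap 1 2 * (swap 3 4 * swap 4 5)
/-- An odd permutation commuting with it. -/
def tau : Perm (Fin 6) := swap 0 3 * swap 1 4 * swap 2 5

theorem dbl_type : dbl.cycleType = {3, 3} := by decide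

theorem tau_spec : tau * dbl = dbl * tau ∧ Equiv.Perm.sign tau = -1 := by decide

theorem three_type {x : Perm (Fin 6)} (hx : orderOf x = 3) : x.IsThreeCycle ∨ x.cycleType = {3, 3} := by
  obtain ⟨j, hj⟩ := Equiv.Perm.cycleType_prime_order (σ := x) (by rw [hx]; exact Nat.prime_three)
  rw [hx] at hj
  have hle : (j + 1) * 3 ≤ 6 := by
    have h := Finset.card_le_univ x.support
    rwa [← Equiv.Perm.sum_cycleType, hj, Multiset.sum_replicate, Fintype.card_fin, smul_eq_mul] at h
  obtain rfl | rfl : j = 0 ∨ j = 1 := by omega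
  · exact Or.inl hj
  · exact Or.inr hj

theorem conj_of_double (x y : alternatingGroup (Fin 6)) (hx : (x : Perm (Fin 6)).cycleType = {3, 3})
    (hy : (y : Perm (Fin 6)).cycleType = {3, 3}) : IsConj x y := by
  obtain ⟨ρ, hρ⟩ := isConj_iff.1 (Equiv.Perm.isConj_iff_cycleType_eq.2 (dbl_type.trans hx.symm))
  obtain ⟨π, hπ⟩ := isConj_iff.1 (Equiv.Perm.isConj_iff_cycleType_eq.2 (hx.trans hy.symm))
  rcases Int.units_eq_one_or (Equiv.Perm.sign π) with h | h
  · exact isConj_iff.2 ⟨⟨π, Equiv.Perm.mem_alternatingGroup.2 h⟩, Subtype.ext hπ⟩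
  · refine isConj_iff.2 ⟨⟨π * (ρ * tau * ρ⁻¹), Equiv.Perm.mem_alternatingGroup.2 ?_⟩, Subtype.ext ?_⟩
    · rw [map_mul, map_mul, map_mul, map_inv, tau_spec.2, h,
        mul_comm (Equiv.Perm.sign ρ), mul_inv_cancel_right]
      rfl
    · show π * (ρ * tau * ρ⁻¹) * (x : Perm (Fin 6)) * (π * (ρ * tau * ρ⁻¹))⁻¹ = (y : Perm (Fin 6))
      have e : ρ * tau * ρ⁻¹ * (x : Perm (Fin 6)) * (ρ * tau * ρ⁻¹)⁻¹ = x := by
        rw [← hρ, show ρ * tau * ρ⁻¹ * (ρ * dbl * ρ⁻¹) * (ρ * tau * ρ⁻¹)⁻¹ = ρ * (tau * dbl) * tau⁻¹ * ρ⁻¹ by group,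
          tau_spec.1]
        group
      rw [← hπ]
      calc π * (ρ * tau * ρ⁻¹) * (x : Perm (Fin 6)) * (π * (ρ * tau * ρ⁻¹))⁻¹
          = π * (ρ * tau * ρ⁻¹ * (x : Perm (Fin 6)) * (ρ * tau * ρ⁻¹)⁻¹) * π⁻¹ := by group
        _ = π * (x : Perm (Fin 6)) * π⁻¹ := by rw [e]

/-- `θ` maps three-cycles to three-cycles. -/
def Pres {n : ℕ} (θ : MulAut (alternatingGroup (Fin n))) : Prop :=
  ∀ x : alternatingGroup (Fin n), (x : Perm (Fin n)).IsThreeCycle →
    ((θ x : alternatingGroup (Fin n)) : Perm (Fin n)).IsThreeCycle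

theorem isConj_stable {n : ℕ} {u v : alternatingGroup (Fin n)} (h : IsConj u v) :
    (u : Perm (Fin n)).cycleType = (v : Perm (Fin n)).cycleType := by
  obtain ⟨g, hg⟩ := isConj_iff.1 h
  rw [← hg, Subgroup.coe_mul, Subgroup.coe_mul, Subgroup.coe_inv, Equiv.Perm.cycleType_conj]

theorem orderOf_image {n : ℕ} (θ : MulAut (alternatingGroup (Fin n))) (x : alternatingGroup (Fin n)) :
    orderOf ((θ x : alternatingGroup (Fin n)) : Perm (Fin n)) = orderOf (x : Perm (Fin n)) := by
  rw [Subgroup.orderOf_coe, MulEquiv.orderOf_eq, Subgroup.orderOf_coe]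

theorem three_ne_double {x : Perm (Fin 6)} (h1 : x.IsThreeCycle) (h2 : x.cycleType = {3, 3}) : False := by
  have := h1.cycleType
  rw [h2] at this
  exact absurd (congrArg Multiset.card this) (by simp)

theorem double_order {x : Perm (Fin 6)} (h : x.cycleType = {3, 3}) : orderOf x = 3 := by
  rw [← Equiv.Perm.lcm_cycleType, h]; decide

theorem not_pres_flips {θ : MulAut (alternatingGroup (Fin 6))} (h : ¬ Pres θ)
    (x : alternatingGroup (Fin 6)) (hx : (x : Perm (Fin 6)).IsThreeCycle) :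
    ((θ x : alternatingGroup (Fin 6)) : Perm (Fin 6)).cycleType = {3, 3} := by
  simp only [Pres, not_forall] at h
  obtain ⟨c, hc, hθc⟩ := h
  have h1 := (three_type (by rw [orderOf_image, hc.orderOf])).resolve_left hθc
  rw [← h1]
  exact isConj_stable (θ.toMonoidHom.map_isConj (alternatingGroup.isThreeCycle_isConj (by simp) hx hc))

theorem pres_mul_of_not_pres {θ η : MulAut (alternatingGroup (Fin 6))} (hθ : ¬ Pres θ) (hη : ¬ Pres η) :
    Pres (θ * η) := by
  intro x hx
  have hd := not_pres_flips hη x hx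
  refine (three_type (by rw [orderOf_image, hx.orderOf])).resolve_right fun h => ?_
  -- `θ` maps a three-cycle and a double three-cycle to conjugate elements
  have h1 := not_pres_flips hθ x hx
  have hconj : IsConj (θ x) (θ (η x)) := conj_of_double _ _ h1 (by rwa [MulAut.mul_apply] at h)
  have h2 := θ.symm.toMonoidHom.map_isConj hconj
  rw [show θ.symm.toMonoidHom (θ x) = x from θ.symm_apply_apply x,
    show θ.symm.toMonoidHom (θ (η x)) = η x from θ.symm_apply_apply _] at h2
  exact three_ne_double hx ((isConj_stable h2).trans hd)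

/-- An automorphism of odd order is induced by a permutation. -/
theorem exists_perm {n : ℕ} (hn : 5 ≤ n) (θ : MulAut (alternatingGroup (Fin n))) {k : ℕ} (hk : Odd k)
    (hθ : θ ^ k = 1) : ∃ g : Perm (Fin n), MulAut.conjNormal g = θ := by
  rcases eq_or_ne n 6 with rfl | h6
  · refine (Screen.AutAltSix.conjNormal_injective_and_onto 6 (by norm_num)).2 θ ?_
    by_contra hnp
    change ¬ Pres θ at hnp
    have h2 : Pres (θ ^ 2) := by rw [sq]; exact pres_mul_of_not_pres hnp hnp
    have heven : ∀ j : ℕ, Pres (θ ^ (2 * j)) := by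
      intro j
      induction j with
      | zero => intro x hx; simpa using hx
      | succ j ih =>
        intro x hx
        rw [Nat.mul_succ, pow_add, MulAut.mul_apply]
        exact ih _ (h2 x hx)
    obtain ⟨j, rfl⟩ := hk
    apply hnp
    intro x hx
    -- `θ = (θ ^ (2 j))⁻¹` preserves three-cycles
    refine (three_type (by rw [orderOf_image, hx.orderOf])).resolve_right fun h => ?_
    have h1 : (θ ^ (2 * j)) (θ x) = x := by
      rw [← MulAut.mul_apply, ← pow_succ, hθ, MulAut.one_apply]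
    set y : alternatingGroup (Fin 6) := θ x
    obtain ⟨c, hc⟩ : ∃ c : alternatingGroup (Fin 6), (c : Perm (Fin 6)).IsThreeCycle := ⟨x, hx⟩
    -- the image of `x` under the preserving power is a three-cycle
    have h3 := heven j x hx
    have h4 : IsConj ((θ ^ (2 * j)) x) x := alternatingGroup.isThreeCycle_isConj (by simp) h3 hx
    rw [← h1] at h4
    have h5 := (θ ^ (2 * j)).symm.toMonoidHom.map_isConj h4
    rw [show (θ ^ (2 * j)).symm.toMonoidHom ((θ ^ (2 * j)) y) = y from (θ ^ (2 * j)).symm_apply_apply y,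
      show (θ ^ (2 * j)).symm.toMonoidHom ((θ ^ (2 * j)) ((θ ^ (2 * j)) y)) = (θ ^ (2 * j)) y from
        (θ ^ (2 * j)).symm_apply_apply _] at h5
    rw [h1] at h5
    exact three_ne_double hx ((isConj_stable h5).trans h)
  · obtain ⟨g, hg⟩ := (Suzuki.AutAlt.bijective_conjNormal n (by omega) h6).2 θ
    exact ⟨g, hg⟩

theorem conjNormal_injective {n : ℕ} (hn : 5 ≤ n) :
    Function.Injective (MulAut.conjNormal : Perm (Fin n) →* MulAut (alternatingGroup (Fin n))) :=
  (Screen.AutAltSix.conjNormal_injective_and_onto n (by omega)).1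

variable {n : ℕ}

/-- A `q`-group of permutations of fewer than `q²` points is commutative. -/
theorem comm_of_lt_sq {q : ℕ} [hq : Fact q.Prime] {Q : Subgroup (Perm (Fin n))} (hQ : IsPGroup q Q)
    (hn : n < q ^ 2) : IsMulCommutative Q := by
  refine ⟨⟨fun a b => ?_⟩⟩
  apply Subtype.ext
  refine Equiv.ext fun x => ?_
  -- the orbit of `x`
  set O := MulAction.orbit Q x
  obtain ⟨k, hk⟩ := hQ.card_orbit x
  have hk1 : k ≤ 1 := by
    have h1 : Nat.card O ≤ n := (Nat.card_le_card_of_injective _ Subtype.val_injective).trans (Nat.card_fin n).le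
    by_contra h
    rw [hk] at h1
    have := Nat.pow_le_pow_right hq.out.pos (show 2 ≤ k by omega)
    omega
  let f : Q →* Perm O := MulAction.toPermHom Q O
  have hf : IsPGroup q f.range := hQ.of_surjective f.rangeRestrict f.rangeRestrict_surjective
  obtain ⟨j, hj⟩ := IsPGroup.iff_card.mp hf
  have hd : Nat.card f.range ∣ Nat.factorial (q ^ k) := by
    rw [← hk, ← Nat.card_perm]; exact card_subgroup_dvd_card _
  haveI : IsCyclic f.range := by
    have hj1 : j ≤ 1 := by
      rw [hj] at hd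
      have h2 := (hq.out.pow_dvd_iff_le_factorization (Nat.factorial_ne_zero _)).mp hd
      interval_cases k
      · simp at h2; omega
      · rw [pow_one] at h2
        have h3 : (Nat.factorial q).factorization q = 1 := by
          obtain ⟨m, hm⟩ : ∃ m, q = m + 1 := ⟨q - 1, by have := hq.out.pos; omega⟩
          conv_lhs => arg 1; arg 1; rw [hm]
          rw [Nat.factorial_succ, ← hm, Nat.factorization_mul hq.out.ne_zero
            (Nat.factorial_ne_zero _), Finsupp.add_apply,
            hq.out.factorization_self, Nat.factorization_eq_zero_of_not_dvd]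
          rw [hq.out.dvd_factorial]
          have := hq.out.pos
          omega
        omega
    interval_cases j
    · haveI : Subsingleton f.range := (Nat.card_eq_one_iff_unique.mp (by simpa using hj)).1
      infer_instance
    · exact isCyclic_of_prime_card (by simpa using hj)
  letI : CommGroup f.range := IsCyclic.commGroup
  have h1 := congrArg Subtype.val (mul_comm (f.rangeRestrict a) (f.rangeRestrict b))
  have h2 : f (a * b) = f (b * a) := by rw [map_mul, map_mul]; exact h1
  exact congrArg Subtype.val (congrArg (fun σ : Perm O => σ ⟨x, MulAction.mem_orbit_self x⟩) h2)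

/-- An even permutation of order `m`, given by its cycle type. -/
theorem exists_even_order (s : Multiset ℕ) (hs : s.sum ≤ n) (h2 : ∀ a ∈ s, 2 ≤ a)
    (hsign : Even (s.sum + Multiset.card s)) : ∃ g : alternatingGroup (Fin n), orderOf g = s.lcm := by
  obtain ⟨g, hg⟩ := (Equiv.Perm.exists_with_cycleType_iff (α := Fin n)).mpr ⟨by rwa [Fintype.card_fin], h2⟩
  refine ⟨⟨g, Equiv.Perm.mem_alternatingGroup.mpr ?_⟩, ?_⟩
  · rw [Equiv.Perm.sign_of_cycleType, hg]; exact hsign.neg_one_pow
  · rw [Subgroup.orderOf_mk, ← Equiv.Perm.lcm_cycleType, hg]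

variable {G : Subgroup (MulAut (alternatingGroup (Fin n)))}

theorem exists_orderOf (hn : 5 ≤ n)
    (hG : (MulAut.conj : alternatingGroup (Fin n) →* MulAut (alternatingGroup (Fin n))).range ≤ G)
    (a : alternatingGroup (Fin n)) : ∃ g : G, orderOf g = orderOf a := by
  have he : MulAut.conj a = MulAut.conjNormal (a : Perm (Fin n)) :=
    MulEquiv.ext fun b => Subtype.ext (by rw [MulAut.conjNormal_apply]; rfl)
  refine ⟨⟨MulAut.conj a, hG ⟨a, rfl⟩⟩, ?_⟩
  rw [Subgroup.orderOf_mk, he, orderOf_injective _ (conjNormal_injective hn), Subgroup.orderOf_coe]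

theorem sylow_comm (hn : 5 ≤ n) {q : ℕ} [hq : Fact q.Prime] (hq2 : q ≠ 2) (hlt : n < q ^ 2) (Q : Sylow q G) :
    IsMulCommutative (Q : Subgroup G) := by
  set φ : Perm (Fin n) →* MulAut (alternatingGroup (Fin n)) := MulAut.conjNormal
  set Q' : Subgroup (MulAut (alternatingGroup (Fin n))) := (Q : Subgroup G).map G.subtype
  have hle : Q' ≤ φ.range := by
    intro θ hθ
    obtain ⟨k, hk⟩ := IsPGroup.iff_orderOf.mp (Q.2.map G.subtype) ⟨θ, hθ⟩
    rw [Subgroup.orderOf_mk] at hk
    exact exists_perm hn θ ((hq.out.odd_of_ne_two hq2).pow (n := k)) (hk ▸ pow_orderOf_eq_one θ)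
  haveI := comm_of_lt_sq ((Q.2.map G.subtype).comap_of_injective φ (conjNormal_injective hn)) hlt
  refine ⟨⟨fun a b => ?_⟩⟩
  have ha : G.subtype a ∈ Q' := mem_map_of_mem _ a.2
  have hb : G.subtype b ∈ Q' := mem_map_of_mem _ b.2
  obtain ⟨a', ha'⟩ := hle ha
  obtain ⟨b', hb'⟩ := hle hb
  have h := congrArg (fun c : Q'.comap φ => φ c) (IsMulCommutative.is_comm.comm
    (⟨a', by rw [mem_comap, ha']; exact ha⟩ : Q'.comap φ) ⟨b', by rw [mem_comap, hb']; exact hb⟩)
  simp only [Subgroup.coe_mul, map_mul, ha', hb'] at h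
  exact Subtype.ext (Subtype.ext h)

theorem main (n : ℕ) (hn : 5 ≤ n) (G : Subgroup (MulAut (alternatingGroup (Fin n))))
    (hG : (MulAut.conj : alternatingGroup (Fin n) →* MulAut (alternatingGroup (Fin n))).range ≤ G)
    (p q : ℕ) [hp : Fact p.Prime] [hq : Fact q.Prime] (hpq : p ≠ q) (h : ∀ g : G, orderOf g ≠ p * q) :
    (∀ P : Sylow p G, IsMulCommutative (P : Subgroup G)) ∨ (∀ Q : Sylow q G, IsMulCommutative (Q : Subgroup G)) := by
  by_contra! hno
  obtain ⟨⟨P, hP⟩, ⟨Q, hQ⟩⟩ := hno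
  have noelt : ∀ s : Multiset ℕ, s.sum ≤ n → (∀ a ∈ s, 2 ≤ a) → Even (s.sum + Multiset.card s) →
      s.lcm = p * q → False := by
    intro s h1 h2 h3 h4
    obtain ⟨a, ha⟩ := exists_even_order s h1 h2 h3
    obtain ⟨g, hg⟩ := exists_orderOf hn hG a
    exact h g (by rw [hg, ha, h4])
  have mixed : ∀ r : ℕ, r.Prime → r ≠ 2 → r ^ 2 ≤ n → r * 2 = p * q → False := by
    intro r hr hr2 hrn hr'
    have h3 : 3 ≤ r := by have := hr.two_le; omega
    refine noelt {r, 2, 2} ?_ ?_ ?_ ?_
    · simp only [Multiset.insert_eq_cons, Multiset.sum_cons, Multiset.sum_singleton]; nlinarith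
    · intro a ha
      simp only [Multiset.insert_eq_cons, Multiset.mem_cons, Multiset.mem_singleton] at ha
      omega
    · obtain ⟨j, rfl⟩ := hr.odd_of_ne_two hr2
      exact ⟨j + 4, by simp; omega⟩
    · rw [← hr']
      simp only [Multiset.insert_eq_cons, Multiset.lcm_cons, Multiset.lcm_singleton, normalize_eq, lcm_same,
        lcm_eq_nat_lcm]
      exact Nat.Coprime.lcm_eq_mul ((Nat.coprime_primes hr Nat.prime_two).mpr hr2)
  have big : ∀ r : ℕ, [Fact r.Prime] → r ≠ 2 → (∃ R : Sylow r G, ¬ IsMulCommutative (R : Subgroup G)) →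
      r ^ 2 ≤ n := by
    intro r hr hr2 ⟨R, hR⟩
    by_contra hlt
    exact hR (sylow_comm hn hr2 (by omega) R)
  rcases eq_or_ne p 2 with hp2 | hp2
  · exact mixed q hq.out (by omega) (big q (by omega) ⟨Q, hQ⟩) (by rw [hp2, mul_comm])
  rcases eq_or_ne q 2 with hq2 | hq2
  · exact mixed p hp.out hp2 (big p hp2 ⟨P, hP⟩) (by rw [hq2])
  have hpn := big p hp2 ⟨P, hP⟩
  have hqn := big q hq2 ⟨Q, hQ⟩
  have hp3 : 3 ≤ p := by have := hp.out.two_le; omega
  have hq3 : 3 ≤ q := by have := hq.out.two_le; omega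
  refine noelt {p, q} ?_ ?_ ?_ ?_
  · simp only [Multiset.insert_eq_cons, Multiset.sum_cons, Multiset.sum_singleton]
    rcases Nat.lt_or_ge p q with hlt | hge <;> nlinarith
  · intro a ha
    simp only [Multiset.insert_eq_cons, Multiset.mem_cons, Multiset.mem_singleton] at ha
    omega
  · obtain ⟨i, hi⟩ := hp.out.odd_of_ne_two hp2
    obtain ⟨j, hj⟩ := hq.out.odd_of_ne_two hq2
    exact ⟨i + j + 2, by simp; omega⟩
  · simp only [Multiset.insert_eq_cons, Multiset.lcm_cons, Multiset.lcm_singleton, normalize_eq,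
      lcm_eq_nat_lcm]
    exact Nat.Coprime.lcm_eq_mul ((Nat.coprime_primes hp.out hq.out).mpr hpq)

end Cfsg.Agent.FGS3.AlmostAlternating
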