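import Cfsg.Agent.FGS4.Zass.Structure
import Cfsg.Agent.FGS3.PGroupFrattini
import Cfsg.Agent.Core.MinimalNormal
import Cfsg.Agent.Core.Fitting
import Mathlib

/-!
# Coprime automorphisms of solvable Frobenius complements commute
-/

set_option autoImplicit false

namespace Cfsg.Agent.FGS3.ComplementAut

open Cfsg

/-- An automorphism of order prime to `p` trivial on the Frattini quotient is trivial. -/
theorem eq_one_of_frattini {P : Type*} [Group P] [Finite P] {p : ℕ} [hp : Fact p.Prime]
    (hP : IsPGroup p P) (σ : MulAut P) (hσ : (orderOf σ).Coprime p)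
    (h : ∀ x : P, x⁻¹ * σ x ∈ frattini P) : σ = 1 := by
  classical
  by_contra hne
  haveI : Finite (MulAut P) := Finite.of_injective (fun e : MulAut P => (e : P → P)) DFunLike.coe_injective
  obtain ⟨r, hr, hrd⟩ := Nat.exists_prime_and_dvd (mt orderOf_eq_one_iff.mp hne)
  haveI := Fact.mk hr
  haveI hpow : ∀ (n : ℕ) (x : P), x⁻¹ * (σ ^ n) x ∈ frattini P := by
    intro n
    induction n with
    | zero => intro x; simp [one_mem]
    | succ n ih =>
      intro x
      rw [pow_succ, MulAut.mul_apply]
      have := (frattini P).mul_mem (h x) (ih (σ x))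
      simpa [mul_assoc] using this
  set τ := σ ^ (orderOf σ / r) with hτ
  have hτo : orderOf τ = r := orderOf_pow_orderOf_div (orderOf_pos σ).ne' hrd
  have hrp : r ≠ p := fun e => hp.out.ne_one (Nat.eq_one_of_dvd_coprimes hσ (e ▸ hrd) dvd_rfl)
  let C : Subgroup P :=
    { carrier := {x | τ x = x}
      one_mem' := map_one τ
      mul_mem' := fun {a b} ha hb => by
        show τ (a * b) = a * b
        rw [map_mul, show τ a = a from ha, show τ b = b from hb]
      inv_mem' := fun {a} ha => by
        show τ a⁻¹ = a⁻¹
        rw [map_inv, show τ a = a from ha] }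
  suffices hC : C = ⊤ by
    have h1 : τ = 1 := MulEquiv.ext fun x => (hC ▸ Subgroup.mem_top x : x ∈ C)
    rw [h1, orderOf_one] at hτo
    exact hr.ne_one hτo.symm
  refine frattini_nongenerating (eq_top_iff.mpr fun x _ => ?_)
  let Xs : Set P := {y | x⁻¹ * y ∈ frattini P}
  haveI : Fintype Xs := Fintype.ofFinite _
  let e : Equiv.Perm Xs :=
    { toFun := fun y => ⟨τ y, by
        have := (frattini P).mul_mem y.2 (hpow (orderOf σ / r) y)
        simpa [Xs, hτ, mul_assoc] using this⟩
      invFun := fun y => ⟨τ.symm y, by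
        have h1 := (frattini P).mul_mem y.2 ((frattini P).inv_mem (hpow (orderOf σ / r) (τ.symm y)))
        have e : (σ ^ (orderOf σ / r)) (τ.symm (y : P)) = y := τ.apply_symm_apply y
        rw [e] at h1
        simpa [Xs, mul_assoc] using h1⟩
      left_inv := fun y => Subtype.ext (τ.symm_apply_apply _)
      right_inv := fun y => Subtype.ext (τ.apply_symm_apply _) }
  have he : ∀ (n : ℕ) (y : Xs), (((e ^ n) y : Xs) : P) = (τ ^ n) (y : P) := by
    intro n
    induction n with
    | zero => intro y; rfl
    | succ n ih => intro y; rw [pow_succ, pow_succ, Equiv.Perm.mul_apply, MulAut.mul_apply, ih]; rfl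
  have her : e ^ r ^ 1 = 1 := Equiv.ext fun y => Subtype.ext (by
    rw [pow_one, he, ← hτo, pow_orderOf_eq_one]; rfl)
  have hcard : ¬ r ∣ Fintype.card Xs := by
    rw [← Nat.card_eq_fintype_card]
    have : Nat.card Xs = Nat.card (frattini P) := Nat.card_congr
      { toFun := fun y => ⟨x⁻¹ * y, y.2⟩
        invFun := fun y => ⟨x * y, by simp [Xs]⟩
        left_inv := fun y => Subtype.ext (by simp)
        right_inv := fun y => Subtype.ext (by simp) }
    rw [this]
    obtain ⟨k, hk⟩ := IsPGroup.iff_card.mp (hP.to_subgroup (frattini P))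
    rw [hk]
    exact fun hd => hrp ((Nat.prime_dvd_prime_iff_eq hr hp.out).mp (hr.dvd_of_dvd_pow hd))
  obtain ⟨y, hy⟩ := Equiv.Perm.exists_fixed_point_of_prime (p := r) (n := 1) hcard her
  have hyC : (y : P) ∈ C := congrArg Subtype.val hy
  have h2 : x⁻¹ * (y : P) ∈ frattini P := y.2
  have := Subgroup.mul_mem_sup hyC ((frattini P).inv_mem h2)
  simpa using this

variable {H Q : Type*} [Group H] [Finite H] [Group Q] [Finite Q]

theorem eq_one_on_cyclic {P : Type*} [Group P] [Finite P] [IsCyclic P] (ψ : Q →* MulAut P)
    {q : Q} (hq : q ∈ commutator Q) : ψ q = 1 := by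
  let f := (IsCyclic.mulAutMulEquiv P).toMonoidHom.comp ψ
  have h1 : f q = 1 := Abelianization.commutator_subset_ker f hq
  exact (IsCyclic.mulAutMulEquiv P).injective (h1.trans (map_one _).symm)

theorem eq_one_on_quaternion {P : Type*} [Group P] [Finite P] (hP : IsPGroup 2 P) {n : ℕ}
    (e : P ≃* QuaternionGroup (2 ^ n)) (hodd : ¬ 2 ∣ Nat.card Q) (ψ : Q →* MulAut P)
    {q : Q} (hq : q ∈ commutator Q) : ψ q = 1 := by
  classical
  haveI : Fact (Nat.Prime 2) := ⟨Nat.prime_two⟩
  haveI : NeZero (2 ^ n) := ⟨by positivity⟩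
  have hmap : ∀ s : Q, (frattini P).map (ψ s).toMonoidHom = frattini P := fun s =>
    Subgroup.characteristic_iff_map_eq.mp inferInstance _
  let B := P ⧸ frattini P
  let θ : Q →* MulAut B :=
    { toFun := fun s => QuotientGroup.congr (frattini P) (frattini P) (ψ s) (hmap s)
      map_one' := by
        refine MulEquiv.ext fun b => ?_
        induction b using QuotientGroup.induction_on with | H x =>
        show ((ψ 1 x : P) : B) = x
        rw [map_one, MulAut.one_apply]
      map_mul' := fun s t => by
        refine MulEquiv.ext fun b => ?_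
        induction b using QuotientGroup.induction_on with | H x =>
        show ((ψ (s * t) x : P) : B) = ((ψ s (ψ t x) : P) : B)
        rw [map_mul, MulAut.mul_apply] }
  -- the quotient has at most four elements
  have hB : Nat.card B ≤ 4 := by
    let u : B := QuotientGroup.mk (e.symm (QuaternionGroup.a 1))
    let v : B := QuotientGroup.mk (e.symm (QuaternionGroup.xa 0))
    let g : Fin 2 × Fin 2 → B := fun ij => v ^ (ij.1 : ℕ) * u ^ (ij.2 : ℕ)
    have hg : Function.Surjective g := by
      intro b
      induction b using QuotientGroup.induction_on with | H x =>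
      have hpw : ∀ k : ℕ, u ^ k = u ^ (k % 2) := fun k => pow_eq_pow_mod k (quotient_frattini_pow hP u)
      have ha : ∀ i : ZMod (2 * 2 ^ n), (QuotientGroup.mk (e.symm (QuaternionGroup.a i)) : B) =
          u ^ (i.val % 2) := by
        intro i
        rw [← hpw, ← QuotientGroup.mk_pow, ← map_pow, QuaternionGroup.a_one_pow, ZMod.natCast_zmod_val]
      obtain ⟨y, rfl⟩ := e.symm.surjective x
      cases y with
      | a i => exact ⟨(0, ⟨i.val % 2, Nat.mod_lt _ two_pos⟩), by simpa [g] using (ha i).symm⟩
      | xa i =>
        refine ⟨(1, ⟨i.val % 2, Nat.mod_lt _ two_pos⟩), ?_⟩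
        have h1 : QuaternionGroup.xa i = QuaternionGroup.xa 0 * QuaternionGroup.a i := by simp
        rw [h1, map_mul, QuotientGroup.mk_mul, ha]
        simp [g, v]
    calc Nat.card B ≤ Nat.card (Fin 2 × Fin 2) := Nat.card_le_card_of_surjective g hg
      _ = 4 := by simp
  let B' := {b : B // b ≠ 1}
  haveI : Fintype B' := Fintype.ofFinite _
  have hB' : Fintype.card B' ≤ 3 := by
    rw [← Nat.card_eq_fintype_card]
    have h1 : Nat.card B' + 1 = Nat.card B := by
      rw [← Finite.card_option]
      exact Nat.card_congr (Equiv.optionSubtypeNe (1 : B))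
    omega
  let χ : Q →* Equiv.Perm B' :=
    { toFun := fun s => (θ s).toEquiv.subtypeEquiv fun b => by simp
      map_one' := by ext b; simp
      map_mul' := fun s t => by ext b; simp }
  have hc : χ q = 1 := by
    have hd : Nat.card χ.range ∣ 3 := by
      have h1 : Nat.card χ.range ∣ Nat.factorial 3 := by
        refine (Subgroup.card_subgroup_dvd_card χ.range).trans ?_
        rw [Nat.card_eq_fintype_card, Fintype.card_perm]
        exact Nat.factorial_dvd_factorial hB'
      have h2 : (Nat.card χ.range).Coprime 2 :=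
        ((Nat.prime_two.coprime_iff_not_dvd.mpr hodd).symm).coprime_dvd_left
          (Subgroup.card_range_dvd χ)
      exact h2.dvd_of_dvd_mul_left (by simpa [Nat.factorial] using h1)
    haveI : IsCyclic χ.range := by
      rcases (Nat.dvd_prime Nat.prime_three).mp hd with h | h
      · haveI : Subsingleton χ.range := Finite.card_le_one_iff_subsingleton.mp h.le
        infer_instance
      · haveI : Fact (Nat.Prime 3) := ⟨Nat.prime_three⟩
        exact isCyclic_of_prime_card h
    letI : CommGroup χ.range := IsCyclic.commGroup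
    have h3 : χ.rangeRestrict q = 1 := Abelianization.commutator_subset_ker χ.rangeRestrict hq
    exact congrArg Subtype.val h3
  refine eq_one_of_frattini hP (ψ q) ?_ fun x => ?_
  · exact ((Nat.prime_two.coprime_iff_not_dvd.mpr hodd).symm).coprime_dvd_left
      ((orderOf_map_dvd ψ q).trans (orderOf_dvd_natCard q))
  · refine QuotientGroup.eq.mp ?_
    by_cases hx : (x : B) = 1
    · rw [hx]
      have := map_one (θ q)
      rw [← hx] at this
      exact (this.trans hx).symm
    · exact (congrArg Subtype.val (Equiv.ext_iff.mp hc ⟨(x : B), hx⟩)).symm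

variable {V : Type*} [AddCommGroup V] [Module ℂ V] [FiniteDimensional ℂ V] [Nontrivial V]

/-- Commutators of a group acting coprimely on a solvable Frobenius complement act trivially. -/
theorem eq_one_of_mem_commutator [Group.IsSolvable H] (F : FGS4.Zass.FPFRep H V)
    (hcop : (Nat.card H).Coprime (Nat.card Q)) (φ : Q →* MulAut H)
    {q : Q} (hq : q ∈ commutator Q) : φ q = 1 := by
  classical
  have hfitP : ∀ (p : ℕ) [Fact p.Prime] (x : H), x ∈ pCore p H → φ q x = x := by
    intro p _ x hx
    set P := pCore p H with hPd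
    have hPp : IsPGroup p P := Core.isPGroup_pCore p H
    have hinv : ∀ (s : Q) (y : H), y ∈ P → φ s y ∈ P := fun s y hy => by
      have := Subgroup.mem_map_of_mem (φ s).toMonoidHom hy
      rwa [hPd, Core.pCore_map_equiv] at this
    let ψ : Q →* MulAut P :=
      { toFun := fun s =>
          { toFun := fun y => ⟨φ s y, hinv s y y.2⟩
            invFun := fun y => ⟨φ s⁻¹ y, hinv s⁻¹ y y.2⟩
            left_inv := fun y => Subtype.ext (by
              show φ s⁻¹ (φ s y) = y
              rw [← MulAut.mul_apply, ← map_mul, inv_mul_cancel, map_one, MulAut.one_apply])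
            right_inv := fun y => Subtype.ext (by
              show φ s (φ s⁻¹ y) = y
              rw [← MulAut.mul_apply, ← map_mul, mul_inv_cancel, map_one, MulAut.one_apply])
            map_mul' := fun a b => Subtype.ext (map_mul _ _ _) }
        map_one' := by ext y; simp
        map_mul' := fun s t => by ext y; simp }
    have hψ : ψ q = 1 := by
      obtain ⟨S⟩ : Nonempty (Sylow p P) := inferInstance
      have hS : (S : Subgroup P) = ⊤ :=
        (S.is_maximal' (Q := ⊤) (hPp.of_equiv Subgroup.topEquiv.symm) le_top).symm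
      let eS : (S : Subgroup P) ≃* P := (MulEquiv.subgroupCongr hS).trans Subgroup.topEquiv
      rcases (F.res P).sylow_cases S with h | ⟨rfl, n, ⟨e⟩⟩
      · haveI := h
        haveI : IsCyclic P := isCyclic_of_surjective eS.toMonoidHom eS.surjective
        exact eq_one_on_cyclic ψ hq
      · let e' : P ≃* QuaternionGroup (2 ^ n) := eS.symm.trans e
        refine eq_one_on_quaternion hPp e' (fun h2 => ?_) ψ hq
        haveI : NeZero (2 ^ n) := ⟨by positivity⟩
        have h3 : 2 ∣ Nat.card H := by
          refine dvd_trans ?_ (Subgroup.card_subgroup_dvd_card P)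
          rw [Nat.card_congr e'.toEquiv, Nat.card_eq_fintype_card, QuaternionGroup.card]
          exact dvd_mul_of_dvd_left (by norm_num) _
        exact Nat.not_coprime_of_dvd_of_dvd one_lt_two h3 h2 hcop
    exact congrArg Subtype.val (DFunLike.congr_fun hψ ⟨x, hx⟩)
  have hfit : ∀ x ∈ fittingSubgroup H, φ q x = x := by
    intro x hx
    let C : Subgroup H :=
      { carrier := {y | φ q y = y}
        one_mem' := map_one _
        mul_mem' := fun {a b} ha hb => by
          show φ q (a * b) = a * b
          rw [map_mul, show φ q a = a from ha, show φ q b = b from hb]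
        inv_mem' := fun {a} ha => by
          show φ q a⁻¹ = a⁻¹
          rw [map_inv, show φ q a = a from ha] }
    have : fittingSubgroup H ≤ C := by
      rw [Core.fittingSubgroup_eq_iSup]
      exact iSup_le fun p y hy => @hfitP p ⟨p.2⟩ y hy
    exact this hx
  refine MulEquiv.ext fun h => ?_
  have hz : h⁻¹ * φ q h ∈ fittingSubgroup H := by
    refine Core.centralizer_fittingSubgroup_le (Subgroup.mem_centralizer_iff.mpr fun f hf => ?_)
    have h1 := hfit (h * f * h⁻¹) (Subgroup.Normal.conj_mem inferInstance f hf h)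
    rw [map_mul, map_mul, map_inv, hfit f hf] at h1
    calc f * (h⁻¹ * φ q h) = h⁻¹ * (h * f * h⁻¹) * φ q h := by group
      _ = _ := by rw [← h1]; group
  have hpow : ∀ k : ℕ, (φ q ^ k) h = h * (h⁻¹ * φ q h) ^ k := by
    intro k
    induction k with
    | zero => simp
    | succ k ih =>
      rw [pow_succ', MulAut.mul_apply, ih, map_mul, map_pow, hfit _ hz, pow_succ']
      rw [← mul_assoc h, mul_inv_cancel_left]
  have h1 := hpow (Nat.card Q)
  rw [← map_pow, pow_card_eq_one', map_one, MulAut.one_apply] at h1
  have h2 : (h⁻¹ * φ q h) ^ Nat.card Q = 1 := by simpa using h1.symm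
  have h3 : orderOf (h⁻¹ * φ q h) = 1 := Nat.eq_one_of_dvd_coprimes hcop.symm
    (orderOf_dvd_of_pow_eq_one h2) (orderOf_dvd_natCard _)
  rw [MulAut.one_apply]
  exact (inv_mul_eq_one.mp (orderOf_eq_one_iff.mp h3)).symm

end Cfsg.Agent.FGS3.ComplementAut
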