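import Cfsg.Agent.Chev.Certs
import Cfsg.Prelude.Def_LieChev

/-! # A certificate for the involution classes of F₄ in characteristic two

The certificate is a decision tree over closed sets of positive roots. -/

set_option autoImplicit false
set_option maxRecDepth 100000
set_option maxHeartbeats 2000000

namespace Cfsg.Agent.FGS3.F4Inv

open Cfsg.Lie Cfsg.Agent.Chev

/-- The steps of the decision tree. -/
inductive Rule where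
  | one
  | rep
  | weyl (L : List ℕ) (c : ℕ)
  | split (r a b : ℕ)
  | sq (r u b i j c : ℕ)
  | kill (g r b i j : ℕ) (S1 : List ℕ) (c : ℕ)

/-- A node: a closed set of roots, and roots with nonzero coefficient. -/
structure Node where
  S : List ℕ
  N : List ℕ
  rule : Rule

/-- Terms of the commutator formula with odd coefficient. -/
def TT : List (List (ℕ × List (ℕ × ℕ × ℕ))) :=
  [[(24, [(1, 1, 1)]), (26, [(2, 1, 1)]), (29, [(3, 1, 1), (6, 1, 2)]), (31, [(4, 1, 1)]), (32, [(5, 1, 1)]), (36, [(7, 1, 1), (17, 1, 2)]), (38, [(8, 1, 1), (22, 1, 2)]), (39, [(9, 1, 1), (25, 1, 2)]), (40, [(11, 1, 1), (30, 1, 2)]), (42, [(15, 1, 1)]), (43, [(16, 1, 1)]), (44, [(18, 1, 1), (41, 1, 2)]), (45, [(21, 1, 1)]), (46, [(23, 1, 1)])],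
   [(25, [(2, 1, 1)]), (28, [(3, 1, 1), (5, 1, 2)]), (30, [(4, 1, 1)]), (32, [(6, 1, 1)]), (35, [(7, 1, 1), (16, 1, 2)]), (37, [(8, 1, 1), (21, 1, 2)]), (39, [(10, 1, 1), (26, 1, 2)]), (40, [(12, 1, 1), (31, 1, 2)]), (41, [(15, 1, 1)]), (43, [(17, 1, 1)]), (44, [(19, 1, 1), (42, 1, 2)]), (45, [(22, 1, 1)]), (47, [(24, 1, 1)])],
   [(27, [(3, 1, 1), (4, 1, 2)]), (30, [(5, 1, 1)]), (31, [(6, 1, 1)]), (34, [(7, 1, 1), (15, 1, 2)]), (37, [(9, 1, 1), (23, 1, 2)]), (38, [(10, 1, 1), (24, 1, 2)]), (40, [(13, 1, 1), (32, 1, 2)]), (41, [(16, 1, 1)]), (42, [(17, 1, 1)]), (44, [(20, 1, 1), (43, 1, 2)]), (46, [(25, 1, 1)]), (47, [(26, 1, 1)])],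
   [(33, [(7, 1, 1)]), (34, [(8, 1, 1)]), (35, [(9, 1, 1)]), (36, [(10, 1, 1)]), (37, [(11, 1, 1)]), (38, [(12, 1, 1)]), (39, [(13, 1, 1)]), (40, [(14, 1, 1)]), (41, [(18, 1, 1), (0, 2, 1)]), (42, [(19, 1, 1), (1, 2, 1)]), (43, [(20, 1, 1), (2, 2, 1)]), (45, [(27, 1, 1), (4, 2, 1)]), (46, [(28, 1, 1), (5, 2, 1)]), (47, [(29, 1, 1), (6, 2, 1)])],
   [(25, [(5, 1, 1)]), (26, [(6, 1, 1)]), (33, [(8, 1, 1), (15, 1, 2)]), (35, [(11, 1, 1), (23, 1, 2)]), (36, [(12, 1, 1), (24, 1, 2)]), (39, [(14, 1, 1), (32, 1, 2)]), (41, [(21, 1, 1)]), (42, [(22, 1, 1)]), (44, [(27, 1, 1), (45, 1, 2)]), (46, [(30, 1, 1)]), (47, [(31, 1, 1)])],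
   [(24, [(6, 1, 1)]), (33, [(9, 1, 1), (16, 1, 2)]), (34, [(11, 1, 1), (21, 1, 2)]), (36, [(13, 1, 1), (26, 1, 2)]), (38, [(14, 1, 1), (31, 1, 2)]), (41, [(23, 1, 1)]), (43, [(25, 1, 1)]), (44, [(28, 1, 1), (46, 1, 2)]), (45, [(30, 1, 1)]), (47, [(32, 1, 1)])],
   [(33, [(10, 1, 1), (17, 1, 2)]), (34, [(12, 1, 1), (22, 1, 2)]), (35, [(13, 1, 1), (25, 1, 2)]), (37, [(14, 1, 1), (30, 1, 2)]), (42, [(24, 1, 1)]), (43, [(26, 1, 1)]), (44, [(29, 1, 1), (47, 1, 2)]), (45, [(31, 1, 1)]), (46, [(32, 1, 1)])],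
   [(27, [(8, 1, 1)]), (28, [(9, 1, 1)]), (29, [(10, 1, 1)]), (30, [(11, 1, 1), (0, 2, 1)]), (31, [(12, 1, 1), (1, 2, 1)]), (32, [(13, 1, 1), (2, 2, 1)]), (37, [(18, 1, 1)]), (38, [(19, 1, 1)]), (39, [(20, 1, 1)]), (44, [(33, 1, 1)]), (45, [(34, 1, 1), (15, 2, 1)]), (46, [(35, 1, 1), (16, 2, 1)]), (47, [(36, 1, 1), (17, 2, 1)])],
   [(25, [(9, 1, 1), (0, 2, 1)]), (26, [(10, 1, 1), (1, 2, 1)]), (28, [(11, 1, 1)]), (29, [(12, 1, 1)]), (32, [(14, 1, 1), (4, 2, 1)]), (35, [(18, 1, 1)]), (36, [(19, 1, 1)]), (40, [(27, 1, 1)]), (43, [(33, 1, 1), (15, 2, 1)]), (44, [(34, 1, 1)]), (46, [(37, 1, 1), (21, 2, 1)]), (47, [(38, 1, 1), (22, 2, 1)])],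
   [(24, [(10, 1, 1), (2, 2, 1)]), (27, [(11, 1, 1)]), (29, [(13, 1, 1)]), (31, [(14, 1, 1), (5, 2, 1)]), (34, [(18, 1, 1)]), (36, [(20, 1, 1)]), (40, [(28, 1, 1)]), (42, [(33, 1, 1), (16, 2, 1)]), (44, [(35, 1, 1)]), (45, [(37, 1, 1), (23, 2, 1)]), (47, [(39, 1, 1), (25, 2, 1)])],
   [(27, [(12, 1, 1)]), (28, [(13, 1, 1)]), (30, [(14, 1, 1), (6, 2, 1)]), (34, [(19, 1, 1)]), (35, [(20, 1, 1)]), (40, [(29, 1, 1)]), (41, [(33, 1, 1), (17, 2, 1)]), (44, [(36, 1, 1)]), (45, [(38, 1, 1), (24, 2, 1)]), (46, [(39, 1, 1), (26, 2, 1)])],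
   [(24, [(12, 1, 1), (4, 2, 1)]), (26, [(13, 1, 1), (5, 2, 1)]), (29, [(14, 1, 1)]), (33, [(18, 1, 1)]), (38, [(27, 1, 1)]), (39, [(28, 1, 1)]), (42, [(34, 1, 1), (21, 2, 1)]), (43, [(35, 1, 1), (23, 2, 1)]), (44, [(37, 1, 1)]), (47, [(40, 1, 1), (30, 2, 1)])],
   [(25, [(13, 1, 1), (6, 2, 1)]), (28, [(14, 1, 1)]), (33, [(19, 1, 1)]), (37, [(27, 1, 1)]), (39, [(29, 1, 1)]), (41, [(34, 1, 1), (22, 2, 1)]), (43, [(36, 1, 1), (24, 2, 1)]), (44, [(38, 1, 1)]), (46, [(40, 1, 1), (31, 2, 1)])],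
   [(27, [(14, 1, 1)]), (33, [(20, 1, 1)]), (37, [(28, 1, 1)]), (38, [(29, 1, 1)]), (41, [(35, 1, 1), (25, 2, 1)]), (42, [(36, 1, 1), (26, 2, 1)]), (44, [(39, 1, 1)]), (45, [(40, 1, 1), (32, 2, 1)])],
   [(34, [(27, 1, 1)]), (35, [(28, 1, 1)]), (36, [(29, 1, 1)]), (41, [(37, 1, 1), (30, 2, 1)]), (42, [(38, 1, 1), (31, 2, 1)]), (43, [(39, 1, 1), (32, 2, 1)]), (44, [(40, 1, 1)])],
   [(25, [(16, 1, 1)]), (26, [(17, 1, 1)]), (28, [(18, 1, 1), (23, 1, 2)]), (29, [(19, 1, 1), (24, 1, 2)]), (30, [(21, 1, 1)]), (31, [(22, 1, 1)]), (39, [(33, 1, 1), (43, 1, 2)]), (40, [(34, 1, 1), (45, 1, 2)]), (46, [(41, 1, 1)]), (47, [(42, 1, 1)])],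
   [(24, [(17, 1, 1)]), (27, [(18, 1, 1), (21, 1, 2)]), (29, [(20, 1, 1), (26, 1, 2)]), (30, [(23, 1, 1)]), (32, [(25, 1, 1)]), (38, [(33, 1, 1), (42, 1, 2)]), (40, [(35, 1, 1), (46, 1, 2)]), (45, [(41, 1, 1)]), (47, [(43, 1, 1)])],
   [(27, [(19, 1, 1), (22, 1, 2)]), (28, [(20, 1, 1), (25, 1, 2)]), (31, [(24, 1, 1)]), (32, [(26, 1, 1)]), (37, [(33, 1, 1), (41, 1, 2)]), (40, [(36, 1, 1), (47, 1, 2)]), (45, [(42, 1, 1)]), (46, [(43, 1, 1)])],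
   [(24, [(19, 1, 1), (15, 2, 1)]), (26, [(20, 1, 1), (16, 2, 1)]), (31, [(27, 1, 1), (21, 2, 1)]), (32, [(28, 1, 1), (23, 2, 1)]), (36, [(33, 1, 1)]), (38, [(34, 1, 1)]), (39, [(35, 1, 1)]), (40, [(37, 1, 1)]), (47, [(44, 1, 1), (41, 2, 1)])],
   [(25, [(20, 1, 1), (17, 2, 1)]), (30, [(27, 1, 1), (22, 2, 1)]), (32, [(29, 1, 1), (24, 2, 1)]), (35, [(33, 1, 1)]), (37, [(34, 1, 1)]), (39, [(36, 1, 1)]), (40, [(38, 1, 1)]), (46, [(44, 1, 1), (42, 2, 1)])],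
   [(30, [(28, 1, 1), (25, 2, 1)]), (31, [(29, 1, 1), (26, 2, 1)]), (34, [(33, 1, 1)]), (37, [(35, 1, 1)]), (38, [(36, 1, 1)]), (40, [(39, 1, 1)]), (45, [(44, 1, 1), (43, 2, 1)])],
   [(24, [(22, 1, 1)]), (25, [(23, 1, 1)]), (29, [(27, 1, 1), (31, 1, 2)]), (32, [(30, 1, 1)]), (36, [(34, 1, 1), (42, 1, 2)]), (39, [(37, 1, 1), (46, 1, 2)]), (43, [(41, 1, 1)]), (47, [(45, 1, 1)])],
   [(26, [(24, 1, 1)]), (28, [(27, 1, 1), (30, 1, 2)]), (32, [(31, 1, 1)]), (35, [(34, 1, 1), (41, 1, 2)]), (39, [(38, 1, 1), (47, 1, 2)]), (43, [(42, 1, 1)]), (46, [(45, 1, 1)])],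
   [(26, [(25, 1, 1)]), (29, [(28, 1, 1), (32, 1, 2)]), (31, [(30, 1, 1)]), (36, [(35, 1, 1), (43, 1, 2)]), (38, [(37, 1, 1), (45, 1, 2)]), (42, [(41, 1, 1)]), (47, [(46, 1, 1)])],
   [(25, [(26, 1, 1)]), (28, [(29, 1, 1), (32, 1, 2)]), (30, [(31, 1, 1)]), (35, [(36, 1, 1), (43, 1, 2)]), (37, [(38, 1, 1), (45, 1, 2)]), (41, [(42, 1, 1)]), (46, [(47, 1, 1)])],
   [(24, [(26, 1, 1)]), (27, [(28, 1, 1), (30, 1, 2)]), (31, [(32, 1, 1)]), (34, [(35, 1, 1), (41, 1, 2)]), (38, [(39, 1, 1), (47, 1, 2)]), (42, [(43, 1, 1)]), (45, [(46, 1, 1)])],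
   [(27, [(29, 1, 1), (31, 1, 2)]), (30, [(32, 1, 1)]), (34, [(36, 1, 1), (42, 1, 2)]), (37, [(39, 1, 1), (46, 1, 2)]), (41, [(43, 1, 1)]), (45, [(47, 1, 1)])],
   [(25, [(28, 1, 1), (30, 2, 1)]), (26, [(29, 1, 1), (31, 2, 1)]), (33, [(34, 1, 1)]), (35, [(37, 1, 1)]), (36, [(38, 1, 1)]), (39, [(40, 1, 1)]), (43, [(44, 1, 1), (45, 2, 1)])],
   [(24, [(29, 1, 1), (32, 2, 1)]), (33, [(35, 1, 1)]), (34, [(37, 1, 1)]), (36, [(39, 1, 1)]), (38, [(40, 1, 1)]), (42, [(44, 1, 1), (46, 2, 1)])],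
   [(33, [(36, 1, 1)]), (34, [(38, 1, 1)]), (35, [(39, 1, 1)]), (37, [(40, 1, 1)]), (41, [(44, 1, 1), (47, 2, 1)])],
   [(24, [(31, 1, 1)]), (26, [(32, 1, 1)]), (33, [(37, 1, 1), (41, 1, 2)]), (36, [(40, 1, 1), (47, 1, 2)]), (42, [(45, 1, 1)]), (43, [(46, 1, 1)])],
   [(25, [(32, 1, 1)]), (33, [(38, 1, 1), (42, 1, 2)]), (35, [(40, 1, 1), (46, 1, 2)]), (41, [(45, 1, 1)]), (43, [(47, 1, 1)])],
   [(33, [(39, 1, 1), (43, 1, 2)]), (34, [(40, 1, 1), (45, 1, 2)]), (41, [(46, 1, 1)]), (42, [(47, 1, 1)])],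
   [(27, [(34, 1, 1)]), (28, [(35, 1, 1)]), (29, [(36, 1, 1)]), (30, [(37, 1, 1), (41, 2, 1)]), (31, [(38, 1, 1), (42, 2, 1)]), (32, [(39, 1, 1), (43, 2, 1)]), (40, [(44, 1, 1)])],
   [(25, [(35, 1, 1), (41, 2, 1)]), (26, [(36, 1, 1), (42, 2, 1)]), (28, [(37, 1, 1)]), (29, [(38, 1, 1)]), (32, [(40, 1, 1), (45, 2, 1)]), (39, [(44, 1, 1)])],
   [(24, [(36, 1, 1), (43, 2, 1)]), (27, [(37, 1, 1)]), (29, [(39, 1, 1)]), (31, [(40, 1, 1), (46, 2, 1)]), (38, [(44, 1, 1)])],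
   [(27, [(38, 1, 1)]), (28, [(39, 1, 1)]), (30, [(40, 1, 1), (47, 2, 1)]), (37, [(44, 1, 1)])],
   [(24, [(38, 1, 1), (45, 2, 1)]), (26, [(39, 1, 1), (46, 2, 1)]), (29, [(40, 1, 1)]), (36, [(44, 1, 1)])],
   [(25, [(39, 1, 1), (47, 2, 1)]), (28, [(40, 1, 1)]), (35, [(44, 1, 1)])],
   [(27, [(40, 1, 1)]), (34, [(44, 1, 1)])],
   [(33, [(44, 1, 1)])],
   [(24, [(42, 1, 1)]), (26, [(43, 1, 1)]), (29, [(44, 1, 1), (47, 1, 2)]), (31, [(45, 1, 1)]), (32, [(46, 1, 1)])],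
   [(25, [(43, 1, 1)]), (28, [(44, 1, 1), (46, 1, 2)]), (30, [(45, 1, 1)]), (32, [(47, 1, 1)])],
   [(27, [(44, 1, 1), (45, 1, 2)]), (30, [(46, 1, 1)]), (31, [(47, 1, 1)])],
   [],
   [(25, [(46, 1, 1)]), (26, [(47, 1, 1)])],
   [(24, [(47, 1, 1)])],
   []]

/-- The positive roots. -/
def posL : List ℕ := (List.range 24).map (· + 24)

/-- Odd terms of a pair. -/
def termsOf (g s : ℕ) : List (ℕ × ℕ × ℕ) :=
  ((TT.getD g []).filter (fun p => p.1 == s)).flatMap Prod.snd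

/-- Exponents of the terms of a pair landing at `b`. -/
def hits (g s b : ℕ) : List (ℕ × ℕ) := ((termsOf g s).filter (fun t => t.1 == b)).map Prod.snd

/-- Closedness. -/
def clB (S : List ℕ) : Bool :=
  decide (S = posL.filter (fun r => S.contains r)) && S.all fun a => (TT.getD a []).all fun p =>
    !S.contains p.1 || p.2.all fun t => S.contains t.1 && Nat.blt a t.1 && Nat.blt p.1 t.1

/-- Indecomposability. -/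
def indB (S : List ℕ) (b : ℕ) : Bool := clB S && clB (S.erase b) && S.contains b

/-- Conjugation by a root group maps `S` into `S1`. -/
def shiftB (S S1 : List ℕ) (g : ℕ) : Bool :=
  Nat.blt g 48 && S.all fun s => S1.contains s && (s == g || (!(s + g == 47) &&
    (termsOf g s).all fun t => S1.contains t.1))

/-- The coefficient at `b` changes only through `o`. -/
def hitB (S : List ℕ) (g b : ℕ) (o : Option (ℕ × ℕ × ℕ)) : Bool :=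
  S.all fun s => s == g || decide (hits g s b = match o with
    | none => []
    | some (u, i, j) => if s = u then [(i, j)] else [])

/-- Reflection table. -/
def RT : List (List ℕ) :=
  [[0, 1, 2, 7, 15, 16, 17, 3, 8, 9, 10, 18, 19, 20, 33, 4, 5, 6, 11, 12, 13, 21, 22, 23, 24, 25, 26, 34, 35, 36, 41, 42, 43, 14, 27, 28, 29, 37, 38, 39, 44, 30, 31, 32, 40, 45, 46, 47], [0, 1, 4, 3, 2, 5, 6, 8, 7, 11, 12, 9, 10, 14, 13, 15, 21, 22, 18, 19, 27, 16, 17, 23, 24, 30, 31, 20, 28, 29, 25, 26, 32, 34, 33, 37, 38, 35, 36, 40, 39, 41, 42, 45, 44, 43, 46, 47], [0, 2, 1, 3, 5, 4, 6, 7, 9, 8, 10, 11, 13, 12, 14, 16, 15, 17, 18, 20, 19, 23, 25, 21, 26, 22, 24, 28, 27, 29, 30, 32, 31, 33, 35, 34, 36, 37, 39, 38, 40, 41, 43, 42, 44, 46, 45, 47], [1, 0, 2, 3, 4, 6, 5, 7, 8, 10, 9, 12, 11, 13, 14, 15, 17, 16, 19, 18, 20, 22, 21,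 24, 23, 26, 25, 27, 29, 28, 31, 30, 32, 33, 34, 36, 35, 38, 37, 39, 40, 42, 41, 43, 44, 45, 47, 46]]

/-- Action of a word. -/
def aw (L : List ℕ) (x : ℕ) : ℕ := L.foldr (fun i z => (RT.getD i []).getD z 0) x

/-- Check of a node, with the earlier ones given. -/
def ok (prev : List Node) (nd : Node) : Bool :=
  clB nd.S && nd.N.all (fun n => indB nd.S n) && match nd.rule with
  | .one => nd.S.isEmpty
  | .rep => decide (nd.N = nd.S) && decide (nd.S ∈ [[47], [44], [44, 47], [39, 45]])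
  | .weyl L c => match prev[c]? with
    | none => false
    | some ch => L.all (fun i => Nat.blt i 4) && clB ch.S && nd.S.all (fun x => ch.S.contains (aw L x)) &&
        ch.N.all fun n' => indB ch.S n' && nd.N.any fun n => (aw L n == n') &&
          (nd.S.erase n).all fun x => !(aw L x == n')
  | .split r a b => match prev[a]?, prev[b]? with
    | some ca, some cb => indB nd.S r && decide (ca.S = nd.S.erase r) && decide (cb.S = nd.S) &&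
        ca.N.all (fun n => nd.N.contains n && indB ca.S n) &&
        cb.N.all (fun n => n == r || nd.N.contains n)
    | _, _ => false
  | .sq r u b i j c => match prev[c]? with
    | none => false
    | some ch => nd.N.contains r && indB nd.S u && !(u == r) && indB (nd.S.erase r) u && indB (nd.S.erase r) b &&
        shiftB (nd.S.erase r) (nd.S.erase r) r && hitB (nd.S.erase r) r b (some (u, i, j)) &&
        (j == 1 || j == 2) && (i == 1 || i == 2) && decide (ch.S = nd.S.erase u) &&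
        ch.N.all (fun n => nd.N.contains n && indB ch.S n)
  | .kill g r b i j S1 c => match prev[c]? with
    | none => false
    | some ch => nd.N.contains r && !(r == g) && indB S1 b && shiftB nd.S S1 g &&
        hitB nd.S g b (some (r, i, j)) && (j == 1 || j == 2) && (i == 1 || i == 2) &&
        decide (ch.S = S1.erase b) &&
        ch.N.all (fun n => nd.N.contains n && indB S1 n && indB ch.S n && hitB nd.S g n none)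

/-- Check of a list of nodes, in order. -/
def allOkB (prev : List Node) : List Node → Bool
  | [] => true
  | nd :: rest => ok prev nd && allOkB (prev ++ [nd]) rest

/-- Part 0 of the tree. -/
def cert0 : List Node :=
  [⟨[], [], .one⟩,
   ⟨[47], [47], .rep⟩,
   ⟨[47], [], .split 47 0 1⟩,
   ⟨[46, 47], [47], .kill 23 47 46 1 1 [46, 47] 1⟩,
   ⟨[46, 47], [46], .weyl [3] 3⟩,
   ⟨[46, 47], [], .split 46 2 4⟩,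
   ⟨[45, 46, 47], [47], .kill 21 47 45 1 1 [45, 46, 47] 3⟩,
   ⟨[45, 46, 47], [45], .weyl [3, 2] 6⟩,
   ⟨[45, 46, 47], [], .split 45 5 7⟩,
   ⟨[44], [44], .rep⟩,
   ⟨[44, 47], [44, 47], .rep⟩,
   ⟨[44, 47], [44], .split 47 9 10⟩,
   ⟨[44, 46, 47], [44, 47], .kill 23 47 46 1 1 [44, 46, 47] 10⟩,
   ⟨[44, 46, 47], [44, 46], .weyl [3] 12⟩,
   ⟨[44, 46, 47], [44], .split 46 11 13⟩,
   ⟨[44, 45, 46, 47], [44, 47], .kill 21 47 45 1 1 [44, 45, 46, 47] 12⟩,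
   ⟨[44, 45, 46, 47], [44, 45], .weyl [3, 2] 15⟩,
   ⟨[44, 45, 46, 47], [44], .split 45 14 16⟩,
   ⟨[44, 45, 46, 47], [], .split 44 8 17⟩,
   ⟨[44, 47], [47], .split 44 1 10⟩,
   ⟨[41, 44], [41], .weyl [3, 2, 1, 2, 3] 19⟩,
   ⟨[41, 47], [41, 47], .kill 29 41 47 2 1 [41, 44, 47] 20⟩,
   ⟨[41, 47], [47], .split 41 1 21⟩,
   ⟨[42, 46], [46], .weyl [3] 22⟩,
   ⟨[42, 46, 47], [46], .kill 24 46 47 1 1 [42, 46, 47] 23⟩,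
   ⟨[43, 45, 47], [45], .weyl [2] 24⟩,
   ⟨[43, 45, 46, 47], [45], .kill 25 45 46 1 1 [43, 45, 46, 47] 25⟩,
   ⟨[43, 44, 45, 46, 47], [45], .kill 20 45 44 1 1 [43, 44, 45, 46, 47] 26⟩,
   ⟨[43, 44, 45, 46, 47], [43], .weyl [1] 27⟩,
   ⟨[43, 44, 45, 46, 47], [], .split 43 18 28⟩,
   ⟨[42, 44, 45, 46, 47], [46], .weyl [2] 27⟩,
   ⟨[42, 43, 44, 45, 46, 47], [46], .kill 17 46 43 1 1 [42, 43, 44, 45, 46, 47] 30⟩,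
   ⟨[42, 43, 44, 45, 46, 47], [42], .weyl [2, 1, 2] 31⟩,
   ⟨[42, 43, 44, 45, 46, 47], [], .split 42 29 32⟩,
   ⟨[41, 43, 44, 45, 46, 47], [47], .weyl [3] 31⟩,
   ⟨[41, 42, 43, 44, 45, 46, 47], [47], .kill 15 47 42 1 1 [41, 42, 43, 44, 45, 46, 47] 34⟩,
   ⟨[41, 42, 43, 44, 45, 46, 47], [41], .weyl [3, 2, 1, 2, 3] 35⟩,
   ⟨[41, 42, 43, 44, 45, 46, 47], [], .split 41 33 36⟩,
   ⟨[39, 45], [39, 45], .rep⟩,
   ⟨[37, 47], [37, 47], .weyl [2, 3] 38⟩,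
   ⟨[30, 44], [30, 44], .weyl [3, 2, 1, 2, 3, 0] 39⟩,
   ⟨[37, 44, 47], [37, 47], .kill 36 37 44 1 1 [37, 44, 47] 39⟩,
   ⟨[30, 40, 44], [30, 44], .weyl [3, 2, 1, 2, 3, 0] 41⟩,
   ⟨[30, 44, 47], [30, 44, 47], .kill 36 30 47 2 1 [30, 40, 44, 47] 42⟩,
   ⟨[30, 44, 47], [30, 44], .split 47 40 43⟩,
   ⟨[31, 44, 46], [31, 44], .weyl [3] 44⟩,
   ⟨[31, 44, 46, 47], [31, 44], .kill 43 31 47 1 1 [31, 44, 46, 47] 45⟩,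
   ⟨[32, 44, 45, 47], [32, 44], .weyl [2] 46⟩,
   ⟨[32, 44, 45, 46, 47], [32, 44], .kill 41 32 46 1 1 [32, 44, 45, 46, 47] 47⟩,
   ⟨[32, 44, 45, 46, 47], [44], .split 32 17 48⟩,
   ⟨[31, 32, 44, 45, 46, 47], [32, 44], .kill 22 32 31 1 1 [31, 32, 44, 45, 46, 47] 48⟩,
   ⟨[31, 32, 44, 45, 46, 47], [31, 44], .weyl [2] 50⟩,
   ⟨[31, 32, 44, 45, 46, 47], [44], .split 31 49 51⟩,
   ⟨[30, 31, 32, 44, 45, 46, 47], [32, 44], .kill 21 32 30 1 1 [30, 31, 32, 44, 45, 46, 47] 50⟩,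
   ⟨[30, 31, 32, 44, 45, 46, 47], [30, 44], .weyl [2, 3] 53⟩,
   ⟨[30, 31, 32, 44, 45, 46, 47], [44], .split 30 52 54⟩,
   ⟨[40, 41, 42, 43, 45, 46, 47], [40], .weyl [0] 55⟩,
   ⟨[40, 41, 42, 43, 44, 45, 46, 47], [40], .kill 33 40 44 1 1 [40, 41, 42, 43, 44, 45, 46, 47] 56⟩,
   ⟨[40, 41, 42, 43, 44, 45, 46, 47], [], .split 40 37 57⟩,
   ⟨[39, 40, 41, 42, 43, 44, 45, 46, 47], [40], .kill 20 40 39 1 1 [39, 40, 41, 42, 43, 44, 45, 46, 47] 57⟩]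

/-- Part 1 of the tree. -/
def cert1 : List Node :=
  [⟨[39, 40, 41, 42, 43, 44, 45, 46, 47], [39], .weyl [1] 59⟩,
   ⟨[39, 40, 41, 42, 43, 44, 45, 46, 47], [], .split 39 58 60⟩,
   ⟨[38, 39, 40, 41, 42, 43, 44, 45, 46, 47], [39], .kill 22 39 38 1 1 [38, 39, 40, 41, 42, 43, 44, 45, 46, 47] 60⟩,
   ⟨[38, 39, 40, 41, 42, 43, 44, 45, 46, 47], [38], .weyl [2] 62⟩,
   ⟨[38, 39, 40, 41, 42, 43, 44, 45, 46, 47], [], .split 38 61 63⟩,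
   ⟨[37, 38, 39, 40, 41, 42, 43, 44, 45, 46, 47], [39], .kill 21 39 37 1 1 [37, 38, 39, 40, 41, 42, 43, 44, 45, 46, 47] 62⟩,
   ⟨[37, 38, 39, 40, 41, 42, 43, 44, 45, 46, 47], [37], .weyl [2, 3] 65⟩,
   ⟨[37, 38, 39, 40, 41, 42, 43, 44, 45, 46, 47], [], .split 37 64 66⟩,
   ⟨[39, 46, 47], [39], .weyl [0, 1] 14⟩,
   ⟨[38, 46], [38, 46], .weyl [3] 39⟩,
   ⟨[38, 46, 47], [38, 46], .kill 24 46 47 1 1 [38, 46, 47] 69⟩,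
   ⟨[39, 45, 47], [39, 45], .weyl [2] 70⟩,
   ⟨[39, 45, 46, 47], [39, 45], .kill 25 45 46 1 1 [39, 45, 46, 47] 71⟩,
   ⟨[39, 45, 46, 47], [39], .split 45 68 72⟩,
   ⟨[39, 44, 45, 46, 47], [39, 44], .kill 34 39 44 1 1 [39, 44, 45, 46, 47] 73⟩,
   ⟨[39, 44, 45, 46, 47], [44], .split 39 17 74⟩,
   ⟨[38, 39, 44, 45, 46, 47], [39, 44], .kill 22 39 38 1 1 [38, 39, 44, 45, 46, 47] 74⟩,
   ⟨[38, 39, 44, 45, 46, 47], [38, 44], .weyl [2] 76⟩,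
   ⟨[38, 39, 44, 45, 46, 47], [44], .split 38 75 77⟩,
   ⟨[25, 44, 47], [25, 44], .weyl [1] 44⟩,
   ⟨[25, 40, 44, 47], [25, 44], .kill 14 44 40 1 1 [25, 40, 44, 47] 79⟩,
   ⟨[37, 44, 47], [37, 44, 47], .kill 36 37 44 1 1 [37, 44, 47] 39⟩,
   ⟨[30, 47], [30, 47], .weyl [0] 21⟩,
   ⟨[30, 44, 47], [30, 47], .split 44 82 43⟩,
   ⟨[30, 37, 47], [30, 47], .weyl [3, 2, 0, 1, 2, 3, 0] 83⟩,
   ⟨[30, 41, 47], [30, 41, 47], .kill 33 30 41 2 1 [30, 37, 41, 47] 84⟩,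
   ⟨[30, 41, 47], [41, 47], .split 30 21 85⟩,
   ⟨[30, 41, 47], [30, 47], .weyl [0] 86⟩,
   ⟨[30, 41, 44, 47], [30, 44, 47], .kill 18 47 44 1 1 [30, 41, 44, 47] 87⟩,
   ⟨[30, 37, 44, 47], [30, 37, 44, 47], .kill 33 30 37 1 1 [30, 37, 41, 44, 47] 88⟩,
   ⟨[30, 37, 44, 47], [37, 44, 47], .split 30 81 89⟩,
   ⟨[25, 35, 44, 47], [25, 35, 44], .weyl [3, 2, 0, 1, 2, 3, 0, 1] 90⟩,
   ⟨[28, 46, 47], [28, 47], .weyl [3, 1, 0] 70⟩,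
   ⟨[28, 44, 47], [28, 44, 47], .kill 42 28 44 1 1 [28, 44, 46, 47] 92⟩,
   ⟨[33, 41, 47], [33, 47], .weyl [3, 2, 0, 1, 2, 3, 1, 2, 1] 44⟩,
   ⟨[33, 37, 47], [33, 37, 47], .kill 30 33 37 1 1 [33, 37, 41, 47] 94⟩,
   ⟨[33, 38, 46], [33, 38, 46], .weyl [3] 95⟩,
   ⟨[33, 38, 46, 47], [33, 38, 46], .kill 24 46 47 1 1 [33, 38, 46, 47] 96⟩,
   ⟨[27, 28, 45, 47], [27, 28, 47], .weyl [3, 1, 2, 0] 97⟩,
   ⟨[27, 28, 44, 47], [27, 28, 44, 47], .kill 43 27 44 1 1 [27, 28, 44, 45, 47] 98⟩,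
   ⟨[27, 28, 44, 47], [28, 44, 47], .split 27 93 99⟩,
   ⟨[28, 30, 44, 47], [28, 30, 44, 47], .kill 22 28 30 1 2 [27, 28, 30, 44, 47] 100⟩,
   ⟨[28, 30, 44, 47], [28, 44, 47], .split 30 93 101⟩,
   ⟨[25, 35, 40, 47], [25, 35, 40], .weyl [3, 2, 0, 1, 2, 3, 0, 1] 102⟩,
   ⟨[25, 35, 40, 44, 47], [25, 35, 40, 44], .kill 33 40 44 1 1 [25, 35, 40, 44, 47] 103⟩,
   ⟨[25, 35, 40, 44, 47], [25, 35, 44], .split 40 91 104⟩,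
   ⟨[25, 35, 40, 44, 47], [25, 44], .split 35 80 105⟩,
   ⟨[26, 36, 40, 44, 46], [26, 44], .weyl [3] 106⟩,
   ⟨[26, 36, 40, 44, 46, 47], [26, 44], .kill 45 26 47 1 1 [26, 36, 40, 44, 46, 47] 107⟩,
   ⟨[32, 38, 39, 44, 45, 47], [32, 44], .weyl [1, 2] 108⟩,
   ⟨[32, 38, 39, 44, 45, 46, 47], [32, 44], .kill 41 32 46 1 1 [32, 38, 39, 44, 45, 46, 47] 109⟩,
   ⟨[32, 38, 39, 44, 45, 46, 47], [44], .split 32 78 110⟩,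
   ⟨[31, 32, 38, 39, 44, 45, 46, 47], [32, 44], .kill 22 32 31 1 1 [31, 32, 38, 39, 44, 45, 46, 47] 110⟩,
   ⟨[31, 32, 38, 39, 44, 45, 46, 47], [31, 44], .weyl [2] 112⟩,
   ⟨[31, 32, 38, 39, 44, 45, 46, 47], [44], .split 31 111 113⟩,
   ⟨[25, 40, 47], [25, 40], .weyl [1, 0] 44⟩,
   ⟨[25, 40, 44, 47], [25, 40, 44], .kill 33 40 44 1 1 [25, 40, 44, 47] 115⟩,
   ⟨[25, 36, 40, 44, 47], [25, 40, 44], .kill 17 40 36 1 1 [25, 36, 40, 44, 47] 116⟩,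
   ⟨[25, 36, 40, 44, 47], [25, 36, 44], .weyl [1, 2, 1] 117⟩,
   ⟨[25, 36, 40, 44, 47], [25, 44], .split 36 80 118⟩]

/-- Part 2 of the tree. -/
def cert2 : List Node :=
  [⟨[25, 36, 40, 44, 46, 47], [25, 44], .kill 45 25 46 1 1 [25, 36, 40, 44, 46, 47] 119⟩,
   ⟨[30, 38, 39, 44, 46, 47], [30, 44], .weyl [1] 120⟩,
   ⟨[30, 38, 39, 44, 45, 46, 47], [30, 44], .kill 42 30 45 1 1 [30, 38, 39, 44, 45, 46, 47] 121⟩,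
   ⟨[30, 32, 38, 39, 44, 45, 46, 47], [30, 44], .kill 26 30 32 1 1 [30, 32, 38, 39, 44, 45, 46, 47] 122⟩,
   ⟨[30, 31, 32, 38, 39, 44, 45, 46, 47], [30, 44], .kill 24 30 31 1 1 [30, 31, 32, 38, 39, 44, 45, 46, 47] 123⟩,
   ⟨[30, 31, 32, 38, 39, 44, 45, 46, 47], [44], .split 30 114 124⟩,
   ⟨[38, 39, 40, 41, 42, 43, 45, 46, 47], [40], .weyl [0] 125⟩,
   ⟨[38, 39, 40, 41, 42, 43, 44, 45, 46, 47], [40], .kill 33 40 44 1 1 [38, 39, 40, 41, 42, 43, 44, 45, 46, 47] 126⟩,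
   ⟨[36, 38, 39, 40, 41, 42, 43, 44, 45, 46, 47], [40], .kill 17 40 36 1 1 [36, 38, 39, 40, 41, 42, 43, 44, 45, 46, 47] 127⟩,
   ⟨[36, 38, 39, 40, 41, 42, 43, 44, 45, 46, 47], [36], .weyl [1, 2, 1] 128⟩,
   ⟨[36, 37, 38, 39, 40, 41, 42, 43, 44, 45, 46, 47], [36], .sq 36 37 44 1 1 129⟩,
   ⟨[36, 37, 38, 39, 40, 41, 42, 43, 44, 45, 46, 47], [], .split 36 67 130⟩,
   ⟨[36, 37, 38, 39, 40, 41, 42, 43, 44, 45, 46, 47], [37], .sq 37 36 44 1 1 66⟩,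
   ⟨[35, 37, 38, 39, 40, 41, 42, 43, 44, 45, 46, 47], [38], .weyl [3] 132⟩,
   ⟨[35, 36, 37, 38, 39, 40, 41, 42, 43, 44, 45, 46, 47], [38], .kill 20 38 36 1 1 [35, 36, 37, 38, 39, 40, 41, 42, 43, 44, 45, 46, 47] 133⟩,
   ⟨[35, 36, 37, 38, 39, 40, 41, 42, 43, 44, 45, 46, 47], [35], .weyl [3, 1] 134⟩,
   ⟨[35, 36, 37, 38, 39, 40, 41, 42, 43, 44, 45, 46, 47], [], .split 35 131 135⟩,
   ⟨[35, 36, 37, 38, 39, 40, 41, 42, 43, 44, 45, 46, 47], [36], .weyl [1] 134⟩,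
   ⟨[34, 35, 36, 37, 38, 39, 40, 41, 42, 43, 44, 45, 46, 47], [36], .kill 21 36 34 1 1 [34, 35, 36, 37, 38, 39, 40, 41, 42, 43, 44, 45, 46, 47] 137⟩,
   ⟨[34, 35, 36, 37, 38, 39, 40, 41, 42, 43, 44, 45, 46, 47], [34], .weyl [3, 2] 138⟩,
   ⟨[34, 35, 36, 37, 38, 39, 40, 41, 42, 43, 44, 45, 46, 47], [], .split 34 136 139⟩,
   ⟨[37, 38, 39, 44, 45, 46, 47], [39, 44], .kill 21 39 37 1 1 [37, 38, 39, 44, 45, 46, 47] 76⟩,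
   ⟨[37, 38, 39, 44, 45, 46, 47], [37, 44], .weyl [2, 3] 141⟩,
   ⟨[37, 38, 39, 44, 45, 46, 47], [44], .split 37 78 142⟩,
   ⟨[25, 35, 36, 40, 44, 47], [25, 35, 40, 44], .kill 17 40 36 1 1 [25, 35, 36, 40, 44, 47] 104⟩,
   ⟨[25, 35, 36, 40, 44, 47], [25, 35, 36, 44], .weyl [1, 2, 1] 144⟩,
   ⟨[25, 35, 36, 40, 44, 47], [25, 35, 44], .split 36 105 145⟩,
   ⟨[25, 35, 36, 40, 44, 47], [25, 44], .split 35 119 146⟩,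
   ⟨[26, 35, 36, 40, 44, 46], [26, 44], .weyl [3] 147⟩,
   ⟨[26, 35, 36, 40, 44, 46, 47], [26, 44], .kill 45 26 47 1 1 [26, 35, 36, 40, 44, 46, 47] 148⟩,
   ⟨[32, 37, 38, 39, 44, 45, 47], [32, 44], .weyl [1, 2] 149⟩,
   ⟨[32, 37, 38, 39, 44, 45, 46, 47], [32, 44], .kill 41 32 46 1 1 [32, 37, 38, 39, 44, 45, 46, 47] 150⟩,
   ⟨[32, 37, 38, 39, 44, 45, 46, 47], [44], .split 32 143 151⟩,
   ⟨[31, 32, 37, 38, 39, 44, 45, 46, 47], [32, 44], .kill 22 32 31 1 1 [31, 32, 37, 38, 39, 44, 45, 46, 47] 151⟩,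
   ⟨[31, 32, 37, 38, 39, 44, 45, 46, 47], [31, 44], .weyl [2] 153⟩,
   ⟨[31, 32, 37, 38, 39, 44, 45, 46, 47], [44], .split 31 152 154⟩,
   ⟨[30, 31, 32, 37, 38, 39, 44, 45, 46, 47], [32, 44], .kill 21 32 30 1 1 [30, 31, 32, 37, 38, 39, 44, 45, 46, 47] 153⟩,
   ⟨[30, 31, 32, 37, 38, 39, 44, 45, 46, 47], [30, 44], .weyl [2, 3] 156⟩,
   ⟨[30, 31, 32, 37, 38, 39, 44, 45, 46, 47], [44], .split 30 155 157⟩,
   ⟨[37, 38, 39, 40, 41, 42, 43, 45, 46, 47], [40], .weyl [0] 158⟩,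
   ⟨[37, 38, 39, 40, 41, 42, 43, 44, 45, 46, 47], [40], .kill 33 40 44 1 1 [37, 38, 39, 40, 41, 42, 43, 44, 45, 46, 47] 159⟩,
   ⟨[33, 37, 38, 39, 40, 41, 42, 43, 44, 45, 46, 47], [40], .sq 40 33 44 1 1 160⟩,
   ⟨[33, 36, 37, 38, 39, 40, 41, 42, 43, 44, 45, 46, 47], [40], .kill 17 40 36 1 1 [33, 36, 37, 38, 39, 40, 41, 42, 43, 44, 45, 46, 47] 161⟩,
   ⟨[34, 35, 36, 38, 39, 40, 41, 42, 43, 44, 45, 46, 47], [39], .weyl [1] 162⟩,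
   ⟨[34, 35, 36, 37, 38, 39, 40, 41, 42, 43, 44, 45, 46, 47], [39], .kill 21 39 37 1 1 [34, 35, 36, 37, 38, 39, 40, 41, 42, 43, 44, 45, 46, 47] 163⟩,
   ⟨[33, 35, 36, 37, 38, 39, 40, 41, 42, 43, 44, 45, 46, 47], [40], .weyl [1] 164⟩,
   ⟨[33, 34, 35, 36, 37, 38, 39, 40, 41, 42, 43, 44, 45, 46, 47], [40], .kill 15 40 34 1 1 [33, 34, 35, 36, 37, 38, 39, 40, 41, 42, 43, 44, 45, 46, 47] 165⟩,
   ⟨[33, 34, 35, 36, 37, 38, 39, 40, 41, 42, 43, 44, 45, 46, 47], [33], .weyl [1, 2, 3, 1, 2, 1] 166⟩,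
   ⟨[33, 34, 35, 36, 37, 38, 39, 40, 41, 42, 43, 44, 45, 46, 47], [], .split 33 140 167⟩,
   ⟨[30, 47], [30], .weyl [3, 2, 1, 2, 3, 0] 22⟩,
   ⟨[30, 44, 47], [30], .split 44 169 44⟩,
   ⟨[30, 41, 44, 47], [30, 47], .kill 18 47 44 1 1 [30, 41, 44, 47] 87⟩,
   ⟨[30, 41, 44, 47], [30, 41], .weyl [3, 2, 1, 2, 3] 171⟩,
   ⟨[30, 41, 44, 47], [30], .split 41 170 172⟩,
   ⟨[25, 41, 44, 47], [25], .weyl [1] 173⟩,
   ⟨[28, 47], [28, 47], .weyl [1, 0] 39⟩,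
   ⟨[28, 44, 47], [28, 47], .split 44 175 93⟩,
   ⟨[28, 41, 44], [28, 41], .weyl [3, 2, 1, 2, 3] 176⟩,
   ⟨[28, 41, 47], [28, 41, 47], .kill 29 41 47 2 1 [28, 41, 44, 47] 177⟩,
   ⟨[25, 30, 44], [25, 30, 44], .weyl [3, 2, 0, 1, 2, 3, 1, 0] 178⟩]

/-- Part 3 of the tree. -/
def cert3 : List Node :=
  [⟨[28, 30, 44, 47], [30, 44, 47], .split 28 43 101⟩,
   ⟨[25, 28, 44, 47], [25, 44, 47], .weyl [1] 180⟩,
   ⟨[25, 30, 44, 47], [25, 30, 44, 47], .kill 27 25 30 2 1 [25, 28, 30, 44, 47] 181⟩,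
   ⟨[25, 30, 44, 47], [25, 30, 44], .split 47 179 182⟩,
   ⟨[25, 30, 44, 47], [30, 44], .split 25 44 183⟩,
   ⟨[25, 40, 41, 47], [25, 40], .weyl [1, 0] 184⟩,
   ⟨[25, 40, 41, 44, 47], [25, 40], .kill 33 40 44 1 1 [25, 40, 41, 44, 47] 185⟩,
   ⟨[25, 40, 41, 44, 47], [25], .split 40 174 186⟩,
   ⟨[25, 37, 40, 41, 44, 47], [25, 40], .kill 18 40 37 1 1 [25, 37, 40, 41, 44, 47] 186⟩,
   ⟨[25, 37, 40, 41, 44, 47], [25, 37], .weyl [3, 2, 1, 2, 3] 188⟩,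
   ⟨[25, 37, 40, 41, 44, 47], [25], .split 37 187 189⟩,
   ⟨[25, 36, 40, 41, 44, 47], [25, 40], .kill 17 40 36 1 1 [25, 36, 40, 41, 44, 47] 186⟩,
   ⟨[25, 36, 40, 41, 44, 47], [25, 36], .weyl [1, 2, 1] 191⟩,
   ⟨[25, 36, 37, 40, 41, 44, 47], [25, 36], .sq 36 37 44 1 1 192⟩,
   ⟨[25, 36, 37, 40, 41, 44, 47], [25], .split 36 190 193⟩,
   ⟨[25, 36, 37, 40, 41, 44, 47], [25, 37], .sq 37 36 44 1 1 189⟩,
   ⟨[25, 33, 37, 40, 41, 44, 47], [25, 40], .weyl [3, 2, 1, 2, 3] 195⟩,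
   ⟨[25, 33, 36, 37, 40, 41, 44, 47], [25, 40], .kill 17 40 36 1 1 [25, 33, 36, 37, 40, 41, 44, 47] 196⟩,
   ⟨[25, 33, 36, 37, 40, 41, 44, 47], [25, 33], .weyl [3, 2, 1, 2, 3, 1, 2, 1] 197⟩,
   ⟨[25, 33, 36, 37, 40, 41, 44, 47], [25], .split 33 194 198⟩,
   ⟨[26, 33, 35, 38, 40, 42, 44, 46], [26], .weyl [3] 199⟩,
   ⟨[26, 33, 35, 38, 40, 42, 44, 46, 47], [26], .kill 45 26 47 1 1 [26, 33, 35, 38, 40, 42, 44, 46, 47] 200⟩,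
   ⟨[32, 35, 36, 37, 38, 43, 44, 45, 47], [32], .weyl [1, 2] 201⟩,
   ⟨[32, 35, 36, 37, 38, 43, 44, 45, 46, 47], [32], .kill 41 32 46 1 1 [32, 35, 36, 37, 38, 43, 44, 45, 46, 47] 202⟩,
   ⟨[32, 35, 36, 37, 38, 40, 43, 44, 45, 46, 47], [32], .kill 34 32 40 1 1 [32, 35, 36, 37, 38, 40, 43, 44, 45, 46, 47] 203⟩,
   ⟨[32, 35, 36, 37, 38, 39, 40, 43, 44, 45, 46, 47], [32], .kill 33 32 39 1 1 [32, 35, 36, 37, 38, 39, 40, 43, 44, 45, 46, 47] 204⟩,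
   ⟨[32, 35, 36, 37, 38, 39, 40, 42, 43, 44, 45, 46, 47], [32], .sq 32 42 47 1 1 205⟩,
   ⟨[32, 35, 36, 37, 38, 39, 40, 41, 42, 43, 44, 45, 46, 47], [32], .sq 32 41 46 1 1 206⟩,
   ⟨[32, 34, 35, 36, 37, 38, 39, 40, 41, 42, 43, 44, 45, 46, 47], [32], .sq 32 34 40 1 1 207⟩,
   ⟨[32, 33, 34, 35, 36, 37, 38, 39, 40, 41, 42, 43, 44, 45, 46, 47], [32], .sq 32 33 39 1 1 208⟩,
   ⟨[32, 33, 34, 35, 36, 37, 38, 39, 40, 41, 42, 43, 44, 45, 46, 47], [], .split 32 168 209⟩,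
   ⟨[31, 32, 34, 35, 36, 37, 38, 39, 40, 41, 42, 43, 44, 45, 46, 47], [32], .kill 22 32 31 1 1 [31, 32, 34, 35, 36, 37, 38, 39, 40, 41, 42, 43, 44, 45, 46, 47] 208⟩,
   ⟨[31, 32, 33, 34, 35, 36, 37, 38, 39, 40, 41, 42, 43, 44, 45, 46, 47], [32], .sq 32 33 39 1 1 211⟩,
   ⟨[31, 32, 33, 34, 35, 36, 37, 38, 39, 40, 41, 42, 43, 44, 45, 46, 47], [31], .weyl [2] 212⟩,
   ⟨[31, 32, 33, 34, 35, 36, 37, 38, 39, 40, 41, 42, 43, 44, 45, 46, 47], [], .split 31 210 213⟩,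
   ⟨[30, 31, 32, 34, 35, 36, 37, 38, 39, 40, 41, 42, 43, 44, 45, 46, 47], [32], .kill 21 32 30 1 1 [30, 31, 32, 34, 35, 36, 37, 38, 39, 40, 41, 42, 43, 44, 45, 46, 47] 211⟩,
   ⟨[30, 31, 32, 33, 34, 35, 36, 37, 38, 39, 40, 41, 42, 43, 44, 45, 46, 47], [32], .sq 32 33 39 1 1 215⟩,
   ⟨[30, 31, 32, 33, 34, 35, 36, 37, 38, 39, 40, 41, 42, 43, 44, 45, 46, 47], [30], .weyl [2, 3] 216⟩,
   ⟨[30, 31, 32, 33, 34, 35, 36, 37, 38, 39, 40, 41, 42, 43, 44, 45, 46, 47], [], .split 30 214 217⟩,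
   ⟨[26, 31, 44, 46], [31, 44], .weyl [3] 184⟩,
   ⟨[26, 31, 44, 46, 47], [31, 44], .kill 43 31 47 1 1 [26, 31, 44, 46, 47] 219⟩,
   ⟨[32, 38, 43, 45, 47], [38, 43], .weyl [0, 1, 2] 220⟩,
   ⟨[32, 38, 43, 45, 46, 47], [38, 43], .kill 30 43 46 1 1 [32, 38, 43, 45, 46, 47] 221⟩,
   ⟨[26, 31, 32, 44, 46, 47], [26, 44], .weyl [2, 0, 1, 0] 222⟩,
   ⟨[26, 31, 32, 44, 45, 46, 47], [26, 44], .sq 26 45 47 1 1 223⟩,
   ⟨[26, 30, 31, 32, 44, 45, 46, 47], [26, 44], .sq 26 30 32 1 1 224⟩,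
   ⟨[26, 30, 31, 32, 44, 45, 46, 47], [44], .split 26 55 225⟩,
   ⟨[24, 26, 31, 32, 44, 45, 46, 47], [26, 44], .kill 22 26 24 1 1 [24, 26, 31, 32, 44, 45, 46, 47] 224⟩,
   ⟨[24, 26, 30, 31, 32, 44, 45, 46, 47], [26, 44], .sq 26 30 32 1 1 227⟩,
   ⟨[24, 26, 30, 31, 32, 44, 45, 46, 47], [24, 44], .weyl [2] 228⟩,
   ⟨[24, 26, 30, 31, 32, 44, 45, 46, 47], [44], .split 24 226 229⟩,
   ⟨[24, 26, 40, 41, 42, 43, 45, 46, 47], [40], .weyl [0] 230⟩,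
   ⟨[24, 26, 40, 41, 42, 43, 44, 45, 46, 47], [40], .kill 33 40 44 1 1 [24, 26, 40, 41, 42, 43, 44, 45, 46, 47] 231⟩,
   ⟨[24, 31, 39, 41, 42, 43, 44, 45, 46, 47], [39], .weyl [1] 232⟩,
   ⟨[24, 31, 39, 40, 41, 42, 43, 44, 45, 46, 47], [39], .kill 27 39 40 1 1 [24, 31, 39, 40, 41, 42, 43, 44, 45, 46, 47] 233⟩,
   ⟨[26, 32, 38, 40, 41, 42, 43, 44, 45, 46, 47], [38], .weyl [2] 234⟩,
   ⟨[26, 32, 38, 39, 40, 41, 42, 43, 44, 45, 46, 47], [38], .kill 25 38 39 1 1 [26, 32, 38, 39, 40, 41, 42, 43, 44, 45, 46, 47] 235⟩,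
   ⟨[31, 32, 36, 39, 40, 41, 42, 43, 44, 45, 46, 47], [36], .weyl [1] 236⟩,
   ⟨[31, 32, 36, 38, 39, 40, 41, 42, 43, 44, 45, 46, 47], [36], .kill 27 36 38 1 1 [31, 32, 36, 38, 39, 40, 41, 42, 43, 44, 45, 46, 47] 237⟩,
   ⟨[31, 32, 36, 37, 38, 39, 40, 41, 42, 43, 44, 45, 46, 47], [36], .sq 36 37 44 1 1 238⟩]

/-- Part 4 of the tree. -/
def cert4 : List Node :=
  [⟨[30, 31, 32, 36, 37, 38, 39, 40, 41, 42, 43, 44, 45, 46, 47], [36], .sq 36 30 40 1 1 239⟩,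
   ⟨[29, 30, 31, 32, 36, 37, 38, 39, 40, 41, 42, 43, 44, 45, 46, 47], [36], .kill 14 36 29 1 1 [29, 30, 31, 32, 36, 37, 38, 39, 40, 41, 42, 43, 44, 45, 46, 47] 240⟩,
   ⟨[29, 30, 31, 32, 36, 37, 38, 39, 40, 41, 42, 43, 44, 45, 46, 47], [29], .weyl [0] 241⟩,
   ⟨[29, 30, 31, 32, 35, 36, 37, 38, 39, 40, 41, 42, 43, 44, 45, 46, 47], [29], .sq 29 35 39 1 1 242⟩,
   ⟨[29, 30, 31, 32, 34, 35, 36, 37, 38, 39, 40, 41, 42, 43, 44, 45, 46, 47], [29], .sq 29 34 38 1 1 243⟩,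
   ⟨[29, 30, 31, 32, 33, 34, 35, 36, 37, 38, 39, 40, 41, 42, 43, 44, 45, 46, 47], [29], .sq 29 33 36 1 1 244⟩,
   ⟨[29, 30, 31, 32, 33, 34, 35, 36, 37, 38, 39, 40, 41, 42, 43, 44, 45, 46, 47], [], .split 29 218 245⟩,
   ⟨[30, 31, 32, 35, 36, 37, 38, 39, 40, 41, 42, 43, 44, 45, 46, 47], [36], .kill 23 36 35 1 1 [30, 31, 32, 35, 36, 37, 38, 39, 40, 41, 42, 43, 44, 45, 46, 47] 240⟩,
   ⟨[30, 31, 32, 35, 36, 37, 38, 39, 40, 41, 42, 43, 44, 45, 46, 47], [35], .weyl [3] 247⟩,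
   ⟨[29, 30, 31, 32, 35, 36, 37, 38, 39, 40, 41, 42, 43, 44, 45, 46, 47], [35], .sq 35 29 39 1 1 248⟩,
   ⟨[28, 30, 31, 32, 35, 36, 37, 38, 39, 40, 41, 42, 43, 44, 45, 46, 47], [36], .weyl [3] 249⟩,
   ⟨[28, 29, 30, 31, 32, 35, 36, 37, 38, 39, 40, 41, 42, 43, 44, 45, 46, 47], [36], .kill 14 36 29 1 1 [28, 29, 30, 31, 32, 35, 36, 37, 38, 39, 40, 41, 42, 43, 44, 45, 46, 47] 250⟩,
   ⟨[28, 29, 30, 31, 32, 35, 36, 37, 38, 39, 40, 41, 42, 43, 44, 45, 46, 47], [29], .weyl [0] 251⟩,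
   ⟨[28, 29, 30, 31, 32, 34, 35, 36, 37, 38, 39, 40, 41, 42, 43, 44, 45, 46, 47], [29], .sq 29 34 38 1 1 252⟩,
   ⟨[28, 29, 30, 31, 32, 33, 34, 35, 36, 37, 38, 39, 40, 41, 42, 43, 44, 45, 46, 47], [29], .sq 29 33 36 1 1 253⟩,
   ⟨[28, 29, 30, 31, 32, 33, 34, 35, 36, 37, 38, 39, 40, 41, 42, 43, 44, 45, 46, 47], [28], .weyl [3] 254⟩,
   ⟨[28, 29, 30, 31, 32, 33, 34, 35, 36, 37, 38, 39, 40, 41, 42, 43, 44, 45, 46, 47], [], .split 28 246 255⟩,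
   ⟨[30, 31, 32, 34, 35, 36, 37, 38, 39, 40, 41, 42, 43, 44, 45, 46, 47], [36], .kill 21 36 34 1 1 [30, 31, 32, 34, 35, 36, 37, 38, 39, 40, 41, 42, 43, 44, 45, 46, 47] 247⟩,
   ⟨[30, 31, 32, 34, 35, 36, 37, 38, 39, 40, 41, 42, 43, 44, 45, 46, 47], [35], .weyl [3] 257⟩,
   ⟨[29, 30, 31, 32, 34, 35, 36, 37, 38, 39, 40, 41, 42, 43, 44, 45, 46, 47], [35], .sq 35 29 39 1 1 258⟩,
   ⟨[29, 30, 31, 32, 34, 35, 36, 37, 38, 39, 40, 41, 42, 43, 44, 45, 46, 47], [34], .weyl [2] 259⟩,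
   ⟨[28, 29, 30, 31, 32, 34, 35, 36, 37, 38, 39, 40, 41, 42, 43, 44, 45, 46, 47], [34], .sq 34 28 37 1 1 260⟩,
   ⟨[27, 28, 30, 31, 32, 34, 35, 36, 37, 38, 39, 40, 41, 42, 43, 44, 45, 46, 47], [36], .weyl [2, 3] 261⟩,
   ⟨[27, 28, 29, 30, 31, 32, 34, 35, 36, 37, 38, 39, 40, 41, 42, 43, 44, 45, 46, 47], [36], .kill 14 36 29 1 1 [27, 28, 29, 30, 31, 32, 34, 35, 36, 37, 38, 39, 40, 41, 42, 43, 44, 45, 46, 47] 262⟩,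
   ⟨[27, 28, 29, 30, 31, 32, 34, 35, 36, 37, 38, 39, 40, 41, 42, 43, 44, 45, 46, 47], [29], .weyl [0] 263⟩,
   ⟨[27, 28, 29, 30, 31, 32, 33, 34, 35, 36, 37, 38, 39, 40, 41, 42, 43, 44, 45, 46, 47], [29], .sq 29 33 36 1 1 264⟩,
   ⟨[27, 28, 29, 30, 31, 32, 33, 34, 35, 36, 37, 38, 39, 40, 41, 42, 43, 44, 45, 46, 47], [27], .weyl [3, 2] 265⟩,
   ⟨[27, 28, 29, 30, 31, 32, 33, 34, 35, 36, 37, 38, 39, 40, 41, 42, 43, 44, 45, 46, 47], [], .split 27 256 266⟩,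
   ⟨[25, 30, 47], [25, 30], .weyl [3, 2, 0, 1, 2, 3, 1, 0] 86⟩,
   ⟨[25, 30, 44, 47], [25, 30], .split 44 268 183⟩,
   ⟨[25, 30, 47], [25, 30, 47], .weyl [1, 0] 85⟩,
   ⟨[25, 30, 44, 47], [25, 30, 47], .split 44 270 182⟩,
   ⟨[25, 28, 41, 47], [25, 41, 47], .weyl [3, 2, 0, 1, 2, 3, 0, 1, 0] 271⟩,
   ⟨[25, 30, 41, 47], [25, 30, 41, 47], .kill 27 25 30 2 1 [25, 28, 30, 41, 47] 272⟩,
   ⟨[25, 30, 41, 47], [30, 41, 47], .split 25 85 273⟩,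
   ⟨[25, 30, 41, 47], [25, 30, 47], .weyl [1, 0] 274⟩,
   ⟨[25, 30, 41, 44, 47], [25, 30, 47], .kill 18 47 44 1 1 [25, 30, 41, 44, 47] 275⟩,
   ⟨[25, 30, 41, 44, 47], [25, 30, 41], .weyl [3, 2, 1, 2, 3] 276⟩,
   ⟨[25, 30, 41, 44, 47], [25, 30], .split 41 269 277⟩,
   ⟨[25, 30, 40, 41, 47], [25, 41], .weyl [0] 278⟩,
   ⟨[25, 30, 40, 41, 44, 47], [25, 41], .kill 29 41 44 1 1 [25, 30, 40, 41, 44, 47] 279⟩,
   ⟨[25, 30, 37, 41, 44, 47], [25, 47], .weyl [3, 2, 1, 2, 3] 280⟩,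
   ⟨[25, 30, 37, 40, 41, 44, 47], [25, 47], .kill 11 47 40 1 1 [25, 30, 37, 40, 41, 44, 47] 281⟩,
   ⟨[25, 30, 37, 40, 41, 44, 47], [25, 30], .weyl [3, 2, 1, 2, 3, 0] 282⟩,
   ⟨[25, 30, 36, 37, 40, 41, 44, 47], [25, 30], .sq 30 36 40 1 1 283⟩,
   ⟨[25, 30, 33, 36, 37, 40, 41, 44, 47], [25, 30], .sq 30 33 37 1 1 284⟩,
   ⟨[25, 30, 33, 36, 37, 40, 41, 44, 47], [25], .split 30 199 285⟩,
   ⟨[25, 30, 36, 37, 40, 41, 44, 47], [25, 36], .sq 36 30 40 1 1 193⟩,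
   ⟨[25, 29, 30, 36, 37, 40, 41, 44, 47], [25, 36], .kill 14 36 29 1 1 [25, 29, 30, 36, 37, 40, 41, 44, 47] 287⟩,
   ⟨[25, 29, 30, 36, 37, 40, 41, 44, 47], [25, 29], .weyl [0] 288⟩,
   ⟨[25, 29, 30, 33, 36, 37, 40, 41, 44, 47], [25, 29], .sq 29 33 36 1 1 289⟩,
   ⟨[25, 29, 30, 33, 36, 37, 40, 41, 44, 47], [25], .split 29 286 290⟩,
   ⟨[26, 28, 31, 33, 35, 38, 40, 42, 44, 46], [26], .weyl [3] 291⟩,
   ⟨[26, 28, 31, 33, 35, 38, 40, 42, 44, 46, 47], [26], .kill 45 26 47 1 1 [26, 28, 31, 33, 35, 38, 40, 42, 44, 46, 47] 292⟩,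
   ⟨[24, 27, 32, 33, 34, 39, 40, 43, 44, 45, 47], [24], .weyl [2] 293⟩,
   ⟨[24, 27, 32, 33, 34, 39, 40, 43, 44, 45, 46, 47], [24], .sq 24 46 47 1 1 294⟩,
   ⟨[24, 27, 32, 33, 34, 39, 40, 42, 43, 44, 45, 46, 47], [24], .kill 41 24 42 1 1 [24, 27, 32, 33, 34, 39, 40, 42, 43, 44, 45, 46, 47] 295⟩,
   ⟨[26, 28, 31, 33, 35, 38, 40, 42, 43, 44, 45, 46, 47], [26], .weyl [2] 296⟩,
   ⟨[26, 28, 31, 33, 35, 38, 39, 40, 42, 43, 44, 45, 46, 47], [26], .kill 37 26 39 1 1 [26, 28, 31, 33, 35, 38, 39, 40, 42, 43, 44, 45, 46, 47] 297⟩,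
   ⟨[26, 28, 31, 33, 35, 37, 38, 39, 40, 42, 43, 44, 45, 46, 47], [26], .sq 26 37 39 1 1 298⟩]

/-- Part 5 of the tree. -/
def cert5 : List Node :=
  [⟨[24, 27, 32, 34, 35, 36, 37, 38, 40, 42, 43, 44, 45, 46, 47], [32], .weyl [1, 2] 299⟩,
   ⟨[24, 27, 32, 34, 35, 36, 37, 38, 39, 40, 42, 43, 44, 45, 46, 47], [32], .kill 33 32 39 1 1 [24, 27, 32, 34, 35, 36, 37, 38, 39, 40, 42, 43, 44, 45, 46, 47] 300⟩,
   ⟨[24, 27, 32, 34, 35, 36, 37, 38, 39, 40, 41, 42, 43, 44, 45, 46, 47], [32], .sq 32 41 46 1 1 301⟩,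
   ⟨[26, 28, 31, 34, 35, 36, 37, 38, 39, 40, 41, 42, 43, 44, 45, 46, 47], [31], .weyl [2] 302⟩,
   ⟨[26, 28, 31, 32, 34, 35, 36, 37, 38, 39, 40, 41, 42, 43, 44, 45, 46, 47], [31], .kill 25 31 32 1 1 [26, 28, 31, 32, 34, 35, 36, 37, 38, 39, 40, 41, 42, 43, 44, 45, 46, 47] 303⟩,
   ⟨[26, 28, 31, 32, 33, 34, 35, 36, 37, 38, 39, 40, 41, 42, 43, 44, 45, 46, 47], [31], .sq 31 33 38 1 1 304⟩,
   ⟨[26, 28, 29, 31, 32, 33, 34, 35, 36, 37, 38, 39, 40, 41, 42, 43, 44, 45, 46, 47], [31], .kill 20 31 29 1 1 [26, 28, 29, 31, 32, 33, 34, 35, 36, 37, 38, 39, 40, 41, 42, 43, 44, 45, 46, 47] 305⟩,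
   ⟨[26, 28, 29, 31, 32, 33, 34, 35, 36, 37, 38, 39, 40, 41, 42, 43, 44, 45, 46, 47], [26], .weyl [1] 306⟩,
   ⟨[26, 28, 29, 30, 31, 32, 33, 34, 35, 36, 37, 38, 39, 40, 41, 42, 43, 44, 45, 46, 47], [26], .sq 26 30 32 1 1 307⟩,
   ⟨[26, 27, 28, 29, 30, 31, 32, 33, 34, 35, 36, 37, 38, 39, 40, 41, 42, 43, 44, 45, 46, 47], [26], .sq 26 27 29 1 1 308⟩,
   ⟨[26, 27, 28, 29, 30, 31, 32, 33, 34, 35, 36, 37, 38, 39, 40, 41, 42, 43, 44, 45, 46, 47], [], .split 26 267 309⟩,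
   ⟨[25, 26, 28, 31, 32, 34, 35, 36, 37, 38, 39, 40, 41, 42, 43, 44, 45, 46, 47], [31], .sq 31 25 32 1 1 304⟩,
   ⟨[25, 26, 29, 30, 32, 34, 35, 36, 37, 38, 39, 40, 41, 42, 43, 44, 45, 46, 47], [30], .weyl [3] 311⟩,
   ⟨[25, 26, 29, 30, 31, 32, 34, 35, 36, 37, 38, 39, 40, 41, 42, 43, 44, 45, 46, 47], [30], .kill 24 30 31 1 1 [25, 26, 29, 30, 31, 32, 34, 35, 36, 37, 38, 39, 40, 41, 42, 43, 44, 45, 46, 47] 312⟩,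
   ⟨[25, 26, 29, 30, 31, 32, 33, 34, 35, 36, 37, 38, 39, 40, 41, 42, 43, 44, 45, 46, 47], [30], .sq 30 33 37 1 1 313⟩,
   ⟨[25, 26, 28, 30, 31, 32, 33, 34, 35, 36, 37, 38, 39, 40, 41, 42, 43, 44, 45, 46, 47], [31], .weyl [3] 314⟩,
   ⟨[25, 26, 28, 29, 30, 31, 32, 33, 34, 35, 36, 37, 38, 39, 40, 41, 42, 43, 44, 45, 46, 47], [31], .kill 20 31 29 1 1 [25, 26, 28, 29, 30, 31, 32, 33, 34, 35, 36, 37, 38, 39, 40, 41, 42, 43, 44, 45, 46, 47] 315⟩,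
   ⟨[25, 26, 28, 29, 30, 31, 32, 33, 34, 35, 36, 37, 38, 39, 40, 41, 42, 43, 44, 45, 46, 47], [26], .weyl [1] 316⟩,
   ⟨[25, 26, 27, 28, 29, 30, 31, 32, 33, 34, 35, 36, 37, 38, 39, 40, 41, 42, 43, 44, 45, 46, 47], [26], .sq 26 27 29 1 1 317⟩,
   ⟨[25, 26, 27, 28, 29, 30, 31, 32, 33, 34, 35, 36, 37, 38, 39, 40, 41, 42, 43, 44, 45, 46, 47], [25], .weyl [3] 318⟩,
   ⟨[25, 26, 27, 28, 29, 30, 31, 32, 33, 34, 35, 36, 37, 38, 39, 40, 41, 42, 43, 44, 45, 46, 47], [], .split 25 310 319⟩,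
   ⟨[24, 26, 27, 28, 29, 30, 31, 32, 33, 34, 35, 36, 37, 38, 39, 40, 41, 42, 43, 44, 45, 46, 47], [26], .kill 22 26 24 1 1 [24, 26, 27, 28, 29, 30, 31, 32, 33, 34, 35, 36, 37, 38, 39, 40, 41, 42, 43, 44, 45, 46, 47] 309⟩,
   ⟨[24, 26, 27, 28, 29, 30, 31, 32, 33, 34, 35, 36, 37, 38, 39, 40, 41, 42, 43, 44, 45, 46, 47], [24], .weyl [2] 321⟩,
   ⟨[24, 25, 26, 27, 28, 29, 30, 31, 32, 33, 34, 35, 36, 37, 38, 39, 40, 41, 42, 43, 44, 45, 46, 47], [24], .sq 24 25 26 1 1 322⟩,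
   ⟨[24, 25, 26, 27, 28, 29, 30, 31, 32, 33, 34, 35, 36, 37, 38, 39, 40, 41, 42, 43, 44, 45, 46, 47], [], .split 24 320 323⟩]

/-- The decision tree. -/
def cert : List Node := cert0 ++ cert1 ++ cert2 ++ cert3 ++ cert4 ++ cert5

theorem cert_ok : allOkB [] cert = true := by decide +kernel

theorem cert_top : cert.getLast?.map (fun n => (n.S, n.N)) = some (posL, []) := by decide +kernel

theorem table_ok : ∀ g < 48, ∀ s ∈ posL, s ≠ g →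
    termsOf g s = ((chevF4.commTerms g s).filter fun c => decide (c.2.1 % 2 ≠ 0)).map
      fun c => (c.1, c.2.2.1, c.2.2.2) := by decide +kernel

theorem neg_ok : ∀ r < 48, chevF4.neg r = 47 - r := by decide +kernel

theorem refl_ok : ∀ i < 4, ∀ x < 48, (RT.getD i []).getD x 0 = chevF4.reflectRoot i x := by decide +kernel

theorem posL_eq : chevF4.posRoots = posL := by decide +kernel

end Cfsg.Agent.FGS3.F4Inv
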