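import Cfsg.Agent.FGS3.F4InvSound
import Cfsg.Agent.LeadWork.RootCentralizerV
import Cfsg.Agent.LeadWork.ChevFieldInvolution
import Cfsg.Agent.Chev.OrdersByType

/-! # The four classes of involutions of F₄ in characteristic two -/

set_option autoImplicit false
set_option maxRecDepth 10000
set_option maxHeartbeats 1000000
set_option linter.unusedSectionVars false

universe u

namespace Cfsg.Agent.FGS3.F4Inv

open Cfsg.Lie Cfsg.Agent.Chev
open scoped Matrix MatrixGroups

/-- Rows of the matrix. -/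
def full47 : List ℕ := [16, 0, 16, 0, 0, 0, 0, 0, 0, 0, 0, 0, 0, 0, 0, 0, 0, 0, 0, 0, 0, 0, 0, 0, 0, 0, 0, 0, 32, 0, 64, 0, 0, 128, 0, 256, 512, 0, 0, 0, 2048, 0, 4096, 8192, 32768, 0, 524288, 1048576, 4194304, 33554432, 134217728, 24]
/-- Left factor. -/
def left47 : List ℕ := [1, 0, 1, 0, 0, 0, 0, 0, 0, 0, 0, 0, 0, 0, 0, 0, 0, 0, 0, 0, 0, 0, 0, 0, 0, 0, 0, 0, 2, 0, 4, 0, 0, 8, 0, 16, 32, 0, 0, 0, 64, 0, 128, 256, 512, 0, 1024, 2048, 4096, 8192, 16384, 32768]
/-- Right factor. -/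
def right47 : List ℕ := [16, 32, 64, 128, 256, 512, 2048, 4096, 8192, 32768, 524288, 1048576, 4194304, 33554432, 134217728, 24]
/-- Rows of the matrix. -/
def full44 : List ℕ := [0, 128, 0, 0, 0, 0, 0, 0, 0, 0, 0, 0, 0, 0, 0, 0, 0, 0, 0, 0, 0, 0, 16, 32, 64, 0, 0, 0, 0, 0, 0, 256, 512, 1024, 0, 0, 0, 2048, 4096, 8192, 16384, 32768, 65536, 131072, 262144, 16, 32, 64, 129, 256, 512, 1024]
/-- Left factor. -/
def left44 : List ℕ := [0, 1, 0, 0, 0, 0, 0, 0, 0, 0, 0, 0, 0, 0, 0, 0, 0, 0, 0, 0, 0, 0, 2, 4, 8, 0, 0, 0, 0, 0, 0, 16, 32, 64, 0, 0, 0, 128, 256, 512, 1024, 2048, 4096, 8192, 16384, 2, 4, 8, 32768, 16, 32, 64]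
/-- Right factor. -/
def right44 : List ℕ := [128, 16, 32, 64, 256, 512, 1024, 2048, 4096, 8192, 16384, 32768, 65536, 131072, 262144, 129]
/-- Rows of the matrix. -/
def fullW : List ℕ := [16, 128, 16, 0, 0, 0, 0, 0, 0, 0, 0, 0, 0, 0, 0, 0, 0, 0, 0, 0, 0, 0, 16, 32, 64, 0, 0, 0, 32, 0, 64, 256, 512, 1152, 0, 256, 512, 2048, 4096, 8192, 18432, 32768, 69632, 139264, 294912, 16, 524320, 1048640, 4194449, 33554688, 134218240, 1048]
/-- Left factor. -/
def leftW : List ℕ := [1, 2, 1, 0, 0, 0, 0, 0, 0, 0, 0, 0, 0, 0, 0, 0, 0, 0, 0, 0, 0, 0, 1, 4, 8, 0, 0, 0, 4, 0, 8, 16, 32, 64, 0, 16, 32, 128, 256, 512, 1024, 2048, 4096, 8192, 16384, 1, 32768, 65536, 131072, 262144, 524288, 1048576]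
/-- Right factor. -/
def rightW : List ℕ := [16, 128, 32, 64, 256, 512, 1152, 2048, 4096, 8192, 18432, 32768, 69632, 139264, 294912, 524320, 1048640, 4194449, 33554688, 134218240, 1048]
/-- Rows of a minor. -/
def rowsW : List ℕ := [0, 1, 23, 24, 31, 32, 33, 37, 38, 39, 40, 41, 42, 43, 44, 46, 47, 48, 49, 50, 51]
/-- Columns of a minor. -/
def colsW : List ℕ := [3, 4, 5, 6, 7, 8, 9, 10, 11, 12, 13, 14, 15, 16, 17, 18, 19, 20, 22, 25, 27]
/-- Inverse of the minor. -/
def invW : List ℕ := [1048643, 1, 4, 8, 2, 16, 32, 66, 128, 256, 512, 1152, 2048, 4352, 8704, 18432, 32772, 65544, 131075, 262160, 524320]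
/-- Rows of the matrix. -/
def fullV : List ℕ := [4160, 0, 0, 64, 0, 0, 0, 0, 0, 0, 0, 0, 0, 16, 32, 0, 0, 128, 256, 0, 0, 0, 0, 0, 2048, 16, 32, 0, 0, 16, 32, 128, 32768, 65536, 512, 1024, 256, 524288, 2048, 4194304, 8388608, 33562640, 67125280, 4102, 2147614848, 1048576, 2097152, 524288, 274894686208, 68, 570425360, 1140850720]
/-- Rows of a minor. -/
def rowsV : List ℕ := [0, 3, 13, 14, 17, 18, 24, 32, 33, 34, 35, 37, 39, 40, 41, 42, 43, 44, 45, 46, 48, 49, 50, 51]
/-- Columns of a minor. -/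
def colsV : List ℕ := [1, 2, 4, 5, 6, 7, 8, 9, 10, 11, 12, 15, 16, 19, 20, 21, 22, 23, 25, 26, 29, 30, 31, 38]
/-- Inverse of the minor. -/
def invV : List ℕ := [2162689, 2097154, 4, 8, 2, 16, 32, 512, 1024, 64, 3, 128, 256, 2048, 262144, 524288, 4096, 8192, 16388, 32776, 4210688, 8421376, 131088, 1048640]

/-- The index with a given position. -/
def ix : ℕ → chevF4.Idx := fun i =>
  if i < 4 then Sum.inl ⟨i % 4, Nat.mod_lt _ (by decide)⟩ else Sum.inr ⟨(i - 4) % 48, Nat.mod_lt _ (by decide)⟩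

/-- The position of an index. -/
def posI : chevF4.Idx → ℕ := Sum.elim (fun k => (k : ℕ)) fun s => 4 + s

/-- A 0-1 matrix given by the bits of its rows. -/
def bitM (l : List ℕ) {m n : Type} (a : m → ℕ) (b : n → ℕ) : Matrix m n (ZMod 2) := fun i j =>
  if (l.getD (a i) 0).testBit (b j) then 1 else 0

theorem z47 : chevF4.x (ZMod 2) 47 1 - 1 = bitM full47 posI posI := by decide +kernel
theorem z44 : chevF4.x (ZMod 2) 44 1 - 1 = bitM full44 posI posI := by decide +kernel
theorem zW : chevF4.x (ZMod 2) 47 1 * chevF4.x (ZMod 2) 44 1 - 1 = bitM fullW posI posI := by decide +kernel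
theorem zV : chevF4.x (ZMod 2) 39 1 * chevF4.x (ZMod 2) 45 1 - 1 = bitM fullV posI posI := by decide +kernel

theorem fac47 : bitM full47 posI posI = bitM left47 posI (Fin.val : Fin 16 → ℕ) * bitM right47 Fin.val posI := by
  decide +kernel
theorem fac44 : bitM full44 posI posI = bitM left44 posI (Fin.val : Fin 16 → ℕ) * bitM right44 Fin.val posI := by
  decide +kernel
theorem facW : bitM fullW posI posI = bitM leftW posI (Fin.val : Fin 21 → ℕ) * bitM rightW Fin.val posI := by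
  decide +kernel
theorem minW : bitM invW (Fin.val : Fin 21 → ℕ) (Fin.val : Fin 21 → ℕ) *
    (bitM fullW posI posI).submatrix (fun i : Fin 21 => ix (rowsW.getD i.val 0))
      (fun i : Fin 21 => ix (colsW.getD i.val 0)) = 1 := by decide +kernel
theorem minV : bitM invV (Fin.val : Fin 24 → ℕ) (Fin.val : Fin 24 → ℕ) *
    (bitM fullV posI posI).submatrix (fun i : Fin 24 => ix (rowsV.getD i.val 0))
      (fun i : Fin 24 => ix (colsV.getD i.val 0)) = 1 := by decide +kernel

theorem x_hom {L : Type*} [Field L] {K : Type u} [Field K] (φ : L →+* K) (r : ℕ) (t : L) :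
    (chevF4.x L r t).map φ = chevF4.x K r (φ t) := by
  unfold ChevalleyDatum.x
  split
  · ext row col
    rcases col with i | s <;> rcases row with j | v <;>
      simp [ChevalleyDatum.xMat, Matrix.of_apply, apply_ite φ, map_list_sum, List.map_map, Function.comp_def]
    all_goals (split <;> simp [apply_ite φ, map_list_sum, List.map_map, Function.comp_def])
  · rw [Matrix.map_one φ (map_zero φ) (map_one φ)]

variable {F : Type u} [Field F] [CharP F 2]

local notation "X" => Cert.xu cF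

/-- The rank of `g - 1`. -/
noncomputable def rk (g : GL chevF4.Idx F) : ℕ := ((g : Matrix chevF4.Idx chevF4.Idx F) - 1).rank

theorem rk_conj (k g : GL chevF4.Idx F) : rk (k * g * k⁻¹) = rk g := by
  have key : ∀ k g : GL chevF4.Idx F, rk (k * g * k⁻¹) ≤ rk g := by
    intro k g
    have e : ((k * g * k⁻¹ : GL chevF4.Idx F) : Matrix chevF4.Idx chevF4.Idx F) - 1 =
        (k : Matrix chevF4.Idx chevF4.Idx F) * ((g : Matrix chevF4.Idx chevF4.Idx F) - 1) *
          ((k⁻¹ : GL chevF4.Idx F) : Matrix chevF4.Idx chevF4.Idx F) := by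
      rw [Matrix.mul_sub, Matrix.sub_mul, Matrix.mul_one, Units.mul_inv, Units.val_mul, Units.val_mul]
    unfold rk
    rw [e]
    exact (Matrix.rank_mul_le_left _ _).trans (Matrix.rank_mul_le_right _ _)
  refine le_antisymm (key k g) ?_
  have := key k⁻¹ (k * g * k⁻¹)
  rwa [inv_inv, show k⁻¹ * (k * g * k⁻¹) * k = g by group] at this

theorem rank_le_of_fac {m : ℕ} {M : Matrix chevF4.Idx chevF4.Idx (ZMod 2)} {A : Matrix chevF4.Idx (Fin m) (ZMod 2)}
    {B : Matrix (Fin m) chevF4.Idx (ZMod 2)} (h : M = A * B) :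
    (M.map (ZMod.castHom (dvd_refl 2) F)).rank ≤ m := by
  rw [h, Matrix.map_mul]
  exact ((Matrix.rank_mul_le_left _ _).trans (Matrix.rank_le_card_width _)).trans (Fintype.card_fin m).le

theorem le_rank_of_minor {m : ℕ} {M : Matrix chevF4.Idx chevF4.Idx (ZMod 2)} {A : Matrix (Fin m) (Fin m) (ZMod 2)}
    {r c : Fin m → chevF4.Idx} (h : A * M.submatrix r c = 1) :
    m ≤ (M.map (ZMod.castHom (dvd_refl 2) F)).rank := by
  set φ : ZMod 2 →+* F := ZMod.castHom (dvd_refl 2) F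
  have e := congrArg (fun M => M.map φ) h
  simp only [Matrix.map_mul, ← Matrix.submatrix_map, Matrix.map_one φ (map_zero φ) (map_one φ)] at e
  have h1 : (M.map φ).submatrix r c = (1 : Matrix chevF4.Idx chevF4.Idx F).submatrix r id * (M.map φ) *
      (1 : Matrix chevF4.Idx chevF4.Idx F).submatrix id c := by
    ext i j
    simp [Matrix.mul_apply, Matrix.one_apply]
  have h2 := congrArg Matrix.rank e
  rw [Matrix.rank_one, Fintype.card_fin] at h2
  rw [← h2, h1]
  exact (Matrix.rank_mul_le_right _ _).trans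
    ((Matrix.rank_mul_le_left _ _).trans (Matrix.rank_mul_le_right _ _))

theorem rk_eq_one {r : ℕ} {M : Matrix chevF4.Idx chevF4.Idx (ZMod 2)} (h : chevF4.x (ZMod 2) r 1 - 1 = M) :
    rk (X r (1 : F)) = (M.map (ZMod.castHom (dvd_refl 2) F)).rank := by
  rw [← h, Matrix.map_sub _ (map_sub _), x_hom, Matrix.map_one _ (map_zero _) (map_one _), map_one]
  rfl

theorem rk_eq_two {r s : ℕ} {M : Matrix chevF4.Idx chevF4.Idx (ZMod 2)}
    (h : chevF4.x (ZMod 2) r 1 * chevF4.x (ZMod 2) s 1 - 1 = M) :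
    rk (X r (1 : F) * X s 1) = (M.map (ZMod.castHom (dvd_refl 2) F)).rank := by
  rw [← h, Matrix.map_sub _ (map_sub _), Matrix.map_mul, x_hom, x_hom, Matrix.map_one _ (map_zero _) (map_one _),
    map_one]
  rfl

theorem rk47 : rk (X 47 (1 : F)) ≤ 16 := (rk_eq_one z47).trans_le (rank_le_of_fac fac47)
theorem rk44 : rk (X 44 (1 : F)) ≤ 16 := (rk_eq_one z44).trans_le (rank_le_of_fac fac44)
theorem rkW : rk (X 47 (1 : F) * X 44 1) ≤ 21 := (rk_eq_two zW).trans_le (rank_le_of_fac facW)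
theorem rkW' : 21 ≤ rk (X 47 (1 : F) * X 44 1) := (le_rank_of_minor minW).trans_eq (rk_eq_two zW).symm
theorem rkV : 24 ≤ rk (X 39 (1 : F) * X 45 1) := (le_rank_of_minor minV).trans_eq (rk_eq_two zV).symm

theorem rk_one : rk (1 : GL chevF4.Idx F) = 0 := by simp [rk]

open LeadWork.RootCent in
/-- The long and the short root elements are not conjugate. -/
theorem long_not_short {h : GL chevF4.Idx F} (hh : h ∈ chevF4.group F) : h * X 47 (1 : F) * h⁻¹ ≠ X 44 1 := by
  intro eh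
  obtain ⟨n, hn, hcell⟩ := cF.exists_bruhat coxF4 hh
  obtain ⟨b, hb, w, hw, rfl⟩ := cF.exists_canonical coxF4 hn hcell
  obtain ⟨a, ha, t, ht, rfl⟩ := cF.mem_borel.mp hb
  have hwU : w ∈ chevF4.posUnipotent F := cF.span_mono (fun r hr => hr.1) hw
  have hw47 : Commute w (X 47 (1 : F)) :=
    commute_of_mem dataF4long cF (Subgroup.mem_sup_left hwU) (List.mem_singleton_self _) 1
  have ha44 : Commute a (X 44 (1 : F)) :=
    commute_of_mem dataF4short cF (Subgroup.mem_sup_left ha) (List.mem_singleton_self _) 1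
  set m := t * n with hm
  have hmN : m ∈ chevF4.monomialSubgroup F := mul_mem (cF.diagonal_le_monomial ht) hn
  obtain ⟨L, -, hconj⟩ := cF.monomial_conj_xu coxF4 hmN
  obtain ⟨κ, -, e47⟩ := hconj 47 (show 47 < 48 by decide)
  have h1 : a * (m * X 47 (1 : F) * m⁻¹) * a⁻¹ = X 44 1 := by
    rw [← eh]
    conv_lhs => rw [show X 47 (1 : F) = w * X 47 1 * w⁻¹ by rw [hw47.eq, mul_inv_cancel_right]]
    rw [hm]
    group
  have e : X (act chevF4 (L.map Fin.val) 47) (κ * 1) = X 44 (1 : F) := by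
    rw [← e47]
    calc m * X 47 (1 : F) * m⁻¹ = a⁻¹ * (a * (m * X 47 (1 : F) * m⁻¹) * a⁻¹) * a := by group
      _ = a⁻¹ * X 44 1 * a := by rw [h1]
      _ = X 44 1 := by rw [mul_assoc, ← ha44.eq, inv_mul_cancel_left]
  have hlt := cF.{u}.act_lt (cF.{u}.fin_word_lt L) (show 47 < 48 by decide)
  have hv := V.val_eq_of_wu_eq (L := [(act chevF4 (L.map Fin.val) 47, κ * 1)]) (L' := [(44, (1 : F))])
    (fun p hp => by rw [List.mem_singleton.mp hp]; exact hlt)
    (fun p hp => by rw [List.mem_singleton.mp hp]; show (44 : ℕ) < 48; decide)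
    (List.pairwise_singleton _ _) (List.pairwise_singleton _ _)
    (by simpa [Cert.wu] using e) (x := 44) (by decide)
  have hne : act chevF4 (L.map Fin.val) 47 ≠ 44 := by
    intro h44
    have h := len_act dataF4long cF.{u} (cF.{u}.fin_word_lt L) (show 47 < 48 by decide)
    rw [h44] at h
    revert h; decide
  simp [V.val, hne] at hv

/-- Conjugacy inside the group. -/
def R (g h : GL chevF4.Idx F) : Prop := ∃ k ∈ chevF4.group F, k * g * k⁻¹ = h

theorem R.trans {a b c : GL chevF4.Idx F} (h1 : R a b) (h2 : R b c) : R a c := by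
  obtain ⟨k, hk, rfl⟩ := h1
  obtain ⟨l, hl, rfl⟩ := h2
  exact ⟨l * k, mul_mem hl hk, by group⟩

theorem hu_mem (r : ℕ) (c : F) : cF.hu r c ∈ chevF4.group F := by
  rw [cF.hu_eq, cF.nu_eq, cF.nu_eq]
  exact mul_mem (mul_mem (mul_mem (cF.xu_mem_group _ _) (cF.xu_mem_group _ _)) (cF.xu_mem_group _ _))
    (mul_mem (mul_mem (cF.xu_mem_group _ _) (cF.xu_mem_group _ _)) (cF.xu_mem_group _ _))

theorem hu_scale {i s : ℕ} (hi : i < 4) (hs : s < 48) {c : F} (hc : c ≠ 0) (t : F) :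
    cF.hu (chevF4.simple i) c * X s t * (cF.hu (chevF4.simple i) c)⁻¹ = X s (c ^ chevF4.cartan i s * t) := by
  rw [cF.hu_conj_xu (cF.{u}.simple_lt i hi) (show s < chevF4.nroots from hs) hc t, mul_inv_cancel_right, pairChar,
    cF.{u}.pairInt_simple (show i < chevF4.rank from hi)]

theorem cartan_vals : chevF4.cartan 0 44 = 1 ∧ chevF4.cartan 0 47 = 0 ∧ chevF4.cartan 3 47 = 1 ∧
    chevF4.cartan 3 44 = 0 ∧ chevF4.cartan 1 39 = -1 ∧ chevF4.cartan 1 45 = 2 ∧ chevF4.cartan 2 39 = 1 ∧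
    chevF4.cartan 2 45 = -1 := by decide +kernel

theorem scale47 {t : F} (ht : t ≠ 0) : R (X 47 t) (X 47 1) :=
  ⟨_, hu_mem _ _, by rw [hu_scale (i := 3) (by decide) (by decide) (inv_ne_zero ht), cartan_vals.2.2.1, zpow_one,
    inv_mul_cancel₀ ht]⟩

theorem scale44 {t : F} (ht : t ≠ 0) : R (X 44 t) (X 44 1) :=
  ⟨_, hu_mem _ _, by rw [hu_scale (i := 0) (by decide) (by decide) (inv_ne_zero ht), cartan_vals.1, zpow_one,
    inv_mul_cancel₀ ht]⟩

theorem commute_pair : ∀ p ∈ [(44, 47), (39, 45)], p.1 < 48 ∧ p.2 < 48 ∧ p.2 ≠ p.1 ∧ p.2 ≠ chevF4.neg p.1 ∧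
    ∀ c ∈ chevF4.commTerms p.1 p.2, c.2.1 % 2 = 0 := by decide +kernel

theorem scaleW {t v : F} (ht : t ≠ 0) (hv : v ≠ 0) : R (X 44 t * X 47 v) (X 47 1 * X 44 1) := by
  obtain ⟨c1, c2, c3, c4, -⟩ := cartan_vals
  refine ⟨cF.hu (chevF4.simple 0) t⁻¹ * cF.hu (chevF4.simple 3) v⁻¹, mul_mem (hu_mem _ _) (hu_mem _ _), ?_⟩
  have e : (X 47 (1 : F) * X 44 1) = X 44 1 * X 47 1 :=
    ((LeadWork.RootCent.V.xu_commute (commute_pair (44, 47) (by simp)) (1 : F) 1).eq).symm
  rw [e, ← MulAut.conj_apply, map_mul (MulAut.conj (cF.hu (chevF4.simple 0) t⁻¹ * cF.hu (chevF4.simple 3) v⁻¹)),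
    map_mul MulAut.conj, MulAut.mul_apply, MulAut.mul_apply]
  simp only [MulAut.conj_apply]
  rw [hu_scale (i := 3) (by decide) (by decide) (inv_ne_zero hv), hu_scale (i := 3) (by decide) (by decide) (inv_ne_zero hv),
    hu_scale (i := 0) (by decide) (by decide) (inv_ne_zero ht), hu_scale (i := 0) (by decide) (by decide) (inv_ne_zero ht),
    c1, c2, c3, c4]
  simp [inv_mul_cancel₀ ht, inv_mul_cancel₀ hv]

theorem scaleV {t v : F} (ht : t ≠ 0) (hv : v ≠ 0) : R (X 39 t * X 45 v) (X 39 1 * X 45 1) := by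
  obtain ⟨-, -, -, -, c1, c2, c3, c4⟩ := cartan_vals
  -- parameters solving a two by two unimodular system
  have hb : (t * v)⁻¹ ≠ 0 := inv_ne_zero (mul_ne_zero ht hv)
  have ha : (t * t * v)⁻¹ ≠ 0 := inv_ne_zero (mul_ne_zero (mul_ne_zero ht ht) hv)
  refine ⟨cF.hu (chevF4.simple 2) (t * t * v)⁻¹ * cF.hu (chevF4.simple 1) (t * v)⁻¹,
    mul_mem (hu_mem _ _) (hu_mem _ _), ?_⟩
  rw [← MulAut.conj_apply, map_mul (MulAut.conj (cF.hu (chevF4.simple 2) (t * t * v)⁻¹ * cF.hu (chevF4.simple 1) (t * v)⁻¹)),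
    map_mul MulAut.conj, MulAut.mul_apply, MulAut.mul_apply]
  simp only [MulAut.conj_apply]
  rw [hu_scale (i := 1) (by decide) (by decide) hb, hu_scale (i := 1) (by decide) (by decide) hb,
    hu_scale (i := 2) (by decide) (by decide) ha, hu_scale (i := 2) (by decide) (by decide) ha, c1, c2, c3, c4]
  congr 2
  · simp only [zpow_one, zpow_neg_one, inv_inv]; field_simp
  · simp only [zpow_neg_one, inv_inv, zpow_two]; field_simp

/-- Every involution is conjugate to a representative. -/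
theorem every [Fintype F] {g : GL chevF4.Idx F} (hg : g ∈ chevF4.group F) (h2 : orderOf g = 2) :
    R g (X 47 1) ∨ R g (X 44 1) ∨ R g (X 47 1 * X 44 1) ∨ R g (X 39 1 * X 45 1) := by
  classical
  have : Fact (Nat.Prime 2) := ⟨Nat.prime_two⟩
  have hU : chevF4.posUnipotent F ≤ chevF4.group F := cF.pos_le_borel.trans cF.borel_le_group
  obtain ⟨P, hP⟩ := IsPGroup.exists_le_sylow (p := 2)
    (LeadWork.ChevField.isPGroup_pos cF 2 |>.of_equiv (Subgroup.subgroupOfEquivOfLe hU).symm)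
  have hcard : Nat.card P = Nat.card ((chevF4.posUnipotent F).subgroupOf (chevF4.group F)) := by
    rw [Nat.card_congr (Subgroup.subgroupOfEquivOfLe hU).toEquiv, cF.natCard_posUnipotent, P.card_eq_multiplicity,
      Cfsg.Agent.Chev.orderF4 rfl]
    obtain ⟨n, -, hn⟩ := FiniteField.card F 2
    have h1 : ∀ j, 0 < j → ¬ 2 ∣ (2 ^ (n : ℕ)) ^ j - 1 := fun j hj h => by
      have : 2 ∣ (2 ^ (n : ℕ)) ^ j := dvd_pow (dvd_pow_self 2 n.pos.ne') (by omega)
      have : 1 ≤ (2 ^ (n : ℕ)) ^ j := Nat.one_le_pow _ _ (pow_pos (by norm_num) _)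
      omega
    have h0 : ∀ j, 0 < j → (2 ^ (n : ℕ)) ^ j - 1 ≠ 0 := fun j hj h => h1 j hj (h ▸ dvd_zero 2)
    rw [show chevF4.nroots / 2 = 24 from rfl, hn]
    have a2 := h0 2 (by norm_num); have a6 := h0 6 (by norm_num); have a8 := h0 8 (by norm_num)
    have a12 := h0 12 (by norm_num)
    rw [Nat.factorization_mul (mul_ne_zero (mul_ne_zero (mul_ne_zero (by positivity) a2) a6) a8) a12,
      Nat.factorization_mul (mul_ne_zero (mul_ne_zero (by positivity) a2) a6) a8,
      Nat.factorization_mul (mul_ne_zero (by positivity) a2) a6,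
      Nat.factorization_mul (by positivity) a2]
    simp only [Finsupp.add_apply, Nat.factorization_eq_zero_of_not_dvd (h1 2 (by norm_num)),
      Nat.factorization_eq_zero_of_not_dvd (h1 6 (by norm_num)),
      Nat.factorization_eq_zero_of_not_dvd (h1 8 (by norm_num)),
      Nat.factorization_eq_zero_of_not_dvd (h1 12 (by norm_num)), add_zero]
    rw [← pow_mul, Nat.prime_two.factorization_pow, Finsupp.single_eq_same]
  have hPU : (P : Subgroup (chevF4.group F)) = (chevF4.posUnipotent F).subgroupOf (chevF4.group F) :=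
    (Subgroup.eq_of_le_of_card_ge hP hcard.le).symm
  set G0 : chevF4.group F := ⟨g, hg⟩
  obtain ⟨Q, hQ⟩ := IsPGroup.exists_le_sylow (p := 2) (show IsPGroup 2 (Subgroup.zpowers G0) from
    IsPGroup.of_card (n := 1) (by rw [Nat.card_zpowers, ← Subgroup.orderOf_coe, pow_one]; exact h2))
  obtain ⟨k, hk⟩ := MulAction.exists_smul_eq (chevF4.group F) Q P
  have hmem : k * G0 * k⁻¹ ∈ (P : Subgroup (chevF4.group F)) := by
    rw [← hk, Sylow.coe_subgroup_smul]
    exact Subgroup.smul_mem_pointwise_smul G0 (MulAut.conj k) _ (hQ (Subgroup.mem_zpowers G0))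
  rw [hPU, Subgroup.mem_subgroupOf] at hmem
  set g' : GL chevF4.Idx F := (k : GL chevF4.Idx F) * g * (k : GL chevF4.Idx F)⁻¹
  have hg2 : g * g = 1 := by rw [← pow_two, ← h2]; exact pow_orderOf_eq_one g
  have h1 : g' * g' = 1 := by
    calc g' * g' = (k : GL chevF4.Idx F) * (g * g) * (k : GL chevF4.Idx F)⁻¹ := by simp only [g']; group
      _ = 1 := by rw [hg2]; group
  have hR : R g g' := ⟨_, k.2, rfl⟩
  rcases classify (by simpa [G0, g'] using hmem) h1 with h | ⟨l, hl, S, hS, f, hf, e⟩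
  · have : g = 1 := by
      calc g = (k : GL chevF4.Idx F)⁻¹ * g' * (k : GL chevF4.Idx F) := by simp only [g']; group
        _ = 1 := by rw [h]; group
    rw [this, orderOf_one] at h2; omega
  · have hR' : R g (cF.wu (S.map fun r => (r, f r))) := hR.trans ⟨l, hl, e⟩
    simp only [List.mem_cons, List.not_mem_nil, or_false] at hS
    rcases hS with rfl | rfl | rfl | rfl <;>
      simp only [Cert.wu, List.map_cons, List.map_nil, List.prod_cons, List.prod_nil, mul_one,
        List.mem_cons, List.not_mem_nil, or_false, forall_eq_or_imp, forall_eq] at hR' hf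
    · exact Or.inl (hR'.trans (scale47 hf))
    · exact Or.inr (Or.inl (hR'.trans (scale44 hf)))
    · exact Or.inr (Or.inr (Or.inl (hR'.trans (scaleW hf.1 hf.2))))
    · exact Or.inr (Or.inr (Or.inr (hR'.trans (scaleV hf.1 hf.2))))

/-- The representatives have order two. -/
theorem rep_order : orderOf (X 47 (1 : F)) = 2 ∧ orderOf (X 44 (1 : F)) = 2 ∧
    orderOf (X 47 (1 : F) * X 44 1) = 2 ∧ orderOf (X 39 (1 : F) * X 45 1) = 2 := by
  have hx : ∀ r < 48, orderOf (X r (1 : F)) = 2 := fun r hr => orderOf_eq_prime (by rw [pow_two]; exact xu_sq r 1)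
    fun h => one_ne_zero (cF.xu_eq_one (show r < chevF4.nroots from hr) h)
  have hw := (LeadWork.RootCent.V.xu_commute (commute_pair (44, 47) (by simp)) (1 : F) 1).symm
  have hv := LeadWork.RootCent.V.xu_commute (commute_pair (39, 45) (by simp)) (1 : F) 1
  refine ⟨hx 47 (by decide), hx 44 (by decide), ?_, ?_⟩
  · refine orderOf_eq_prime ?_ fun h => ?_
    · rw [hw.mul_pow, pow_two, pow_two, xu_sq, xu_sq, one_mul]
    · have := rkW' (F := F); rw [h, rk_one] at this; omega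
  · refine orderOf_eq_prime ?_ fun h => ?_
    · rw [hv.mul_pow, pow_two, pow_two, xu_sq, xu_sq, one_mul]
    · have := rkV (F := F); rw [h, rk_one] at this; omega

/-- Distinct representatives are not conjugate. -/
theorem rep_distinct {y z : GL chevF4.Idx F}
    (hy : y = X 47 1 ∨ y = X 44 1 ∨ y = X 47 1 * X 44 1 ∨ y = X 39 1 * X 45 1)
    (hz : z = X 47 1 ∨ z = X 44 1 ∨ z = X 47 1 * X 44 1 ∨ z = X 39 1 * X 45 1) (h : R y z) : y = z := by
  obtain ⟨k, hk, e⟩ := h
  have hr : rk z = rk y := by rw [← e, rk_conj]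
  have e' : k⁻¹ * z * k⁻¹⁻¹ = y := by rw [← e]; group
  have := rk47 (F := F); have := rk44 (F := F); have := rkW (F := F); have := rkW' (F := F); have := rkV (F := F)
  rcases hy with rfl | rfl | rfl | rfl <;> rcases hz with rfl | rfl | rfl | rfl
  · rfl
  · exact absurd e (long_not_short hk)
  · omega
  · omega
  · exact absurd e' (long_not_short (inv_mem hk))
  · rfl
  · omega
  · omega
  · omega
  · omega
  · rfl
  · omega
  · omega
  · omega
  · omega
  · rfl

end Cfsg.Agent.FGS3.F4Inv
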