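import Cfsg.Agent.OddLocal.FixOrderP

/-!
# Fixing the elements of order `p` and `4`
-/

set_option autoImplicit false

namespace Cfsg.Agent.FGS3

open Cfsg.Agent.OddLocal

variable {G : Type*} [Group G]

/-- A `p'`-element normalizing a `p`-group and fixing all its elements of order `p` (and `4` when
`p = 2`) centralizes it. -/
theorem fixed_of_fixed_order_p_four [Finite G] {p : ℕ} [hpr : Fact p.Prime] (a : G)
    (hcop : (orderOf a).Coprime p) : ∀ (n : ℕ) (P : Subgroup G), Nat.card P ≤ n → IsPGroup p P →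
      (∀ x ∈ P, a * x * a⁻¹ ∈ P) → (∀ x ∈ P, x ^ p = 1 ∨ (p = 2 ∧ x ^ 4 = 1) → a * x * a⁻¹ = x) →
      ∀ x ∈ P, a * x * a⁻¹ = x := by
  intro n
  induction n with
  | zero => intro P h; exact absurd h (by simp [Nat.card_pos.ne'])
  | succ n ih =>
    intro P hn hP hinv hfix x hx
    by_cases hbot : P = ⊥
    · subst hbot; rw [Subgroup.mem_bot] at hx; simp [hx]
    haveI : Nontrivial P := (Subgroup.nontrivial_iff_ne_bot P).mpr hbot
    set F : Subgroup G := (frattini P).map P.subtype with hF
    have hFP : F ≤ P := Subgroup.map_subtype_le _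
    let e : P ≃* P :=
      { toFun := fun y => ⟨a * y * a⁻¹, hinv y y.2⟩
        invFun := fun y => ⟨a⁻¹ * y * a, by
          have h : ∀ k : ℕ, ∀ z ∈ P, a ^ k * z * (a ^ k)⁻¹ ∈ P := by
            intro k
            induction k with
            | zero => simp
            | succ k ihk => intro z hz; have := hinv _ (ihk z hz); simpa [pow_succ', mul_assoc] using this
          have hpos : 0 < orderOf a := orderOf_pos a
          have ha : a⁻¹ = a ^ (orderOf a - 1) := by
            rw [inv_eq_iff_mul_eq_one, ← pow_succ', Nat.sub_add_cancel hpos, pow_orderOf_eq_one]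
          have := h (orderOf a - 1) y y.2
          rwa [← ha, inv_inv] at this⟩
        left_inv := fun y => by ext; simp [mul_assoc]
        right_inv := fun y => by ext; simp [mul_assoc]
        map_mul' := fun y z => by ext; simp [mul_assoc] }
    have hFinv : ∀ y ∈ F, a * y * a⁻¹ ∈ F := by
      rintro _ ⟨y, hy, rfl⟩
      refine ⟨e y, ?_, rfl⟩
      have := Subgroup.characteristic_iff_map_le.mp (frattini_characteristic (G := P)) e
      exact this ⟨y, hy, rfl⟩
    have hproper : ∀ N : Subgroup G, N ≤ P → N ≠ P → (∀ y ∈ N, a * y * a⁻¹ ∈ N) → ∀ y ∈ N, a * y * a⁻¹ = y := by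
      intro N hNP hne hNinv
      refine ih N ?_ (hP.to_le hNP) hNinv (fun y hy => hfix y (hNP hy))
      have : Nat.card N < Nat.card P := by
        refine lt_of_le_of_ne (Subgroup.card_le_of_le hNP) fun h => hne ?_
        exact Subgroup.eq_of_le_of_card_ge hNP h.ge
      omega
    have hFne : F ≠ P := by
      intro h
      have h1 : Nat.card (frattini P) = Nat.card P := by
        rw [← Cfsg.Agent.Core.card_map_subtype (frattini P), ← hF, h]
      exact (frattini_lt_top (P := P)).ne (Subgroup.eq_top_of_card_eq _ h1)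
    have hFfix := hproper F hFP hFne hFinv
    have hpow : ∀ y ∈ P, y ^ p ∈ F := fun y hy =>
      ⟨(⟨y, hy⟩ : P) ^ p, (frattini_facts hP _ 1).1, rfl⟩
    have hcom : ∀ y ∈ P, ∀ z ∈ P, y * z * y⁻¹ * z⁻¹ ∈ F := fun y hy z hz =>
      ⟨⟨y, hy⟩ * ⟨z, hz⟩ * (⟨y, hy⟩ : P)⁻¹ * (⟨z, hz⟩ : P)⁻¹, (frattini_facts hP _ _).2, rfl⟩
    set d := x⁻¹ * (a * x * a⁻¹) with hd
    have hdP : d ∈ P := P.mul_mem (P.inv_mem hx) (hinv x hx)
    have hxF : ∀ f ∈ F, x * f * x⁻¹ ∈ F := fun f hf => by
      have h := hcom x hx f (hFP hf)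
      simpa using F.mul_mem h hf
    have hdF : ∀ f ∈ F, f * d = d * f := by
      intro f hf
      have h1 := hFfix _ (hxF f hf)
      calc f * d = x⁻¹ * (x * f * x⁻¹) * (a * x * a⁻¹) := by rw [hd]; group
        _ = x⁻¹ * (a * (x * f * x⁻¹) * a⁻¹) * (a * x * a⁻¹) := by rw [h1]
        _ = x⁻¹ * (a * x * a⁻¹) * (a * f * a⁻¹) := by group
        _ = d * f := by rw [hFfix f hf]
    suffices hdfix : a * d * a⁻¹ = d by
      have hd1 : d = 1 := eq_one_of_conj_eq_mul (a := a) (n := x) (d := d) (by rw [hd]; group) hdfix (by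
        obtain ⟨k, hk⟩ := hP ⟨d, hdP⟩
        refine Nat.Coprime.coprime_dvd_right (orderOf_dvd_of_pow_eq_one ?_) (hcop.pow_right k)
        exact congrArg Subtype.val hk)
      rw [hd, inv_mul_eq_one] at hd1
      exact hd1.symm
    set D : Subgroup G := P ⊓ Subgroup.centralizer (F : Set G) with hD
    by_cases hDP : D = P
    · have hcen : ∀ y ∈ P, ∀ f ∈ F, f * y = y * f := fun y hy =>
        Subgroup.mem_centralizer_iff.mp (show y ∈ D by rw [hDP]; exact hy).2
      apply hfix d hdP
      set c := d * x * d⁻¹ * x⁻¹ with hc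
      have hcF : c ∈ F := hcom d hdP x hx
      have hdx : d * x = c * x * d := by rw [hc]; group
      have hcp : c ^ p = 1 := by
        have hxp : Commute d (x ^ p) := (hcen d hdP _ (hpow x hx)).symm
        have hcd : Commute c d := (hdF c hcF)
        have hcx : Commute c x := hcen x hx c hcF
        have h2 : ∀ m : ℕ, d * x ^ m = c ^ m * x ^ m * d := by
          intro m
          induction m with
          | zero => simp
          | succ m ihm =>
            calc d * x ^ (m + 1) = (d * x ^ m) * x := by rw [pow_succ]; group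
              _ = c ^ m * x ^ m * (d * x) := by rw [ihm]; group
              _ = c ^ m * (x ^ m * c) * x * d := by rw [hdx]; group
              _ = c ^ (m + 1) * x ^ (m + 1) * d := by rw [((hcx.symm).pow_left m).eq, pow_succ, pow_succ x]; group
        have h3 := h2 p
        rw [hxp.eq, mul_assoc, eq_comm, mul_eq_right] at h3
        exact h3
      have hpm := pow_mul_class_two hdx (hcen x hx c hcF) (hdF c hcF) p
      have hax : x * d = a * x * a⁻¹ := by rw [hd]; group
      rw [hax, conj_pow, hFfix _ (hpow x hx), mul_assoc, left_eq_mul] at hpm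
      rcases eq_or_ne p 2 with rfl | hp
      · refine Or.inr ⟨rfl, ?_⟩
        rw [show Nat.choose 2 2 = 1 from rfl, pow_one] at hpm
        rw [show (4 : ℕ) = 2 * 2 from rfl, pow_mul, eq_inv_of_mul_eq_one_left hpm, inv_pow, hcp, inv_one]
      · have hodd : 2 < p := lt_of_le_of_ne hpr.out.two_le (Ne.symm hp)
        obtain ⟨j, hj⟩ := hpr.out.dvd_choose_self (by norm_num : (2 : ℕ) ≠ 0) hodd
        rw [hj, pow_mul, hcp, one_pow, mul_one] at hpm
        exact Or.inl hpm
    · refine hproper D inf_le_left hDP ?_ d ⟨hdP, Subgroup.mem_centralizer_iff.mpr hdF⟩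
      intro y hy
      refine ⟨hinv y hy.1, ?_⟩
      refine Subgroup.mem_centralizer_iff.mpr ?_
      intro f hf
      calc f * (a * y * a⁻¹) = (a * f * a⁻¹) * (a * y * a⁻¹) := by rw [hFfix f hf]
        _ = a * (f * y) * a⁻¹ := by group
        _ = a * (y * f) * a⁻¹ := by rw [Subgroup.mem_centralizer_iff.mp hy.2 f hf]
        _ = (a * y * a⁻¹) * (a * f * a⁻¹) := by group
        _ = (a * y * a⁻¹) * f := by rw [hFfix f hf]

end Cfsg.Agent.FGS3
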