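import Cfsg.Agent.FGS2.Wielandt
import Cfsg.Agent.FGS3.PGroupFrattini
import Cfsg.Agent.FGS4.SylowNumber
import Cfsg.Agent.Transfer.Fusion
import Cfsg.Agent.Core.Conj
import Cfsg.Agent.Core.Cores
import Mathlib.RingTheory.ZMod.UnitsCyclic

/-!
# Counting subgroups of prime power order modulo `p²` (P. Hall, Kulakoff)
-/

set_option autoImplicit false

namespace Cfsg.Agent.FGS3.Kulakoff

open Subgroup
open scoped commutatorElement

/-- The number of subgroups of order `n`. -/
noncomputable def numSub (G : Type*) [Group G] (n : ℕ) : ℕ :=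
  Nat.card {H : Subgroup G // Nat.card H = n}

variable {G : Type*} [Group G]

theorem numSub_subgroup (M : Subgroup G) (n : ℕ) :
    numSub M n = Nat.card {H : Subgroup G // Nat.card H = n ∧ H ≤ M} := by
  refine Nat.card_congr
    { toFun := fun H => ⟨H.1.map M.subtype,
        by rw [Subgroup.card_map_of_injective M.subtype_injective]; exact H.2,
        Subgroup.map_subtype_le _⟩
      invFun := fun H => ⟨H.1.subgroupOf M, by
        rw [Nat.card_congr (Subgroup.subgroupOfEquivOfLe H.2.2).toEquiv]; exact H.2.1⟩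
      left_inv := fun H => Subtype.ext (Subgroup.comap_map_eq_self_of_injective M.subtype_injective H.1)
      right_inv := fun H => Subtype.ext (Subgroup.map_subgroupOf_eq_of_le H.2.2) }

variable [Finite G] {p : ℕ} [hp : Fact p.Prime]

theorem card_quotient_eq {L : Subgroup G} {m l : ℕ} (hG : Nat.card G = p ^ m)
    (hL : Nat.card L = p ^ l) : l ≤ m ∧ Nat.card (G ⧸ L) = p ^ (m - l) := by
  have h1 := L.card_mul_index
  have hle : l ≤ m := (Nat.pow_dvd_pow_iff_le_right hp.out.one_lt).mp
    (hL ▸ hG ▸ Subgroup.card_subgroup_dvd_card L)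
  rw [hL, hG, Subgroup.index_eq_card, show p ^ m = p ^ l * p ^ (m - l) by
    rw [← pow_add]; congr 1; omega] at h1
  exact ⟨hle, Nat.eq_of_mul_eq_mul_left (pow_pos hp.out.pos l) h1⟩

theorem card_supgroups (L : Subgroup G) [L.Normal] {m l : ℕ}
    (hL : Nat.card L = p ^ l) (hlm : l ≤ m) :
    Nat.card {X : Subgroup G // Nat.card X = p ^ m ∧ L ≤ X} = numSub (G ⧸ L) (p ^ (m - l)) := by
  have hpow : p ^ m = p ^ (m - l) * p ^ l := by rw [← pow_add]; congr 1; omega
  have hcard : ∀ Y : Subgroup (G ⧸ L),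
      Nat.card (Y.comap (QuotientGroup.mk' L)) = Nat.card Y * p ^ l := fun Y => by
    rw [← hL]; exact Cfsg.Agent.Core.card_comap_mk L Y
  have hA : ∀ Y : {Y : Subgroup (G ⧸ L) // Nat.card Y = p ^ (m - l)},
      Nat.card (Y.1.comap (QuotientGroup.mk' L)) = p ^ m ∧ L ≤ Y.1.comap (QuotientGroup.mk' L) := by
    intro Y
    refine ⟨by rw [hcard, Y.2, hpow], fun x hx => ?_⟩
    rw [Subgroup.mem_comap, show QuotientGroup.mk' L x = 1 from (QuotientGroup.eq_one_iff x).mpr hx]
    exact one_mem _
  have hB : ∀ X : {X : Subgroup G // Nat.card X = p ^ m ∧ L ≤ X},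
      Nat.card (X.1.map (QuotientGroup.mk' L)) = p ^ (m - l) := by
    intro X
    have h := hcard (X.1.map (QuotientGroup.mk' L))
    rw [Subgroup.comap_map_eq, QuotientGroup.ker_mk', sup_eq_left.mpr X.2.2, X.2.1] at h
    replace h := hpow.symm.trans h
    exact (Nat.eq_of_mul_eq_mul_right (pow_pos hp.out.pos l) h).symm
  exact (Nat.card_congr
    { toFun := fun Y => ⟨Y.1.comap (QuotientGroup.mk' L), hA Y⟩
      invFun := fun X => ⟨X.1.map (QuotientGroup.mk' L), hB X⟩
      left_inv := fun Y => Subtype.ext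
        (Subgroup.map_comap_eq_self_of_surjective (QuotientGroup.mk'_surjective L) Y.1)
      right_inv := fun X => Subtype.ext (by
        show Subgroup.comap (QuotientGroup.mk' L) (Subgroup.map (QuotientGroup.mk' L) X.1) = X.1
        rw [Subgroup.comap_map_eq, QuotientGroup.ker_mk', sup_eq_left]
        exact X.2.2) }).symm

omit [Finite G] in
theorem isCoatom_of_card [Finite G] {M : Subgroup G} {m : ℕ} (hG : Nat.card G = p ^ (m + 1))
    (hM : Nat.card M = p ^ m) : IsCoatom M := by
  refine ⟨fun h => ?_, fun N hN => ?_⟩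
  · rw [h, Subgroup.card_top, hG] at hM
    exact absurd (Nat.pow_right_injective hp.out.two_le hM) (by omega)
  · by_contra hNt
    obtain ⟨a, -, ha⟩ := (Nat.dvd_prime_pow hp.out).mp (hG ▸ Subgroup.card_subgroup_dvd_card N)
    have h1 : Nat.card M < Nat.card N := by
      by_contra hc
      exact hN.ne (Subgroup.eq_of_le_of_card_ge hN.le (not_lt.mp hc))
    have h2 : Nat.card N < Nat.card G := by
      by_contra hc
      exact hNt (Subgroup.eq_top_of_card_eq _ (le_antisymm (Subgroup.card_le_card_group N) (not_lt.mp hc)))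
    rw [hM, ha] at h1
    rw [ha, hG] at h2
    have := (Nat.pow_lt_pow_iff_right hp.out.one_lt).mp h1
    have := (Nat.pow_lt_pow_iff_right hp.out.one_lt).mp h2
    omega

theorem frattini_le_of_card {M : Subgroup G} {m : ℕ} (hG : Nat.card G = p ^ (m + 1))
    (hM : Nat.card M = p ^ m) : frattini G ≤ M :=
  frattini_le_coatom (isCoatom_of_card hG hM)

theorem normal_of_frattini_le (hG : IsPGroup p G) {L : Subgroup G} (h : frattini G ≤ L) :
    L.Normal := by
  refine ⟨fun a ha b => ?_⟩
  have h1 := L.mul_mem (h (commutator_le_frattini hG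
    (Subgroup.commutator_mem_commutator (Subgroup.mem_top b) (Subgroup.mem_top a)))) ha
  rwa [commutatorElement_def, inv_mul_cancel_right] at h1

theorem elementary_quotient (hG : IsPGroup p G) (L : Subgroup G) [L.Normal] (h : frattini G ≤ L) :
    (∀ a b : G ⧸ L, a * b = b * a) ∧ ∀ a : G ⧸ L, a ^ p = 1 := by
  refine ⟨fun a b => ?_, fun a => ?_⟩
  · induction a using QuotientGroup.induction_on with | _ a => ?_
    induction b using QuotientGroup.induction_on with | _ b => ?_
    rw [← QuotientGroup.mk_mul, ← QuotientGroup.mk_mul, QuotientGroup.eq]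
    have hab : ⁅b⁻¹, a⁻¹⁆ ∈ L :=
      h (commutator_le_frattini hG (commutator_mem_commutator (mem_top _) (mem_top _)))
    simpa [commutatorElement_def, mul_assoc] using hab
  · induction a using QuotientGroup.induction_on with | _ a => ?_
    rw [← QuotientGroup.mk_pow, QuotientGroup.eq_one_iff]
    exact h (pow_mem_frattini hG a)

theorem add_coprime_sq : (1 + p).Coprime (p ^ 2) := by
  refine Nat.Coprime.pow_right 2 ?_
  rw [Nat.coprime_add_self_left]
  exact Nat.coprime_one_left p

theorem modEq_sq_of_mul {a b : ℕ} (h : a * (1 + p) ≡ b * (1 + p) [MOD p ^ 2]) : a ≡ b [MOD p ^ 2] :=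
  Nat.ModEq.cancel_right_of_coprime add_coprime_sq.symm h

/-- Lines of an elementary abelian group. -/
theorem numSub_prime_of_exponent {j : ℕ} (hG : Nat.card G = p ^ j) (hj : 2 ≤ j)
    (he : ∀ a : G, a ^ p = 1) : numSub G p ≡ 1 + p [MOD p ^ 2] := by
  classical
  have h1 : Nat.card {x : G // x ≠ 1} = numSub G p * (p - 1) := by
    refine Cfsg.Agent.FGS4.card_eq_card_mul_of_fiber
      (fun x : {x : G // x ≠ 1} => (⟨Subgroup.zpowers x.1, by
        rw [Nat.card_zpowers, orderOf_eq_prime (he x.1) x.2]⟩ : {H : Subgroup G // Nat.card H = p})) _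
      fun H => ?_
    obtain ⟨H, hH⟩ := H
    refine (Nat.card_congr
      (β := {x : H // x ≠ 1})
      { toFun := fun x => ⟨⟨x.1.1, by
            have e : Subgroup.zpowers x.1.1 = H := congrArg Subtype.val x.2
            exact e.le (Subgroup.mem_zpowers _)⟩,
          fun e => x.1.2 (congrArg Subtype.val e)⟩
        invFun := fun x => ⟨⟨x.1, fun e => x.2 (Subtype.ext e)⟩, Subtype.ext (by
          refine Subgroup.eq_of_le_of_card_ge (Subgroup.zpowers_le.mpr x.1.2) ?_
          rw [hH, Nat.card_zpowers, orderOf_eq_prime (he x.1) fun e => x.2 (Subtype.ext e)])⟩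
        left_inv := fun x => rfl
        right_inv := fun x => rfl }).trans ?_
    have : Fintype H := Fintype.ofFinite _
    rw [Nat.card_eq_fintype_card, Fintype.card_subtype_compl, Fintype.card_subtype_eq,
      ← Nat.card_eq_fintype_card, hH]
  have h2 : Nat.card {x : G // x ≠ 1} = p ^ j - 1 := by
    have : Fintype G := Fintype.ofFinite _
    rw [Nat.card_eq_fintype_card, Fintype.card_subtype_compl, Fintype.card_subtype_eq,
      ← Nat.card_eq_fintype_card, hG]
  rw [h2] at h1
  have h3 : p ^ j ≡ 0 [MOD p ^ 2] := Nat.modEq_zero_iff_dvd.mpr (pow_dvd_pow p hj)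
  have hp2 := hp.out.two_le
  have hcop : (p - 1).Coprime (p ^ 2) := by
    refine Nat.Coprime.pow_right 2 ?_
    rw [Nat.coprime_comm, hp.out.coprime_iff_not_dvd]
    intro hd
    have := Nat.le_of_dvd (by omega) hd
    omega
  refine Nat.ModEq.cancel_right_of_coprime hcop.symm ?_
  rw [← h1]
  have h4 : (1 + p) * (p - 1) + 1 = p ^ 2 := by
    obtain ⟨q, rfl⟩ : ∃ q, p = q + 1 := ⟨p - 1, by omega⟩
    simp only [Nat.add_sub_cancel]
    ring
  refine Nat.ModEq.add_right_cancel' 1 ?_
  rw [Nat.sub_add_cancel (pow_pos hp.out.pos j), h4]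
  exact h3.trans (Nat.modEq_zero_iff_dvd.mpr dvd_rfl).symm

theorem card_pairs {α : Type*} [Fintype α] (A B : α → Prop) [DecidablePred A] [DecidablePred B]
    (R : α → α → Prop) [DecidableRel R] :
    ∑ a ∈ Finset.univ.filter A, Nat.card {b // B b ∧ R a b} =
      ∑ b ∈ Finset.univ.filter B, Nat.card {a // A a ∧ R a b} := by
  have e1 : ∀ (S : α → Prop) [DecidablePred S] (r : α → Prop) [DecidablePred r],
      Nat.card {b // S b ∧ r b} = ∑ b ∈ Finset.univ.filter S, if r b then 1 else 0 := by
    intro S _ r _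
    rw [Nat.card_eq_fintype_card, Fintype.card_subtype, ← Finset.card_filter, Finset.filter_filter]
  rw [Finset.sum_congr rfl fun a _ => e1 B (R a), Finset.sum_comm]
  exact Finset.sum_congr rfl fun b _ => (e1 A fun a => R a b).symm

theorem natCard_filter {α : Type*} [Fintype α] (A : α → Prop) [DecidablePred A] :
    (Finset.univ.filter A).card = Nat.card {a // A a} := by
  rw [Nat.card_eq_fintype_card, Fintype.card_subtype]

theorem sum_modEq_card_mul {α : Type*} (s : Finset α) (f : α → ℕ) (c d : ℕ)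
    (h : ∀ a ∈ s, f a ≡ c [MOD d]) : ∑ a ∈ s, f a ≡ s.card * c [MOD d] := by
  calc ∑ a ∈ s, f a ≡ ∑ _a ∈ s, c [MOD d] := Nat.ModEq.sum h
    _ = s.card * c := by rw [Finset.sum_const, smul_eq_mul]

/-- Hyperplanes of an elementary abelian group. -/
theorem numSub_hyperplanes : ∀ (j : ℕ) {G : Type*} [Group G] [Finite G],
    Nat.card G = p ^ (j + 2) → (∀ a b : G, a * b = b * a) → (∀ a : G, a ^ p = 1) →
    numSub G (p ^ (j + 1)) ≡ 1 + p [MOD p ^ 2] := by
  intro j
  induction j with
  | zero =>
    intro G _ _ hG _ he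
    rw [zero_add, pow_one]
    exact numSub_prime_of_exponent hG le_rfl he
  | succ j ih =>
    intro G _ _ hG hc he
    classical
    have : Fintype (Subgroup G) := Fintype.ofFinite _
    set A : Subgroup G → Prop := fun M => Nat.card M = p ^ (j + 1 + 1)
    set B : Subgroup G → Prop := fun L => Nat.card L = p
    have hA : ∀ M ∈ Finset.univ.filter A, Nat.card {L // B L ∧ L ≤ M} ≡ 1 + p [MOD p ^ 2] := by
      intro M hM
      rw [Finset.mem_filter] at hM
      rw [← numSub_subgroup M p]
      exact numSub_prime_of_exponent hM.2 (by omega) fun a => Subtype.ext (he a)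
    have hB : ∀ L ∈ Finset.univ.filter B, Nat.card {M // A M ∧ L ≤ M} ≡ 1 + p [MOD p ^ 2] := by
      intro L hL
      rw [Finset.mem_filter] at hL
      have hLn : L.Normal := ⟨fun a ha b => by rwa [hc b a, mul_inv_cancel_right]⟩
      have hL1 : Nat.card L = p ^ 1 := by rw [pow_one]; exact hL.2
      rw [card_supgroups L hL1 (by omega : 1 ≤ j + 1 + 1), show j + 1 + 1 - 1 = j + 1 by omega]
      refine ih ?_ (fun a b => ?_) (fun a => ?_)
      · rw [(card_quotient_eq hG hL1).2]; congr 1
      · induction a using QuotientGroup.induction_on with | _ a => ?_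
        induction b using QuotientGroup.induction_on with | _ b => ?_
        rw [← QuotientGroup.mk_mul, hc, QuotientGroup.mk_mul]
      · induction a using QuotientGroup.induction_on with | _ a => ?_
        rw [← QuotientGroup.mk_pow, he, QuotientGroup.mk_one]
    have hsum := card_pairs A B (fun M L => L ≤ M)
    have h1 := sum_modEq_card_mul _ _ _ _ hA
    have h2 := sum_modEq_card_mul _ _ _ _ hB
    rw [hsum, natCard_filter] at h1
    rw [natCard_filter] at h2
    exact (modEq_sq_of_mul (h1.symm.trans h2)).trans (numSub_prime_of_exponent hG (by omega) he)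

omit hp in
theorem isCyclic_of_frattini_coatom [Fact p.Prime] {m : ℕ} (hG : Nat.card G = p ^ m)
    (hnc : ¬ IsCyclic G) {l : ℕ} (hl : Nat.card (frattini G) = p ^ l) : l + 2 ≤ m := by
  have hpr := (Fact.out : p.Prime)
  obtain ⟨hle, hq⟩ := card_quotient_eq hG hl
  by_contra hlt
  apply hnc
  rcases (show m - l = 0 ∨ m - l = 1 by omega) with h0 | h1
  · have htop : frattini G = ⊤ := Subgroup.eq_top_of_card_eq _ (by rw [hl, hG]; congr 1; omega)
    have hbt : (⊥ : Subgroup G) = ⊤ := frattini_nongenerating (by rw [bot_sup_eq]; exact htop)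
    refine ⟨⟨1, fun x => ?_⟩⟩
    have hx : x ∈ (⊥ : Subgroup G) := hbt ▸ Subgroup.mem_top x
    rw [Subgroup.mem_bot] at hx
    subst hx
    exact ⟨0, zpow_zero _⟩
  · rw [h1, pow_one] at hq
    have hcyc : IsCyclic (G ⧸ frattini G) := isCyclic_of_prime_card hq
    obtain ⟨g, hg⟩ := hcyc.exists_generator
    obtain ⟨x, rfl⟩ := QuotientGroup.mk_surjective g
    have htop : Subgroup.zpowers x ⊔ frattini G = ⊤ := by
      rw [eq_top_iff]
      intro y _
      obtain ⟨i, hi⟩ := Subgroup.mem_zpowers_iff.mp (hg (y : G ⧸ frattini G))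
      rw [← QuotientGroup.mk_zpow, QuotientGroup.eq] at hi
      rw [show y = x ^ i * ((x ^ i)⁻¹ * y) by group]
      exact Subgroup.mul_mem_sup (zpow_mem (Subgroup.mem_zpowers x) i) hi
    exact ⟨⟨x, fun y => (frattini_nongenerating htop).ge (Subgroup.mem_top y)⟩⟩

/-- A noncyclic p-group has `≡ 1 + p` maximal subgroups. -/
theorem numSub_maximal {m : ℕ} (hG : Nat.card G = p ^ (m + 1)) (hnc : ¬ IsCyclic G) :
    numSub G (p ^ m) ≡ 1 + p [MOD p ^ 2] := by
  have hpg : IsPGroup p G := IsPGroup.of_card hG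
  obtain ⟨l, hl⟩ := IsPGroup.iff_card.mp (hpg.to_subgroup (frattini G))
  have h2 := isCyclic_of_frattini_coatom hG hnc hl
  have he : numSub G (p ^ m) = numSub (G ⧸ frattini G) (p ^ (m - l)) := by
    rw [← card_supgroups (frattini G) hl (by omega : l ≤ m)]
    exact Nat.card_congr (Equiv.subtypeEquivRight fun X =>
      ⟨fun h => ⟨h, frattini_le_of_card hG h⟩, fun h => h.1⟩)
  rw [he, show m - l = m - l - 1 + 1 by omega]
  refine numSub_hyperplanes _ ?_ (elementary_quotient hpg _ le_rfl).1 (elementary_quotient hpg _ le_rfl).2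
  rw [(card_quotient_eq hG hl).2]
  congr 1
  omega

/-- **Hall's enumeration**: the maximal subgroups count the subgroups of order `p ^ k`. -/
theorem sum_maximal_modEq {m k : ℕ} (hG : Nat.card G = p ^ (m + 2)) (hnc : ¬ IsCyclic G) (hk : k ≤ m)
    [Fintype (Subgroup G)] [DecidablePred fun M : Subgroup G => Nat.card M = p ^ (m + 1)] :
    ∑ M ∈ Finset.univ.filter (fun M : Subgroup G => Nat.card M = p ^ (m + 1)), numSub M (p ^ k)
      ≡ numSub G (p ^ k) + p [MOD p ^ 2] := by
  classical
  have hpg : IsPGroup p G := IsPGroup.of_card hG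
  obtain ⟨lΦ, hlΦ⟩ := IsPGroup.iff_card.mp (hpg.to_subgroup (frattini G))
  have hΦ := isCyclic_of_frattini_coatom hG hnc hlΦ
  set H0 : Subgroup G → Prop := fun H => Nat.card H = p ^ k
  set small : Subgroup G → Prop := fun H => Nat.card (H ⊔ frattini G : Subgroup G) ≤ p ^ m
  -- sizes of `H Φ`
  have hsize : ∀ H, H0 H → ∃ l, Nat.card (H ⊔ frattini G : Subgroup G) = p ^ l ∧ l ≤ m + 1 := by
    intro H hH
    obtain ⟨l, hl, hle⟩ : ∃ l, Nat.card (H ⊔ frattini G : Subgroup G) = p ^ l ∧ l ≤ m + 2 := by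
      obtain ⟨l, hle, hl⟩ := (Nat.dvd_prime_pow hp.out).mp
        (hG ▸ Subgroup.card_subgroup_dvd_card (H ⊔ frattini G : Subgroup G))
      exact ⟨l, hl, hle⟩
    refine ⟨l, hl, ?_⟩
    by_contra hlt
    have htop : H ⊔ frattini G = ⊤ := Subgroup.eq_top_of_card_eq _ (by rw [hl, hG]; congr 1; omega)
    have hH0 : Nat.card H = p ^ k := hH
    rw [frattini_nongenerating htop, Subgroup.card_top, hG] at hH0
    have := Nat.pow_right_injective hp.out.two_le hH0
    omega
  have hmu : ∀ H, H0 H → Nat.card {M : Subgroup G // Nat.card M = p ^ (m + 1) ∧ H ≤ M} ≡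
      (if small H then 1 + p else 1) [MOD p ^ 2] := by
    intro H hH
    obtain ⟨l, hl, hle⟩ := hsize H hH
    have := normal_of_frattini_le hpg (le_sup_right : frattini G ≤ H ⊔ frattini G)
    have e : Nat.card {M : Subgroup G // Nat.card M = p ^ (m + 1) ∧ H ≤ M}
        = numSub (G ⧸ (H ⊔ frattini G)) (p ^ (m + 1 - l)) := by
      rw [← card_supgroups _ hl hle]
      exact Nat.card_congr (Equiv.subtypeEquivRight fun M =>
        ⟨fun h => ⟨h.1, sup_le h.2 (frattini_le_of_card hG h.1)⟩, fun h => ⟨h.1, le_sup_left.trans h.2⟩⟩)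
    rw [e]
    have hel := elementary_quotient hpg (H ⊔ frattini G) le_sup_right
    have hq := (card_quotient_eq hG hl).2
    by_cases hs : small H
    · rw [if_pos hs]
      have hlm : l ≤ m := by
        simp only [small, hl] at hs
        exact (Nat.pow_le_pow_iff_right hp.out.one_lt).mp hs
      rw [show m + 1 - l = m - l + 1 by omega]
      exact numSub_hyperplanes _ (by rw [hq]; congr 1; omega) hel.1 hel.2
    · rw [if_neg hs]
      have hlm : l = m + 1 := by
        simp only [small, hl] at hs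
        have : ¬ l ≤ m := fun h => hs (Nat.pow_le_pow_right hp.out.pos h)
        omega
      rw [hlm, Nat.sub_self, pow_zero]
      rw [show numSub (G ⧸ (H ⊔ frattini G)) 1 = 1 from Nat.card_eq_one_iff_unique.mpr
        ⟨⟨fun a b => Subtype.ext ((Subgroup.card_eq_one.mp a.2).trans (Subgroup.card_eq_one.mp b.2).symm)⟩,
          ⟨⟨⊥, Subgroup.card_bot⟩⟩⟩]
  -- the subgroups with small `H Φ` are `≡ 1 mod p`
  have hsmall : Nat.card {H // H0 H ∧ small H} ≡ 1 [MOD p] := by
    set T : Subgroup G → Prop := fun N => Nat.card N = p ^ m ∧ frattini G ≤ N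
    have hT : ∀ N ∈ Finset.univ.filter T, Nat.card {H // H0 H ∧ H ≤ N} ≡ 1 [MOD p] := by
      intro N hN
      rw [Finset.mem_filter] at hN
      rw [← numSub_subgroup N (p ^ k)]
      exact Cfsg.Agent.FGS2.card_subgroups_prime_pow p k hp.out (hN.2.1 ▸ pow_dvd_pow p hk)
    have hnu : ∀ H ∈ Finset.univ.filter H0, Nat.card {N // T N ∧ H ≤ N} ≡
        (if small H then 1 else 0) [MOD p] := by
      intro H hH
      rw [Finset.mem_filter] at hH
      obtain ⟨l, hl, hle⟩ := hsize H hH.2
      have := normal_of_frattini_le hpg (le_sup_right : frattini G ≤ H ⊔ frattini G)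
      by_cases hs : small H
      · rw [if_pos hs]
        have hlm : l ≤ m := by
          simp only [small, hl] at hs
          exact (Nat.pow_le_pow_iff_right hp.out.one_lt).mp hs
        have e : Nat.card {N // T N ∧ H ≤ N} = numSub (G ⧸ (H ⊔ frattini G)) (p ^ (m - l)) := by
          rw [← card_supgroups _ hl hlm]
          exact Nat.card_congr (Equiv.subtypeEquivRight fun N =>
            ⟨fun h => ⟨h.1.1, sup_le h.2 h.1.2⟩,
              fun h => ⟨⟨h.1, le_sup_right.trans h.2⟩, le_sup_left.trans h.2⟩⟩)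
        rw [e]
        exact Cfsg.Agent.FGS2.card_subgroups_prime_pow p _ hp.out
          ((card_quotient_eq hG hl).2 ▸ pow_dvd_pow p (by omega))
      · rw [if_neg hs]
        have : IsEmpty {N // T N ∧ H ≤ N} := ⟨fun N => hs (by
          calc Nat.card (H ⊔ frattini G : Subgroup G) ≤ Nat.card N.1 :=
                Subgroup.card_le_of_le (sup_le N.2.2 N.2.1.2)
            _ = p ^ m := N.2.1.1)⟩
        rw [Nat.card_of_isEmpty]
    have hsum := card_pairs T H0 (fun N H => H ≤ N)
    have h1 := sum_modEq_card_mul _ _ _ _ hT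
    rw [hsum, natCard_filter, mul_one] at h1
    have hTcard : Nat.card {N // T N} ≡ 1 [MOD p] := by
      rw [card_supgroups (frattini G) hlΦ (by omega : lΦ ≤ m)]
      exact Cfsg.Agent.FGS2.card_subgroups_prime_pow p _ hp.out
        ((card_quotient_eq hG hlΦ).2 ▸ pow_dvd_pow p (by omega))
    have h2 := (Nat.ModEq.sum hnu).symm.trans (h1.trans hTcard)
    rwa [← Finset.card_filter, Finset.filter_filter, natCard_filter] at h2
  have hsum := card_pairs (fun M : Subgroup G => Nat.card M = p ^ (m + 1)) H0 (fun M H => H ≤ M)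
  have e2 : ∑ M ∈ Finset.univ.filter (fun M : Subgroup G => Nat.card M = p ^ (m + 1)), numSub M (p ^ k)
      = ∑ H ∈ Finset.univ.filter H0, Nat.card {M : Subgroup G // Nat.card M = p ^ (m + 1) ∧ H ≤ M} := by
    rw [← hsum]
    exact Finset.sum_congr rfl fun M _ => numSub_subgroup M _
  rw [e2]
  refine (Nat.ModEq.sum fun H hH => hmu H (Finset.mem_filter.mp hH).2).trans ?_
  have e3 : (∑ H ∈ Finset.univ.filter H0, if small H then 1 + p else 1)
      = numSub G (p ^ k) + p * Nat.card {H // H0 H ∧ small H} := by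
    have : ∀ H, (if small H then 1 + p else 1) = 1 + p * (if small H then 1 else 0) := by
      intro H; split_ifs <;> ring
    rw [Finset.sum_congr rfl fun H _ => this H, Finset.sum_add_distrib, ← Finset.card_eq_sum_ones,
      ← Finset.mul_sum, ← Finset.card_filter, Finset.filter_filter, natCard_filter, natCard_filter]
    rfl
  rw [e3]
  refine Nat.ModEq.add_left _ ?_
  have := Nat.ModEq.mul_left' p hsmall
  rwa [mul_one, ← pow_two] at this

/-- For odd `p` the cyclic maximal subgroups of a noncyclic p-group are all but one. -/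
theorem card_noncyclic_maximal {n : ℕ} (hp2 : p ≠ 2) (hG : Nat.card G = p ^ (n + 3))
    (hnc : ¬ IsCyclic G) {x : G} (hx : orderOf x = p ^ (n + 2)) :
    Nat.card {M : Subgroup G // Nat.card M = p ^ (n + 2) ∧ ¬ IsCyclic M} = 1 := by
  classical
  have hpg : IsPGroup p G := IsPGroup.of_card hG
  have hX : Nat.card (Subgroup.zpowers x) = p ^ (n + 2) := by rw [Nat.card_zpowers, hx]
  have hco := isCoatom_of_card hG hX
  have hXn : (Subgroup.zpowers x).Normal := normal_of_coatom hpg hco
  have hpowX : ∀ g : G, g ^ p ∈ Subgroup.zpowers x := fun g =>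
    frattini_le_coatom hco (pow_mem_frattini hpg g)
  -- `x ^ p` is central
  have hxp : x ^ p ∈ Subgroup.center G := by
    rw [Subgroup.mem_center_iff]
    intro y
    obtain ⟨r, hr⟩ := (isOfFinOrder_of_finite x).mem_powers_iff_mem_zpowers.mpr
      (hXn.conj_mem x (Subgroup.mem_zpowers x) y)
    simp only at hr
    have hr1 : 1 ≤ r := by
      by_contra h
      rw [show r = 0 by omega, pow_zero] at hr
      have : x = 1 := conj_eq_one_iff.mp hr.symm
      rw [this, orderOf_one] at hx
      exact absurd hx.symm (Nat.one_lt_pow (by omega) hp.out.one_lt).ne'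
    have hit : ∀ i : ℕ, y ^ i * x * (y ^ i)⁻¹ = x ^ r ^ i := by
      intro i
      induction i with
      | zero => simp
      | succ i ih =>
        calc y ^ (i + 1) * x * (y ^ (i + 1))⁻¹ = y * (y ^ i * x * (y ^ i)⁻¹) * y⁻¹ := by
              rw [pow_succ']; group
          _ = (y * x * y⁻¹) ^ r ^ i := by rw [ih, conj_pow]
          _ = x ^ r ^ (i + 1) := by rw [← hr, ← pow_mul, ← pow_succ']
    have hrp : x ^ r ^ p = x ^ 1 := by
      rw [← hit p, pow_one]
      obtain ⟨i, hi⟩ := Subgroup.mem_zpowers_iff.mp (hpowX y)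
      rw [← hi, ((Commute.refl x).zpow_left i).eq, mul_inv_cancel_right]
    rw [pow_eq_pow_iff_modEq, hx] at hrp
    have hkey : p ^ (n + 1) ∣ r - 1 := by
      by_contra hnd
      have hr0 : r - 1 ≠ 0 := fun h => hnd (by rw [h]; exact dvd_zero _)
      obtain ⟨i, a, ha, hia⟩ := Nat.exists_eq_pow_mul_and_not_dvd hr0 p hp.out.one_lt.ne'
      have hi : i ≤ n := by
        by_contra hc
        exact hnd (hia ▸ (pow_dvd_pow p (by omega : n + 1 ≤ i)).mul_right a)
      have hi0 : i ≠ 0 := by
        intro hi0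
        have hrmod : (r : ZMod p) = 1 := by
          have h1 : r ^ p ≡ 1 [MOD p] := Nat.ModEq.of_dvd (dvd_pow_self p (by omega)) hrp
          have h2 : ((r ^ p : ℕ) : ZMod p) = ((1 : ℕ) : ZMod p) := (ZMod.natCast_eq_natCast_iff _ _ _).mpr h1
          rwa [Nat.cast_pow, ZMod.pow_card, Nat.cast_one] at h2
        have h3 : ((r - 1 : ℕ) : ZMod p) = 0 := by rw [Nat.cast_sub hr1, hrmod, Nat.cast_one, sub_self]
        rw [ZMod.natCast_eq_zero_iff] at h3
        rw [hia, hi0, pow_zero, one_mul] at h3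
        exact ha h3
      have hpm : i + 2 ≤ p * i := by
        have h3 : 3 ≤ p := by
          have := hp.out.two_le
          omega
        have : 3 * i ≤ p * i := Nat.mul_le_mul_right i h3
        omega
      have ho := ZMod.orderOf_one_add_mul_prime_pow hp.out i hi0 hpm (a : ℤ) (by exact_mod_cast ha) (n + 2 - i)
      have hcast : (1 + (p : ZMod (p ^ (n + 2 - i + i))) ^ i * ((a : ℤ) : ZMod (p ^ (n + 2 - i + i))))
          = (r : ZMod (p ^ (n + 2 - i + i))) := by
        have : r = 1 + p ^ i * a := by omega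
        rw [this]
        push_cast
        ring
      rw [hcast] at ho
      have hone : (r : ZMod (p ^ (n + 2 - i + i))) ^ p = 1 := by
        have h2 : ((r ^ p : ℕ) : ZMod (p ^ (n + 2 - i + i))) = ((1 : ℕ) : ZMod (p ^ (n + 2 - i + i))) := by
          rw [ZMod.natCast_eq_natCast_iff, show n + 2 - i + i = n + 2 by omega]
          exact hrp
        rwa [Nat.cast_pow, Nat.cast_one] at h2
      have := orderOf_dvd_of_pow_eq_one hone
      rw [ho] at this
      have h4 := Nat.le_of_dvd hp.out.pos this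
      have h5 : p ^ 2 ≤ p ^ (n + 2 - i) := Nat.pow_le_pow_right hp.out.pos (by omega)
      nlinarith [hp.out.two_le]
    have h1 : x ^ (p * r) = x ^ p := by
      rw [show p * r = p * (r - 1) + p by rw [← Nat.mul_succ]; congr 1; omega, pow_add]
      have : orderOf x ∣ p * (r - 1) := by
        rw [hx, show n + 2 = n + 1 + 1 from rfl, pow_succ']
        exact Nat.mul_dvd_mul_left p hkey
      rw [orderOf_dvd_iff_pow_eq_one.mp this, one_mul]
    have h2 : y * x ^ p * y⁻¹ = x ^ p := by
      rw [← conj_pow, ← hr, ← pow_mul, mul_comm, h1]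
    calc y * x ^ p = y * x ^ p * y⁻¹ * y := by group
      _ = x ^ p * y := by rw [h2]
  set Z := Subgroup.zpowers (x ^ p) with hZdef
  have hZc : Z ≤ Subgroup.center G := Subgroup.zpowers_le.mpr hxp
  have hZn : Z.Normal := ⟨fun a ha g => by
    rwa [Subgroup.mem_center_iff.mp (hZc ha) g, mul_inv_cancel_right]⟩
  have hxpo : orderOf (x ^ p) = p ^ (n + 1) := by
    rw [orderOf_pow_of_dvd hp.out.ne_zero (hx ▸ dvd_pow_self p (by omega)), hx, pow_succ,
      Nat.mul_div_cancel _ hp.out.pos]
  have hZcard : Nat.card Z = p ^ (n + 1) := by rw [hZdef, Nat.card_zpowers, hxpo]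
  have hpowZ : ∀ g : G, g ^ p ∈ Z := by
    intro g
    obtain ⟨i, hi⟩ := Subgroup.mem_zpowers_iff.mp (hpowX g)
    by_cases hdi : (p : ℤ) ∣ i
    · obtain ⟨j, rfl⟩ := hdi
      rw [← hi, zpow_mul, zpow_natCast]
      exact zpow_mem (Subgroup.mem_zpowers _) j
    · exfalso
      apply hnc
      have hgen : x ∈ Subgroup.zpowers (g ^ p) := by
        have hic : IsCoprime i (orderOf x : ℤ) := by
          rw [hx, Nat.cast_pow]
          exact ((Nat.prime_iff_prime_int.mp hp.out).coprime_iff_not_dvd.mpr hdi).symm.pow_right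
        obtain ⟨u, v, huv⟩ := hic
        refine Subgroup.mem_zpowers_iff.mpr ⟨u, ?_⟩
        rw [← hi, ← zpow_mul]
        conv_rhs => rw [← zpow_one x, ← huv]
        rw [zpow_add, mul_comm v, zpow_mul x (orderOf x : ℤ), zpow_natCast, pow_orderOf_eq_one, one_zpow,
          mul_one, mul_comm]
      have hge : p ^ (n + 2) ∣ orderOf (g ^ p) := by
        rw [← hx]
        exact (Nat.card_zpowers x) ▸ (Nat.card_zpowers (g ^ p)) ▸
          Subgroup.card_dvd_of_le (Subgroup.zpowers_le.mpr hgen)
      obtain ⟨b, hb⟩ := IsPGroup.iff_orderOf.mp hpg g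
      have hb3 : n + 3 ≤ b := by
        by_contra hc
        rcases Nat.eq_zero_or_pos b with hb0 | hb0
        · rw [hb0, pow_zero, orderOf_eq_one_iff] at hb
          rw [hb, one_pow, orderOf_one] at hge
          exact absurd (Nat.le_of_dvd Nat.one_pos hge) (not_le.mpr (Nat.one_lt_pow (by omega) hp.out.one_lt))
        obtain ⟨b', rfl⟩ : ∃ b', b = b' + 1 := ⟨b - 1, by omega⟩
        rw [orderOf_pow_of_dvd hp.out.ne_zero (hb ▸ dvd_pow_self p hb0.ne'), hb,
          pow_succ p b', Nat.mul_div_cancel _ hp.out.pos,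
          Nat.pow_dvd_pow_iff_le_right hp.out.one_lt] at hge
        omega
      refine isCyclic_of_orderOf_eq_card g (le_antisymm (Nat.le_of_dvd Nat.card_pos (orderOf_dvd_natCard g)) ?_)
      rw [hb, hG]
      exact Nat.pow_le_pow_right hp.out.pos hb3
  have hclass : commutator G ≤ Z := by
    have hq : Nat.card (G ⧸ Z) = p ^ 2 := by
      rw [(card_quotient_eq hG hZcard).2]; congr 1; omega
    rw [_root_.commutator_def, Subgroup.commutator_le]
    intro a _ b _
    rw [← QuotientGroup.eq_one_iff, commutatorElement_def, QuotientGroup.mk_mul, QuotientGroup.mk_mul,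
      QuotientGroup.mk_mul, QuotientGroup.mk_inv, QuotientGroup.mk_inv,
      (IsPGroup.isMulCommutative_of_card_eq_prime_sq hq).is_comm.comm (a : G ⧸ Z) b, mul_inv_cancel_right, mul_inv_cancel]
  have hmulpow : ∀ a b : G, (a * b) ^ p = a ^ p * b ^ p := by
    intro a b
    set c := b * a * b⁻¹ * a⁻¹ with hc
    have hcc : ∀ g, g * c = c * g := Subgroup.mem_center_iff.mp
      (hZc (hclass (Subgroup.commutator_mem_commutator (Subgroup.mem_top b) (Subgroup.mem_top a))))
    have hba : ∀ i : ℕ, b ^ i * a = c ^ i * (a * b ^ i) := by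
      intro i
      induction i with
      | zero => simp
      | succ i ih =>
        calc b ^ (i + 1) * a = b * (b ^ i * a) := by rw [pow_succ', mul_assoc]
          _ = c ^ i * (b * a * b ^ i) := by
            rw [ih, ← mul_assoc, ((show Commute b c from hcc b).pow_right i).eq]; simp only [mul_assoc]
          _ = c ^ i * (c * a * b * b ^ i) := by rw [show b * a = c * a * b by rw [hc]; group]
          _ = _ := by rw [pow_succ c, pow_succ' b]; simp only [mul_assoc]
    have hcp : c ^ p = 1 := by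
      have h1 := hba p
      have h2 := Subgroup.mem_center_iff.mp (hZc (hpowZ b)) a
      rw [← h2] at h1
      exact (mul_eq_right.mp h1.symm)
    have hpow : ∀ i : ℕ, (a * b) ^ i = c ^ (i.choose 2) * (a ^ i * b ^ i) := by
      intro i
      induction i with
      | zero => simp
      | succ i ih =>
        rw [pow_succ (a * b), ih]
        calc c ^ i.choose 2 * (a ^ i * b ^ i) * (a * b)
            = c ^ i.choose 2 * (a ^ i * (b ^ i * a) * b) := by simp only [mul_assoc]
          _ = c ^ i.choose 2 * (c ^ i * (a ^ i * (a * b ^ i)) * b) := by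
            rw [hba, ← mul_assoc (a ^ i) (c ^ i), ((show Commute (a ^ i) c from hcc _).pow_right i).eq,
              mul_assoc (c ^ i)]
          _ = _ := by
            rw [Nat.choose_succ_succ, Nat.choose_one_right, Nat.add_comm i (i.choose (Nat.succ 1)), pow_add,
              pow_succ a i, pow_succ b i]
            simp only [mul_assoc]
    obtain ⟨t, ht⟩ := hp.out.dvd_choose_self (k := 2) two_ne_zero
      (by have := hp.out.two_le; omega)
    rw [hpow p, ht, pow_mul, hcp, one_pow, one_mul]
  let π : G →* Z :=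
    { toFun := fun g => ⟨g ^ p, hpowZ g⟩
      map_one' := Subtype.ext (one_pow p)
      map_mul' := fun a b => Subtype.ext (hmulpow a b) }
  have hπsurj : Function.Surjective π := by
    intro z
    obtain ⟨i, hi⟩ := Subgroup.mem_zpowers_iff.mp z.2
    refine ⟨x ^ i, Subtype.ext ?_⟩
    show (x ^ i) ^ p = (z : G)
    rw [← hi, ← zpow_natCast, ← zpow_mul, mul_comm, zpow_mul, zpow_natCast]
  have hK : Nat.card π.ker = p ^ 2 := by
    have h := π.ker.card_mul_index
    rw [Subgroup.index_ker, MonoidHom.range_eq_top.mpr hπsurj, Subgroup.card_top, hZcard, hG,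
      show p ^ (n + 3) = p ^ 2 * p ^ (n + 1) by rw [← pow_add]; congr 1; omega] at h
    exact Nat.eq_of_mul_eq_mul_right (pow_pos hp.out.pos _) h
  set L := (Subgroup.zpowers (π (x ^ p))).comap π with hL
  have hLZ : π.ker ⊔ Z = L := by
    rw [hL, ← MonoidHom.map_zpowers, Subgroup.comap_map_eq, sup_comm]
  have hLcard : Nat.card L = p ^ (n + 2) := by
    have hidx : L.index * p ^ n = p ^ (n + 1) := by
      rw [hL, Subgroup.index_comap_of_surjective _ hπsurj, ← hZcard,
        ← (Subgroup.zpowers (π (x ^ p))).index_mul_card, Nat.card_zpowers]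
      congr 1
      rw [← Subgroup.orderOf_coe]
      show p ^ n = orderOf ((x ^ p) ^ p)
      rw [orderOf_pow_of_dvd hp.out.ne_zero (hxpo ▸ dvd_pow_self p (by omega)), hxpo, pow_succ,
        Nat.mul_div_cancel _ hp.out.pos]
    rw [pow_succ, mul_comm L.index] at hidx
    have hidx' : L.index = p := Nat.eq_of_mul_eq_mul_left (pow_pos hp.out.pos n) hidx
    have h := L.card_mul_index
    rw [hidx', hG, show n + 3 = n + 2 + 1 from rfl, pow_succ] at h
    exact Nat.eq_of_mul_eq_mul_right hp.out.pos h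
  rw [Nat.card_eq_one_iff_unique]
  refine ⟨⟨?_⟩, ⟨⟨L, hLcard, ?_⟩⟩⟩
  · suffices h : ∀ M : Subgroup G, Nat.card M = p ^ (n + 2) → ¬ IsCyclic M → L ≤ M by
      intro a b
      refine Subtype.ext ?_
      rw [← Subgroup.eq_of_le_of_card_ge (h a.1 a.2.1 a.2.2) (by rw [hLcard, a.2.1]),
        ← Subgroup.eq_of_le_of_card_ge (h b.1 b.2.1 b.2.2) (by rw [hLcard, b.2.1])]
    intro M hM hMnc
    rw [← hLZ]
    have hMco := isCoatom_of_card hG hM
    refine sup_le ?_ ((Subgroup.zpowers_le.mpr (frattini_le_coatom hMco (pow_mem_frattini hpg x))))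
    have hlt : Nat.card (π.domRestrict M).range ≤ p ^ n := by
      obtain ⟨b, -, hb⟩ := (Nat.dvd_prime_pow hp.out).mp
        (hZcard ▸ Subgroup.card_subgroup_dvd_card (π.domRestrict M).range)
      have hble : b ≤ n + 1 := (Nat.pow_dvd_pow_iff_le_right hp.out.one_lt).mp
        (hb ▸ hZcard ▸ Subgroup.card_subgroup_dvd_card (π.domRestrict M).range)
      rw [hb]
      refine Nat.pow_le_pow_right hp.out.pos ?_
      by_contra hc
      have htop : (π.domRestrict M).range = ⊤ :=
        Subgroup.eq_top_of_card_eq _ (by rw [hb, hZcard]; congr 1; omega)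
      obtain ⟨g, hg⟩ := (MonoidHom.range_eq_top.mp htop) ⟨x ^ p, Subgroup.mem_zpowers _⟩
      have hgp : (g : G) ^ p = x ^ p := congrArg Subtype.val hg
      obtain ⟨c, hcc⟩ := IsPGroup.iff_orderOf.mp hpg (g : G)
      have hc1 : c ≠ 0 := fun h0 => by
        rw [h0, pow_zero, orderOf_eq_one_iff] at hcc
        rw [hcc, one_pow] at hgp
        rw [← hgp, orderOf_one] at hxpo
        exact absurd hxpo.symm (Nat.one_lt_pow (by omega) hp.out.one_lt).ne'
      rw [← hgp, orderOf_pow_of_dvd hp.out.ne_zero (hcc ▸ dvd_pow_self p hc1), hcc,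
        show c = c - 1 + 1 by omega, pow_succ, Nat.mul_div_cancel _ hp.out.pos] at hxpo
      have hc2 := Nat.pow_right_injective hp.out.two_le hxpo
      refine hMnc (isCyclic_of_orderOf_eq_card g ?_)
      rw [← Subgroup.orderOf_coe, hcc, hM]
      congr 1
      omega
    have h := (π.domRestrict M).ker.card_mul_index
    rw [Subgroup.index_ker, hM] at h
    have hge : p ^ 2 ≤ Nat.card (π.domRestrict M).ker := by
      by_contra hc
      have : Nat.card (π.domRestrict M).ker * Nat.card (π.domRestrict M).range < p ^ 2 * p ^ n :=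
        Nat.mul_lt_mul_of_lt_of_le (not_le.mp hc) hlt (pow_pos hp.out.pos n)
      rw [h, ← pow_add, add_comm 2 n] at this
      exact lt_irrefl _ this
    have hle : (π.domRestrict M).ker.map M.subtype ≤ π.ker := by
      rintro _ ⟨g, hg, rfl⟩
      exact hg
    have heq := Subgroup.eq_of_le_of_card_ge hle
      (by rw [hK, Subgroup.card_map_of_injective M.subtype_injective]; exact hge)
    rw [← heq]
    exact Subgroup.map_subtype_le _
  · intro hcyc
    have hKL : π.ker ≤ L := hLZ ▸ le_sup_left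
    have : Fintype L := Fintype.ofFinite _
    have h := IsCyclic.card_pow_eq_one_le (α := L) hp.out.pos
    have h2 : Nat.card π.ker ≤ Nat.card {a : L // a ^ p = 1} := by
      refine Nat.card_le_card_of_injective
        (fun z : π.ker => (⟨⟨z.1, hKL z.2⟩, Subtype.ext (congrArg Subtype.val (MonoidHom.mem_ker.mp z.2) : )⟩ : {a : L // a ^ p = 1}))
        fun a b hab => Subtype.ext (congrArg (fun w : {a : L // a ^ p = 1} => ((w.1 : L) : G)) hab)
    rw [hK, Nat.card_eq_fintype_card, Fintype.card_subtype] at h2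
    have := h2.trans h
    nlinarith [hp.out.two_le]

theorem numSub_cyclic (hc : IsCyclic G) {n : ℕ} (hn : n ∣ Nat.card G) : numSub G n = 1 := by
  obtain ⟨g, hg⟩ := hc.exists_generator
  have hord : orderOf g = Nat.card G := orderOf_eq_card_of_forall_mem_zpowers hg
  have hdiv : orderOf (g ^ (Nat.card G / n)) = n := by
    rw [← hord, orderOf_pow_of_dvd ?_ (Nat.div_dvd_of_dvd (hord ▸ hn)), hord,
      Nat.div_div_self hn Nat.card_pos.ne']
    rw [hord]
    exact (Nat.div_pos (Nat.le_of_dvd Nat.card_pos hn) (Nat.pos_of_dvd_of_pos hn Nat.card_pos)).ne'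
  refine Nat.card_eq_one_iff_unique.mpr ⟨⟨fun a b => Subtype.ext ?_⟩,
    ⟨⟨Subgroup.zpowers (g ^ (Nat.card G / n)), by rw [Nat.card_zpowers, hdiv]⟩⟩⟩
  have key : ∀ H : Subgroup G, Nat.card H = n → Subgroup.zpowers (g ^ (Nat.card G / n)) = H := by
    intro H hH
    refine (Subgroup.eq_of_le_of_card_ge (fun y hy => ?_) (by rw [Nat.card_zpowers, hdiv, hH])).symm
    obtain ⟨i, hi⟩ := (isOfFinOrder_of_finite g).mem_powers_iff_mem_zpowers.mpr (hg y)
    simp only at hi
    have h1 : g ^ (i * n) = 1 := by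
      rw [pow_mul, hi]
      have := congrArg Subtype.val (pow_card_eq_one' (x := (⟨y, hy⟩ : H)))
      rwa [hH] at this
    have h2 := orderOf_dvd_of_pow_eq_one h1
    rw [hord] at h2
    have h3 : Nat.card G / n ∣ i := by
      obtain ⟨q, hq⟩ := hn
      have hn0 : 0 < n := Nat.pos_of_dvd_of_pos ⟨q, hq⟩ Nat.card_pos
      rw [hq, Nat.mul_div_cancel_left q hn0]
      rw [hq, mul_comm i] at h2
      exact Nat.dvd_of_mul_dvd_mul_left hn0 h2
    obtain ⟨t, rfl⟩ := h3
    rw [← hi, pow_mul]
    exact pow_mem (Subgroup.mem_zpowers _) t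
  exact (key a.1 a.2).symm.trans (key b.1 b.2)

/-- **Kulakoff**, odd `p`. -/
theorem numSub_modEq_odd (hp2 : p ≠ 2) : ∀ (m : ℕ) {G : Type*} [Group G] [Finite G],
    Nat.card G = p ^ m → ¬ IsCyclic G → ∀ k, 1 ≤ k → k < m → numSub G (p ^ k) ≡ 1 + p [MOD p ^ 2] := by
  intro m
  induction m using Nat.strong_induction_on with
  | h m ih =>
  intro G _ _ hG hnc k hk1 hk2
  classical
  obtain ⟨m, rfl⟩ : ∃ j, m = j + 2 := ⟨m - 2, by omega⟩
  by_cases hkm : k = m + 1
  · subst hkm
    exact numSub_maximal hG hnc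
  have hk : k ≤ m := by omega
  obtain ⟨n, rfl⟩ : ∃ n, m = n + 1 := ⟨m - 1, by omega⟩
  have : Fintype (Subgroup G) := Fintype.ofFinite _
  have hsum := sum_maximal_modEq hG hnc hk
  set c := Nat.card {M : Subgroup G // Nat.card M = p ^ (n + 2) ∧ IsCyclic M} with hc
  set d := Nat.card {M : Subgroup G // Nat.card M = p ^ (n + 2) ∧ ¬ IsCyclic M} with hd
  have hcd : c + d = numSub G (p ^ (n + 2)) := by
    rw [hc, hd, ← natCard_filter, ← natCard_filter, numSub, ← natCard_filter,
      ← Finset.card_filter_add_card_filter_not (s := Finset.univ.filter fun M : Subgroup G => Nat.card M = p ^ (n + 2))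
        (fun M => IsCyclic M),
      Finset.filter_filter, Finset.filter_filter]
  have hcp : c ≡ 0 [MOD p] := by
    by_cases hex : ∃ M : Subgroup G, Nat.card M = p ^ (n + 2) ∧ IsCyclic M
    · obtain ⟨M, hM, hMc⟩ := hex
      obtain ⟨g, hg⟩ := hMc.exists_generator
      have hord : orderOf (g : G) = p ^ (n + 2) := by
        rw [Subgroup.orderOf_coe, orderOf_eq_card_of_forall_mem_zpowers hg, hM]
      have hd1 : d = 1 := card_noncyclic_maximal hp2 hG hnc hord
      have h1 : c + 1 ≡ 0 + 1 [MOD p] := by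
        rw [zero_add, ← hd1, hcd]
        refine (Nat.ModEq.of_dvd (dvd_pow_self p two_ne_zero) (numSub_maximal hG hnc)).trans ?_
        rw [hd1]
        exact Nat.add_modEq_right
      exact Nat.ModEq.add_right_cancel' 1 h1
    · have : IsEmpty {M : Subgroup G // Nat.card M = p ^ (n + 2) ∧ IsCyclic M} := ⟨fun M => hex ⟨M.1, M.2⟩⟩
      rw [hc, Nat.card_of_isEmpty]
  have hM : ∀ M ∈ Finset.univ.filter (fun M : Subgroup G => Nat.card M = p ^ (n + 2)),
      numSub M (p ^ k) ≡ (if IsCyclic M then 1 else 1 + p) [MOD p ^ 2] := by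
    intro M hM
    rw [Finset.mem_filter] at hM
    by_cases hMc : IsCyclic M
    · rw [if_pos hMc, numSub_cyclic hMc (hM.2 ▸ pow_dvd_pow p (by omega))]
    · rw [if_neg hMc]
      exact ih (n + 2) (by omega) hM.2 hMc k hk1 (by omega)
  have hsum2 := (Nat.ModEq.sum hM).symm.trans hsum
  rw [Finset.sum_ite, Finset.sum_const, Finset.sum_const, Finset.filter_filter, Finset.filter_filter,
    natCard_filter, natCard_filter, smul_eq_mul, smul_eq_mul, ← hc, ← hd, mul_one] at hsum2
  have hN := numSub_maximal hG hnc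
  rw [← hcd] at hN
  have hcp2 : c * p ≡ 0 [MOD p ^ 2] := by
    have := Nat.ModEq.mul_right' p hcp
    rwa [zero_mul, ← pow_two] at this
  have e1 : c + d * (1 + p) + c * p = (c + d) * (1 + p) := by ring
  have e2 : c + d * (1 + p) ≡ (1 + p) * (1 + p) [MOD p ^ 2] := by
    have h1 : c + d * (1 + p) + 0 ≡ c + d * (1 + p) + c * p [MOD p ^ 2] := Nat.ModEq.add_left _ hcp2.symm
    rw [add_zero, e1] at h1
    exact h1.trans (Nat.ModEq.mul_right _ hN)
  have e3 : (1 + p) * (1 + p) ≡ 1 + p + p [MOD p ^ 2] := by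
    rw [show (1 + p) * (1 + p) = 1 + p + p + p ^ 2 by ring]
    exact Nat.add_modEq_right
  exact Nat.ModEq.add_right_cancel' p ((hsum2.symm.trans e2).trans e3)

/-- conjugation action on subgroups by a subgroup -/
@[instance_reducible]
noncomputable def subgroupConjAction (P : Subgroup G) : MulAction P (Subgroup G) where
  smul y H := H.map (MulAut.conj (y : G)).toMonoidHom
  one_smul H := by
    show H.map (MulAut.conj ((1 : P) : G)).toMonoidHom = H
    rw [Subgroup.coe_one, map_one]
    exact Subgroup.map_id H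
  mul_smul a b H := by
    show H.map (MulAut.conj ((a * b : P) : G)).toMonoidHom = (H.map _).map _
    rw [Subgroup.map_map, Subgroup.coe_mul, map_mul]
    rfl

/-- Reduction to a Sylow subgroup. -/
theorem numSub_modEq_sylow (P : Sylow p G) {a : ℕ} (ha : p ^ (a + 1) ∣ Nat.card G) :
    numSub G (p ^ a) ≡ numSub (P : Subgroup G) (p ^ a) [MOD p ^ 2] := by
  classical
  letI : MulAction (P : Subgroup G) (Subgroup G) := subgroupConjAction (P : Subgroup G)
  have hsmul : ∀ (y : (P : Subgroup G)) (H : Subgroup G), y • H = H.map (MulAut.conj (y : G)).toMonoidHom :=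
    fun _ _ => rfl
  have : Fintype (Subgroup G) := Fintype.ofFinite _
  obtain ⟨n, hn⟩ := IsPGroup.iff_card.mp P.2
  have han : a + 1 ≤ n := by
    have h1 : p ^ (a + 1) ∣ p ^ n := by
      refine (Nat.Coprime.pow_left (a + 1) (hp.out.coprime_iff_not_dvd.mpr P.not_dvd_index)).dvd_of_dvd_mul_right ?_
      rwa [← hn, Subgroup.card_mul_index]
    exact (Nat.pow_dvd_pow_iff_le_right hp.out.one_lt).mp h1
  have hcardS : ∀ R : Sylow p G, Nat.card (R : Subgroup G) = p ^ n := fun R => by
    rw [R.card_eq_multiplicity, ← P.card_eq_multiplicity, hn]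
  set A : Subgroup G → Prop := fun H => Nat.card H = p ^ a
  set out : Subgroup G → Prop := fun H => A H ∧ ¬ H ≤ (P : Subgroup G)
  set ND : Subgroup G → Subgroup G := fun H =>
    (P : Subgroup G) ⊓ Subgroup.normalizer (H : Set G)
  have hstab : ∀ H : Subgroup G, (MulAction.stabilizer (P : Subgroup G) H) = (ND H).subgroupOf (P : Subgroup G) := by
    intro H
    ext y
    rw [MulAction.mem_stabilizer_iff, hsmul, Subgroup.mem_subgroupOf]
    exact ⟨fun h => ⟨y.2, Subgroup.mem_normalizer_iff_map_conj_eq.mpr h⟩,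
      fun h => Subgroup.mem_normalizer_iff_map_conj_eq.mp h.2⟩
  have horb : ∀ H : Subgroup G, Nat.card (MulAction.orbit (P : Subgroup G) H) = (ND H).relIndex (P : Subgroup G) := by
    intro H
    rw [Subgroup.relIndex, ← hstab, MulAction.index_stabilizer, Nat.card_coe_set_eq]
  -- small orbits outside P
  have hDcard : ∀ H, out H → ¬ p ^ 2 ∣ (ND H).relIndex (P : Subgroup G) → Nat.card (ND H) = p ^ (n - 1) ∧
      Nat.card (H ⊔ ND H : Subgroup G) = p ^ n := by
    intro H hH hsmall
    have hle : ND H ≤ (P : Subgroup G) := inf_le_left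
    obtain ⟨i, hi⟩ := IsPGroup.iff_card.mp (P.2.to_le hle)
    have h1 := ((ND H).subgroupOf (P : Subgroup G)).card_mul_index
    rw [Nat.card_congr (Subgroup.subgroupOfEquivOfLe hle).toEquiv, hi, hn] at h1
    have hin : i ≤ n := (Nat.pow_dvd_pow_iff_le_right hp.out.one_lt).mp (Dvd.intro _ h1)
    have hrel : (ND H).relIndex (P : Subgroup G) = p ^ (n - i) := by
      rw [Subgroup.relIndex]
      refine Nat.eq_of_mul_eq_mul_left (pow_pos hp.out.pos i) ?_
      rw [h1, ← pow_add]; congr 1; omega
    rw [hrel] at hsmall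
    have hni : n ≤ i + 1 := by
      by_contra hc
      exact hsmall (pow_dvd_pow p (by omega))
    have hJ : IsPGroup p (H ⊔ ND H : Subgroup G) :=
      IsPGroup.to_sup_of_normal_left' (IsPGroup.of_card hH.1) (P.2.to_le hle) inf_le_right
    obtain ⟨S, hS⟩ := hJ.exists_le_sylow
    have hJle : Nat.card (H ⊔ ND H : Subgroup G) ≤ p ^ n := hcardS S ▸ Subgroup.card_le_of_le hS
    obtain ⟨l, hl⟩ := IsPGroup.iff_card.mp hJ
    have hlt : ND H < H ⊔ ND H := lt_of_le_of_ne le_sup_right fun e => hH.2 ((le_sup_left.trans e.ge).trans hle)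
    have hlt' : p ^ i < p ^ l := by
      rw [← hi, ← hl]
      by_contra hc
      exact hlt.ne (Subgroup.eq_of_le_of_card_ge hlt.le (not_lt.mp hc))
    have h3 := (Nat.pow_lt_pow_iff_right hp.out.one_lt).mp hlt'
    have h4 := (Nat.pow_le_pow_iff_right hp.out.one_lt).mp (hl ▸ hJle)
    refine ⟨by rw [hi]; congr 1; omega, by rw [hl]; congr 1; omega⟩
  have hbig : p ^ 2 ∣ Nat.card {H // out H ∧ p ^ 2 ∣ (ND H).relIndex (P : Subgroup G)} := by
    refine Cfsg.Agent.FGS2.dvd_ncard_of_orbits (G := (P : Subgroup G)) {H | out H ∧ p ^ 2 ∣ (ND H).relIndex (P : Subgroup G)}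
      (fun y H hH => ?_) (fun H hH => by rw [horb]; exact hH.2)
    have hou : out (y • H) := by
      refine ⟨?_, fun hle => hH.1.2 ?_⟩
      · show Nat.card (y • H : Subgroup G) = p ^ a
        rw [hsmul, Subgroup.card_map_of_injective (MulAut.conj (y : G)).injective]
        exact hH.1.1
      · intro h hh
        have h1 := hle (show (y : G) * h * (y : G)⁻¹ ∈ (y • H : Subgroup G) from ⟨h, hh, rfl⟩)
        simpa [mul_assoc] using mul_mem (mul_mem (inv_mem y.2) h1) y.2
    refine ⟨hou, ?_⟩
    rw [← horb, MulAction.orbit_smul, horb]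
    exact hH.2
  have hsmallsum : p ^ 2 ∣ Nat.card {H // out H ∧ ¬ p ^ 2 ∣ (ND H).relIndex (P : Subgroup G)} := by
    rw [← natCard_filter]
    rw [Finset.card_eq_sum_card_fiberwise (f := ND) (t := (Finset.univ : Finset (Subgroup G)))
      (fun _ _ => Finset.mem_coe.mpr (Finset.mem_univ _))]
    refine Finset.dvd_sum fun D _ => ?_
    rw [Finset.filter_filter, natCard_filter]
    by_cases hD : Nat.card D = p ^ (n - 1) ∧ D ≤ (P : Subgroup G)
    swap
    · have : IsEmpty {H // (out H ∧ ¬ p ^ 2 ∣ (ND H).relIndex (P : Subgroup G)) ∧ ND H = D} :=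
        ⟨fun H => hD (H.2.2 ▸ ⟨(hDcard H.1 H.2.1.1 H.2.1.2).1, inf_le_left⟩)⟩
      rw [Nat.card_of_isEmpty]
      exact dvd_zero _
    obtain ⟨hDc, hDP⟩ := hD
    set N := Subgroup.normalizer (D : Set G) with hN
    have hnormD : ∀ R : Sylow p G, D ≤ (R : Subgroup G) → (R : Subgroup G) ≤ N := by
      intro R hDR
      have hlt : D < (R : Subgroup G) := lt_of_le_of_ne hDR fun e => by
        rw [e, hcardS] at hDc
        have := Nat.pow_right_injective hp.out.two_le hDc
        omega
      have hgrow := Cfsg.Agent.Transfer.lt_inf_normalizer R.2 hlt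
      rw [← inf_eq_left]
      refine Subgroup.eq_of_le_of_card_ge inf_le_left ?_
      obtain ⟨b, hb⟩ := IsPGroup.iff_card.mp
        (R.2.to_le (inf_le_left : (R : Subgroup G) ⊓ N ≤ R))
      have h5 : p ^ (n - 1) < p ^ b := by
        rw [← hDc, ← hb]
        by_contra hc
        exact hgrow.ne (Subgroup.eq_of_le_of_card_ge hgrow.le (not_lt.mp hc))
      rw [hb, hcardS]
      exact Nat.pow_le_pow_right hp.out.pos (by
        have := (Nat.pow_lt_pow_iff_right hp.out.one_lt).mp h5; omega)
    set F : Sylow p G → Type _ := fun R =>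
      {H : Subgroup G // A H ∧ H ≤ (R : Subgroup G) ∧ ¬ H ≤ D ∧ (R : Subgroup G) ≤ Subgroup.normalizer (H : Set G)}
    have hinter : ∀ R : Sylow p G, R ≠ P → D ≤ (R : Subgroup G) → (P : Subgroup G) ⊓ R = D := by
      intro R hne hDR
      refine (Subgroup.eq_of_le_of_card_ge (le_inf hDP hDR) ?_).symm
      obtain ⟨b, hb⟩ := IsPGroup.iff_card.mp (P.2.to_le (inf_le_left : (P : Subgroup G) ⊓ R ≤ P))
      have h6 : p ^ b < p ^ n := by
        rw [← hb, ← hn]
        by_contra hc
        have e := Subgroup.eq_of_le_of_card_ge inf_le_left (not_lt.mp hc)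
        exact hne (Cfsg.Agent.FGS4.sylow_eq_of_le (e ▸ inf_le_right : (P : Subgroup G) ≤ R)).symm
      rw [hb, hDc]
      exact Nat.pow_le_pow_right hp.out.pos (by
        have := (Nat.pow_lt_pow_iff_right hp.out.one_lt).mp h6; omega)
    have e : {H // (out H ∧ ¬ p ^ 2 ∣ (ND H).relIndex (P : Subgroup G)) ∧ ND H = D} ≃
        Σ R : {R : Sylow p G // (R : Subgroup G) ≤ N ∧ R ≠ P}, F R.1 := by
      refine Equiv.symm (Equiv.ofBijective (fun z => ⟨z.2.1, ?_⟩) ⟨?_, ?_⟩)
      · have hDR : D ≤ (z.1.1 : Subgroup G) := by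
          -- the unique Sylow subgroup of a p-subgroup normalized by it contains it
          have hJ : IsPGroup p (D ⊔ (z.1.1 : Subgroup G) : Subgroup G) :=
            IsPGroup.to_sup_of_normal_left' (P.2.to_le hDP) z.1.1.2 z.1.2.1
          exact le_sup_left.trans (z.1.1.is_maximal' hJ le_sup_right).le
        obtain ⟨hA, hHR, hHD, hRN⟩ := z.2.2
        have hHP : ¬ z.2.1 ≤ (P : Subgroup G) := fun h => hHD ((le_inf h hHR).trans (hinter _ z.1.2.2 hDR).le)
        have hND : ND z.2.1 = D := by
          have h1 : D ≤ ND z.2.1 := le_inf hDP (hDR.trans hRN)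
          refine (Subgroup.eq_of_le_of_card_ge h1 ?_).symm
          obtain ⟨b, hb⟩ := IsPGroup.iff_card.mp (P.2.to_le (inf_le_left : ND z.2.1 ≤ P))
          have h7 : p ^ b < p ^ n := by
            rw [← hb, ← hn]
            by_contra hc
            have e := Subgroup.eq_of_le_of_card_ge inf_le_left (not_lt.mp hc)
            have hJ : IsPGroup p (z.2.1 ⊔ (P : Subgroup G) : Subgroup G) :=
              IsPGroup.to_sup_of_normal_left' (IsPGroup.of_card hA) P.2 (e ▸ inf_le_right)
            exact hHP (le_sup_left.trans (P.is_maximal' hJ le_sup_right).le)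
          rw [hb, hDc]
          exact Nat.pow_le_pow_right hp.out.pos (by
            have := (Nat.pow_lt_pow_iff_right hp.out.one_lt).mp h7; omega)
        refine ⟨⟨⟨hA, hHP⟩, ?_⟩, hND⟩
        rw [hND]
        intro hd
        have h1 := (D.subgroupOf (P : Subgroup G)).card_mul_index
        rw [Nat.card_congr (Subgroup.subgroupOfEquivOfLe hDP).toEquiv, hDc, hn] at h1
        rw [Subgroup.relIndex] at hd
        have h2 : p ^ (n - 1) * p ^ 2 ∣ p ^ n := h1 ▸ Nat.mul_dvd_mul_left _ hd
        rw [← pow_add, Nat.pow_dvd_pow_iff_le_right hp.out.one_lt] at h2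
        omega
      · rintro ⟨⟨R, hRN, hRP⟩, ⟨H, hA, hHR, hHD, hRH⟩⟩ ⟨⟨R', hR'N, hR'P⟩, ⟨H', hA', hHR', hHD', hRH'⟩⟩ h
        have hHH : H = H' := congrArg Subtype.val h
        subst hHH
        have key : ∀ S : Sylow p G, (S : Subgroup G) ≤ N → H ≤ (S : Subgroup G) → (S : Subgroup G) = H ⊔ D := by
          intro S hSN hHS
          have hDS : D ≤ (S : Subgroup G) := by
            have hJ : IsPGroup p (D ⊔ (S : Subgroup G) : Subgroup G) :=
              IsPGroup.to_sup_of_normal_left' (P.2.to_le hDP) S.2 hSN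
            exact le_sup_left.trans (S.is_maximal' hJ le_sup_right).le
          refine (Subgroup.eq_of_le_of_card_ge (sup_le hHS hDS) ?_).symm
          obtain ⟨b, hb⟩ := IsPGroup.iff_card.mp (S.2.to_le (sup_le hHS hDS))
          have h8 : p ^ (n - 1) < p ^ b := by
            rw [← hDc, ← hb]
            by_contra hc
            exact hHD ((Subgroup.eq_of_le_of_card_ge le_sup_right (not_lt.mp hc)).ge.trans' le_sup_left)
          rw [hb, hcardS]
          exact Nat.pow_le_pow_right hp.out.pos (by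
            have := (Nat.pow_lt_pow_iff_right hp.out.one_lt).mp h8; omega)
        have hRR : R = R' := Sylow.ext ((key R hRN hHR).trans (key R' hR'N hHR').symm)
        subst hRR
        rfl
      · rintro ⟨H, ⟨hout, hsm⟩, hHD⟩
        obtain ⟨-, hc⟩ := hDcard H hout hsm
        obtain ⟨R, hR⟩ := (IsPGroup.of_card hc).exists_le_sylow
        have hReq : (R : Subgroup G) = H ⊔ ND H :=
          (Subgroup.eq_of_le_of_card_ge hR (by rw [hc, hcardS])).symm
        have hRP : R ≠ P := fun e => hout.2 (e ▸ le_sup_left.trans hReq.ge)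
        have hDR : D ≤ (R : Subgroup G) := hHD ▸ hR.trans' le_sup_right
        refine ⟨⟨⟨R, hnormD R hDR, hRP⟩, ⟨H, hout.1, le_sup_left.trans hR, fun hle => hout.2 (hle.trans hDP), ?_⟩⟩, rfl⟩
        rw [hReq]
        exact sup_le Subgroup.le_normalizer inf_le_right
    have : Fintype {R : Sylow p G // (R : Subgroup G) ≤ N ∧ R ≠ P} := Fintype.ofFinite _
    rw [Nat.card_congr e, Nat.card_sigma]
    have hconst : ∀ R : {R : Sylow p G // (R : Subgroup G) ≤ N ∧ R ≠ P}, Nat.card (F R.1) = Nat.card (F P) := by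
      intro R
      obtain ⟨c, hcN, hc⟩ := Cfsg.Agent.Transfer.exists_conj_eq_of_le R.1 P R.2.1 (hnormD P hDP)
      set φ := (MulAut.conj c).toMonoidHom
      have hD' : D.map φ = D := Subgroup.mem_normalizer_iff_map_conj_eq.mp hcN
      have hinj : Function.Injective φ := (MulAut.conj c).injective
      refine Nat.card_congr (Equiv.subtypeEquiv (MulEquiv.mapSubgroup (MulAut.conj c)).toEquiv fun H => ?_)
      show _ ↔ A (H.map φ) ∧ H.map φ ≤ (P : Subgroup G) ∧ ¬ H.map φ ≤ D ∧
        (P : Subgroup G) ≤ Subgroup.normalizer ((H.map φ : Subgroup G) : Set G)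
      refine and_congr ?_ (and_congr ?_ (and_congr ?_ ?_))
      · show Nat.card H = p ^ a ↔ Nat.card (H.map φ) = p ^ a
        rw [Subgroup.card_map_of_injective hinj]
      · rw [← hc]; exact (Subgroup.map_le_map_iff_of_injective hinj).symm
      · conv_rhs => rw [← hD']
        rw [Subgroup.map_le_map_iff_of_injective hinj]
      · rw [← Subgroup.map_equiv_normalizer_eq, ← hc]
        exact (Subgroup.map_le_map_iff_of_injective hinj).symm
    rw [Finset.sum_congr rfl fun R _ => hconst R, Finset.sum_const, smul_eq_mul, pow_two]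
    refine Nat.mul_dvd_mul ?_ ?_
    · rw [Finset.card_univ, ← Nat.card_eq_fintype_card]
      have h1 : Nat.card {R : Sylow p G // (R : Subgroup G) ≤ N} = Nat.card {R : Sylow p G // (R : Subgroup G) ≤ N ∧ R ≠ P} + 1 := by
        refine (Nat.card_congr ((Equiv.optionSubtypeNe
          (⟨P, hnormD P hDP⟩ : {R : Sylow p G // (R : Subgroup G) ≤ N})).symm)).trans ?_
        rw [Finite.card_option]
        congr 1
        exact Nat.card_congr
          { toFun := fun R => ⟨R.1.1, R.1.2, fun h => R.2 (Subtype.ext h)⟩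
            invFun := fun R => ⟨⟨R.1, R.2.1⟩, fun h => R.2.2 (congrArg Subtype.val h)⟩
            left_inv := fun R => rfl
            right_inv := fun R => rfl }
      have h2 := card_sylow_modEq_one p N
      rw [← Cfsg.Agent.FGS4.card_sylow_le N P (hnormD P hDP), h1] at h2
      exact Nat.modEq_zero_iff_dvd.mp (Nat.ModEq.add_right_cancel' 1 (by rwa [zero_add]))
    · have hinv : ∀ (y : (P : Subgroup G)) (H : Subgroup G), A H ∧ H ≤ (P : Subgroup G) ∧ ¬ H ≤ D →
          A (y • H) ∧ (y • H) ≤ (P : Subgroup G) ∧ ¬ (y • H) ≤ D := by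
        rintro y H ⟨h1, h2, h3⟩
        refine ⟨?_, ?_, fun h4 => h3 ?_⟩
        · show Nat.card (y • H : Subgroup G) = p ^ a
          rw [hsmul, Subgroup.card_map_of_injective (MulAut.conj (y : G)).injective]
          exact h1
        · rintro _ ⟨h, hh, rfl⟩
          exact mul_mem (mul_mem y.2 (h2 hh)) (inv_mem y.2)
        · intro h hh
          exact (Subgroup.mem_normalizer_iff.mp (hnormD P hDP y.2) h).mpr (h4 ⟨h, hh, rfl⟩)
      let S : SubMulAction (P : Subgroup G) (Subgroup G) :=
        { carrier := {H | A H ∧ H ≤ (P : Subgroup G) ∧ ¬ H ≤ D}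
          smul_mem' := fun y H hH => hinv y H hH }
      have hfix := P.2.card_modEq_card_fixedPoints S
      have e1 : Nat.card (MulAction.fixedPoints (P : Subgroup G) S) = Nat.card (F P) :=
        Nat.card_congr
          { toFun := fun z => ⟨z.1.1, z.1.2.1, z.1.2.2.1, z.1.2.2.2, fun y hy =>
              Subgroup.mem_normalizer_iff_map_conj_eq.mpr
                (congrArg Subtype.val (z.2 ⟨y, hy⟩))⟩
            invFun := fun H => ⟨⟨H.1, H.2.1, H.2.2.1, H.2.2.2.1⟩, fun y => Subtype.ext
              (Subgroup.mem_normalizer_iff_map_conj_eq.mp (H.2.2.2.2 y.2))⟩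
            left_inv := fun z => rfl
            right_inv := fun H => rfl }
      have e2 : Nat.card S + numSub D (p ^ a) = numSub (P : Subgroup G) (p ^ a) := by
        rw [numSub_subgroup, numSub_subgroup]
        show Nat.card {H // A H ∧ H ≤ (P : Subgroup G) ∧ ¬ H ≤ D} + Nat.card {H // A H ∧ H ≤ D} =
          Nat.card {H // A H ∧ H ≤ (P : Subgroup G)}
        rw [← natCard_filter, ← natCard_filter, ← natCard_filter,
          ← Finset.card_filter_add_card_filter_not (s := Finset.univ.filter fun H => A H ∧ H ≤ (P : Subgroup G))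
            (fun H => ¬ H ≤ D), Finset.filter_filter, Finset.filter_filter]
        congr 1
        · congr 1; ext H; simp [and_assoc]
        · congr 1; ext H
          simp only [Finset.mem_filter, Finset.mem_univ, true_and, not_not]
          exact ⟨fun h => ⟨⟨h.1, h.2.trans hDP⟩, h.2⟩, fun h => ⟨h.1.1, h.2⟩⟩
      have h5 : numSub D (p ^ a) ≡ 1 [MOD p] :=
        Cfsg.Agent.FGS2.card_subgroups_prime_pow p a hp.out (hDc ▸ pow_dvd_pow p (by omega))
      have h6 : numSub (P : Subgroup G) (p ^ a) ≡ 1 [MOD p] :=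
        Cfsg.Agent.FGS2.card_subgroups_prime_pow p a hp.out (hn ▸ pow_dvd_pow p (by omega))
      rw [← e2] at h6
      have h7 : Nat.card S + numSub D (p ^ a) ≡ 0 + numSub D (p ^ a) [MOD p] := by
        rw [zero_add]; exact h6.trans h5.symm
      rw [← e1]
      exact Nat.modEq_zero_iff_dvd.mp (hfix.symm.trans (Nat.ModEq.add_right_cancel' _ h7))
  have hsplit : numSub G (p ^ a) = numSub (P : Subgroup G) (p ^ a) +
      (Nat.card {H // out H ∧ p ^ 2 ∣ (ND H).relIndex (P : Subgroup G)} +
       Nat.card {H // out H ∧ ¬ p ^ 2 ∣ (ND H).relIndex (P : Subgroup G)}) := by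
    rw [numSub_subgroup, numSub, ← natCard_filter, ← natCard_filter, ← natCard_filter, ← natCard_filter,
      ← Finset.filter_filter, ← Finset.filter_filter out, ← Finset.filter_filter out,
      Finset.card_filter_add_card_filter_not, ← Finset.filter_filter A,
      Finset.card_filter_add_card_filter_not]
  rw [hsplit]
  conv_rhs => rw [← add_zero (numSub (P : Subgroup G) (p ^ a))]
  exact Nat.ModEq.add_left _ (Nat.modEq_zero_iff_dvd.mpr (dvd_add hbig hsmallsum))

/-- **Kulakoff–Hall**, any finite group. -/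
theorem numSub_modEq_one_or (G : Type*) [Group G] [Finite G] {a : ℕ} (hdvd : p ^ (a + 1) ∣ Nat.card G) :
    numSub G (p ^ a) ≡ 1 [MOD p ^ 2] ∨ numSub G (p ^ a) ≡ 1 + p [MOD p ^ 2] := by
  by_cases hp2 : p = 2
  · subst hp2
    have h := Cfsg.Agent.FGS2.card_subgroups_prime_pow 2 a hp.out
      ((pow_dvd_pow 2 (Nat.le_succ a)).trans hdvd) (G := G)
    unfold numSub
    unfold Nat.ModEq at h ⊢
    omega
  rcases Nat.eq_zero_or_pos a with rfl | ha
  · left
    rw [pow_zero, show numSub G 1 = 1 from Nat.card_eq_one_iff_unique.mpr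
      ⟨⟨fun a b => Subtype.ext ((Subgroup.card_eq_one.mp a.2).trans (Subgroup.card_eq_one.mp b.2).symm)⟩,
        ⟨⟨⊥, Subgroup.card_bot⟩⟩⟩]
  obtain ⟨P⟩ : Nonempty (Sylow p G) := inferInstance
  obtain ⟨n, hn⟩ := IsPGroup.iff_card.mp P.2
  have han : a + 1 ≤ n := by
    have h1 : p ^ (a + 1) ∣ p ^ n := by
      refine (Nat.Coprime.pow_left (a + 1) (hp.out.coprime_iff_not_dvd.mpr P.not_dvd_index)).dvd_of_dvd_mul_right ?_
      rwa [← hn, Subgroup.card_mul_index]
    exact (Nat.pow_dvd_pow_iff_le_right hp.out.one_lt).mp h1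
  have hred := numSub_modEq_sylow P hdvd
  by_cases hc : IsCyclic (P : Subgroup G)
  · left
    rwa [numSub_cyclic hc (hn ▸ pow_dvd_pow p (by omega))] at hred
  · right
    exact hred.trans (numSub_modEq_odd hp2 n hn hc a ha (by omega))

end Cfsg.Agent.FGS3.Kulakoff
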