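import Cfsg.Agent.FGS3.Kulakoff
import Cfsg.Agent.Transfer.MaxClassTwo

/-! Kulakoff's congruence for 2-groups. -/

set_option autoImplicit false
set_option linter.unusedSectionVars false
set_option linter.style.haveILetI false

namespace Cfsg.Agent.FGS3.KulakoffTwo

open Subgroup Cfsg.Agent.FGS3.Kulakoff
open scoped commutatorElement

variable {G : Type*} [Group G] [Finite G]

theorem gen_of_notMem_sq {g x : G} {j : ℕ} (hg : orderOf g = 2 ^ j) (hx : x ∈ zpowers g)
    (hn : x ∉ zpowers (g ^ 2)) : zpowers x = zpowers g := by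
  obtain ⟨r, hr⟩ := (isOfFinOrder_of_finite g).mem_powers_iff_mem_zpowers.mpr hx
  simp only at hr
  have hodd : Odd r := by
    by_contra h
    obtain ⟨s, rfl⟩ := Nat.not_odd_iff_even.mp h
    exact hn ⟨(s : ℤ), by simp only [zpow_natCast]; rw [← hr, ← pow_mul, two_mul]⟩
  refine Subgroup.eq_of_le_of_card_ge (zpowers_le.mpr hx) ?_
  have hc : (orderOf g).Coprime r := by
    rw [hg]; exact Nat.Coprime.pow_left j (Nat.coprime_two_left.mpr hodd)
  rw [Nat.card_zpowers, Nat.card_zpowers, ← hr, hc.orderOf_pow]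

theorem le_sq {g : G} {j : ℕ} (hg : orderOf g = 2 ^ j) {H : Subgroup G} (hle : H ≤ zpowers g)
    (hne : H ≠ zpowers g) : H ≤ zpowers (g ^ 2) := by
  intro x hx
  by_contra hn
  refine hne (le_antisymm hle ?_)
  rw [← gen_of_notMem_sq hg (hle hx) hn]
  exact zpowers_le.mpr hx

theorem card_sq {g : G} {j : ℕ} (hg : orderOf g = 2 ^ (j + 1)) :
    Nat.card (zpowers (g ^ 2)) = 2 ^ j := by
  rw [Nat.card_zpowers, orderOf_pow_of_dvd two_ne_zero (by rw [hg]; exact dvd_pow_self 2 (by omega)),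
    hg, pow_succ, Nat.mul_div_cancel _ two_pos]

theorem sq_normal {g : G} (h : (zpowers g).Normal) : (zpowers (g ^ 2)).Normal := by
  refine ⟨fun x hx y => ?_⟩
  obtain ⟨i, rfl⟩ := mem_zpowers_iff.mp hx
  obtain ⟨r, hr⟩ := mem_zpowers_iff.mp (h.conj_mem g (mem_zpowers g) y)
  refine mem_zpowers_iff.mpr ⟨r * i, ?_⟩
  have e : y * (g ^ 2) ^ i * y⁻¹ = (y * g * y⁻¹) ^ (2 * i) := by
    rw [conj_zpow, zpow_mul]; norm_cast
  rw [e, ← hr, ← zpow_natCast g 2, ← zpow_mul, ← zpow_mul]
  congr 1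
  push_cast
  ring

/-- two elements outside the index two subgroup of a cyclic 2-group multiply into it -/
theorem mul_mem_sq {g a b : G} {j : ℕ} (hg : orderOf g = 2 ^ (j + 1)) (ha : a ∈ zpowers g)
    (hb : b ∈ zpowers g) (ha' : a ∉ zpowers (g ^ 2)) (hb' : b ∉ zpowers (g ^ 2)) :
    a * b ∈ zpowers (g ^ 2) := by
  obtain ⟨r, rfl⟩ := mem_zpowers_iff.mp ha
  obtain ⟨s, rfl⟩ := mem_zpowers_iff.mp hb
  have hodd : ∀ t : ℤ, g ^ t ∉ zpowers (g ^ 2) → Odd t := by
    intro t ht
    by_contra h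
    obtain ⟨u, rfl⟩ := Int.not_odd_iff_even.mp h
    refine ht (mem_zpowers_iff.mpr ⟨u, ?_⟩)
    rw [← zpow_natCast g 2, ← zpow_mul]; congr 1; push_cast; ring
  obtain ⟨u, hu⟩ := (hodd r ha').add_odd (hodd s hb')
  refine mem_zpowers_iff.mpr ⟨u, ?_⟩
  rw [← zpow_add, hu, ← zpow_natCast g 2, ← zpow_mul]; congr 1; push_cast; ring

theorem comm_iff (Ψ : Subgroup G) [Ψ.Normal] {a b : G} :
    ⁅a, b⁆ ∈ Ψ ↔ QuotientGroup.mk' Ψ a * QuotientGroup.mk' Ψ b =
      QuotientGroup.mk' Ψ b * QuotientGroup.mk' Ψ a := by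
  rw [← QuotientGroup.eq_one_iff, show ((⁅a, b⁆ : G) : G ⧸ Ψ) = QuotientGroup.mk' Ψ ⁅a, b⁆ from rfl,
    map_commutatorElement, commutatorElement_eq_one_iff_mul_comm]

/-- the elements commuting with `a` modulo `Ψ` -/
def centMod (Ψ : Subgroup G) [Ψ.Normal] (a : G) : Subgroup G :=
  (centralizer {QuotientGroup.mk' Ψ a}).comap (QuotientGroup.mk' Ψ)

theorem mem_centMod {Ψ : Subgroup G} [Ψ.Normal] {a x : G} : x ∈ centMod Ψ a ↔ ⁅x, a⁆ ∈ Ψ := by
  rw [centMod, mem_comap, mem_centralizer_singleton_iff, comm_iff]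

theorem comm_symm {Ψ : Subgroup G} {a b : G} (h : ⁅a, b⁆ ∈ Ψ) : ⁅b, a⁆ ∈ Ψ := by
  rw [← commutatorElement_inv]; exact Ψ.inv_mem h

theorem top_of_index_two {C K : Subgroup G} (hC : C.index = 2) {b : G} (hb : b ∉ C) (hle : C ≤ K)
    (hbK : b ∈ K) : K = ⊤ := by
  rw [eq_top_iff]
  intro x _
  by_cases hx : x ∈ C
  · exact hle hx
  · have h : x * b ∈ C := (mul_mem_iff_of_index_two hC).mpr (iff_of_false hx hb)
    simpa using K.mul_mem (hle h) (K.inv_mem hbK)

theorem comm_le {a b : G} (hC : (zpowers a).index = 2) (hb : b ∉ zpowers a) (Ψ : Subgroup G)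
    [Ψ.Normal] (h : ⁅b, a⁆ ∈ Ψ) : commutator G ≤ Ψ := by
  have key : ∀ y, a ∈ centMod Ψ y → b ∈ centMod Ψ y → ∀ x, ⁅x, y⁆ ∈ Ψ := fun y h1 h2 x =>
    mem_centMod.mp (top_of_index_two hC hb (zpowers_le.mpr h1) h2 ▸ mem_top x)
  have hself : ∀ y : G, y ∈ centMod Ψ y := fun y =>
    mem_centMod.mpr (by rw [commutatorElement_self]; exact one_mem _)
  have ha := key a (hself a) (mem_centMod.mpr h)
  have hb' := key b (mem_centMod.mpr (comm_symm h)) (hself b)
  rw [_root_.commutator_def, Subgroup.commutator_le]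
  intro x _ y _
  exact key y (mem_centMod.mpr (comm_symm (ha y))) (mem_centMod.mpr (comm_symm (hb' y))) x

theorem index_four_iff {N : Subgroup G} {j : ℕ} (hN : Nat.card N = 2 ^ (j + 2)) :
    (commutator N).index = 4 ↔ Nat.card (⁅N, N⁆ : Subgroup G) = 2 ^ j := by
  have h := (commutator N).card_mul_index
  have hc : Nat.card (⁅N, N⁆ : Subgroup G) = Nat.card (commutator N) := by
    rw [← Subgroup.map_subtype_commutator]; exact card_map_of_injective N.subtype_injective
  rw [hN, ← hc, pow_add] at h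
  constructor
  · intro h4; rw [h4] at h; omega
  · intro hj
    rw [hj] at h
    exact Nat.eq_of_mul_eq_mul_left (pow_pos two_pos j) h

theorem card_commutator {m : ℕ} (hG : Nat.card G = 2 ^ m) (hnc : ¬ IsCyclic G) :
    ∃ d, Nat.card (commutator G) = 2 ^ d ∧ d + 2 ≤ m ∧ ((commutator G).index = 4 ↔ d + 2 = m) := by
  have hpg : IsPGroup 2 G := IsPGroup.of_card hG
  obtain ⟨l, hl⟩ := IsPGroup.iff_card.mp (hpg.to_subgroup (frattini G))
  obtain ⟨d, hd⟩ := IsPGroup.iff_card.mp (hpg.to_subgroup (commutator G))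
  have h2 := isCyclic_of_frattini_coatom hG hnc hl
  have hdl : d ≤ l := (Nat.pow_dvd_pow_iff_le_right (by norm_num)).mp
    (hd ▸ hl ▸ card_dvd_of_le (commutator_le_frattini hpg))
  have h := (commutator G).card_mul_index
  rw [hd, hG] at h
  refine ⟨d, hd, by omega, fun h4 => ?_, fun he => ?_⟩
  · rw [h4, show (4 : ℕ) = 2 ^ 2 by norm_num, ← pow_add] at h
    exact Nat.pow_right_injective le_rfl h
  · rw [← he, pow_add] at h
    exact Nat.eq_of_mul_eq_mul_left (pow_pos two_pos d) h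

theorem commutator_le_maximal {M : Subgroup G} {m : ℕ} (hG : Nat.card G = 2 ^ (m + 1))
    (hM : Nat.card M = 2 ^ m) : commutator G ≤ M :=
  (commutator_le_frattini (IsPGroup.of_card hG)).trans (frattini_le_of_card hG hM)

theorem index_maximal {M : Subgroup G} {m : ℕ} (hG : Nat.card G = 2 ^ (m + 1))
    (hM : Nat.card M = 2 ^ m) : M.index = 2 := by
  have h := M.card_mul_index
  rw [hM, hG, pow_succ] at h
  exact Nat.eq_of_mul_eq_mul_left (pow_pos two_pos m) h

theorem frattini_cyclic {M : Subgroup G} {n : ℕ} (hG : Nat.card G = 2 ^ (n + 3))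
    (hnc : ¬ IsCyclic G) (hM : Nat.card M = 2 ^ (n + 2)) {g : G} (hg : M = zpowers g) :
    frattini G = zpowers (g ^ 2) := by
  have hpg : IsPGroup 2 G := IsPGroup.of_card hG
  obtain ⟨l, hl⟩ := IsPGroup.iff_card.mp (hpg.to_subgroup (frattini G))
  have h2 := isCyclic_of_frattini_coatom hG hnc hl
  subst hg
  refine le_antisymm (le_sq (by rw [← Nat.card_zpowers, hM]) (frattini_le_of_card hG hM) fun h => ?_)
    (zpowers_le.mpr (pow_mem_frattini hpg g))
  rw [h, hM] at hl
  have := Nat.pow_right_injective le_rfl hl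
  omega

/-- A non-cyclic 2-group not of maximal class has an even number of cyclic maximal subgroups. -/
theorem even_cyclic {n : ℕ} (hG : Nat.card G = 2 ^ (n + 3)) (hnc : ¬ IsCyclic G)
    (h4 : (commutator G).index ≠ 4) :
    Even (Nat.card {M : Subgroup G // Nat.card M = 2 ^ (n + 2) ∧ IsCyclic M}) := by
  by_cases hex : ∃ M : Subgroup G, Nat.card M = 2 ^ (n + 2) ∧ IsCyclic M
  swap
  · have : IsEmpty {M : Subgroup G // Nat.card M = 2 ^ (n + 2) ∧ IsCyclic M} := ⟨fun M => hex ⟨M.1, M.2⟩⟩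
    rw [Nat.card_of_isEmpty]; exact Even.zero
  obtain ⟨C, hC, hCc⟩ := hex
  have hpg : IsPGroup 2 G := IsPGroup.of_card hG
  obtain ⟨x, hx⟩ := (Subgroup.isCyclic_iff_exists_zpowers_eq_top C).mp hCc
  have hxo : orderOf x = 2 ^ (n + 2) := by rw [← Nat.card_zpowers, hx, hC]
  have hΦ := frattini_cyclic hG hnc hC hx.symm
  have hx2o : orderOf (x ^ 2) = 2 ^ (n + 1) := by rw [← Nat.card_zpowers, card_sq hxo]
  haveI hΦn : (zpowers (x ^ 2)).Normal := by rw [← hΦ]; infer_instance
  set Ψ := zpowers ((x ^ 2) ^ 2)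
  haveI hΨn : Ψ.Normal := sq_normal hΦn
  obtain ⟨d, hd, hd2, hd4⟩ := card_commutator hG hnc
  have hcomm : ∀ a b : G, Commute (QuotientGroup.mk' Ψ a) (QuotientGroup.mk' Ψ b) := by
    have hle : commutator G ≤ Ψ := by
      refine le_sq hx2o (hΦ ▸ commutator_le_frattini hpg) fun h => h4 ?_
      rw [h, card_sq hxo] at hd
      have := Nat.pow_right_injective le_rfl hd
      exact hd4.mpr (by omega)
    exact fun a b => (comm_iff Ψ).mp (hle (commutator_mem_commutator (mem_top a) (mem_top b)))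
  have hx2 : x ^ 2 ∉ Ψ := by
    intro h
    have := Subgroup.card_le_of_le (zpowers_le.mpr h)
    rw [card_sq hx2o, card_sq hxo] at this
    exact absurd ((Nat.pow_le_pow_iff_right (by norm_num)).mp this) (by omega)
  have hsq : ∀ g : G, g ^ 2 ∈ zpowers (x ^ 2) := fun g => hΦ ▸ pow_mem_frattini hpg g
  -- squares are additive modulo `Ψ`
  have hmul : ∀ a b : G, (a * b) ^ 2 ∈ Ψ ↔ a ^ 2 * b ^ 2 ∈ Ψ := fun a b => by
    rw [← QuotientGroup.eq_one_iff (N := Ψ), ← QuotientGroup.eq_one_iff (N := Ψ)]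
    rw [show (((a * b) ^ 2 : G) : G ⧸ Ψ) = ((a ^ 2 * b ^ 2 : G) : G ⧸ Ψ) by
      simp only [QuotientGroup.mk_pow, QuotientGroup.mk_mul]; exact (hcomm a b).mul_pow 2]
  have hCne : C ≠ ⊤ := by
    intro h
    rw [h, Subgroup.card_top, hG] at hC
    exact absurd (Nat.pow_right_injective le_rfl hC) (by omega)
  obtain ⟨w, hwC, hw2, hxw⟩ : ∃ w, w ∉ C ∧ w ^ 2 ∉ Ψ ∧ (x * w) ^ 2 ∈ Ψ := by
    obtain ⟨y, hy⟩ : ∃ y, y ∉ C := by
      by_contra h
      exact hCne ((eq_top_iff' _).mpr fun g => not_not.mp fun hg => h ⟨g, hg⟩)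
    by_cases hy2 : y ^ 2 ∈ Ψ
    · refine ⟨x * y, fun h => hy ?_, ?_, ?_⟩
      · simpa using C.mul_mem (C.inv_mem (hx ▸ mem_zpowers x : x ∈ C)) h
      · rw [hmul]
        exact fun h => hx2 (by simpa using Ψ.mul_mem h (Ψ.inv_mem hy2))
      · rw [← mul_assoc, hmul, ← pow_two]
        exact Ψ.mul_mem (mem_zpowers _) hy2
    · exact ⟨y, hy, hy2, (hmul x y).mpr (mul_mem_sq hx2o (hsq x) (hsq y) hx2 hy2)⟩
  have hΦw : zpowers (w ^ 2) = zpowers (x ^ 2) := gen_of_notMem_sq hx2o (hsq w) hw2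
  have hwo : orderOf w = 2 ^ (n + 2) := by
    obtain ⟨j, -, hj⟩ := (Nat.dvd_prime_pow Nat.prime_two).mp (hG ▸ orderOf_dvd_natCard w)
    rcases Nat.eq_zero_or_pos j with rfl | hjp
    · rw [pow_zero, orderOf_eq_one_iff] at hj
      exact absurd (hj ▸ C.one_mem) hwC
    obtain ⟨i, rfl⟩ : ∃ i, j = i + 1 := ⟨j - 1, by omega⟩
    have h1 : Nat.card (zpowers (w ^ 2)) = 2 ^ i := card_sq hj
    rw [hΦw, card_sq hxo] at h1
    rw [hj, ← Nat.pow_right_injective le_rfl h1]
  have hset : {M : Subgroup G | Nat.card M = 2 ^ (n + 2) ∧ IsCyclic M} = {C, zpowers w} := by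
    ext M
    simp only [Set.mem_setOf_eq, Set.mem_insert_iff, Set.mem_singleton_iff]
    constructor
    · rintro ⟨hM, hMc⟩
      obtain ⟨g, hg⟩ := (Subgroup.isCyclic_iff_exists_zpowers_eq_top M).mp hMc
      have hgo : orderOf g = 2 ^ (n + 2) := by rw [← Nat.card_zpowers, hg, hM]
      have hΦg : zpowers (g ^ 2) = zpowers (x ^ 2) := by
        rw [← frattini_cyclic hG hnc hM hg.symm, hΦ]
      have hΦC : zpowers (x ^ 2) ≤ C := hx ▸ zpowers_le.mpr (pow_mem (mem_zpowers x) 2)
      by_cases hxM : x ∈ M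
      · left
        exact (Subgroup.eq_of_le_of_card_ge (hx ▸ zpowers_le.mpr hxM) (by rw [hC, hM])).symm
      by_cases hwM : w ∈ M
      · right
        rw [← hg] at hwM ⊢
        exact (gen_of_notMem_sq hgo hwM (fun h => hwC (hΦC (hΦg ▸ h)))).symm
      exfalso
      have hmem : x * w ∈ zpowers g := by
        rw [hg]; exact (mul_mem_iff_of_index_two (index_maximal hG hM)).mpr (iff_of_false hxM hwM)
      have hn : x * w ∉ zpowers (g ^ 2) := by
        rw [hΦg]
        intro h
        exact hwC (by simpa using C.mul_mem (C.inv_mem (hx ▸ mem_zpowers x : x ∈ C)) (hΦC h))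
      have h1 := gen_of_notMem_sq hgo hmem hn
      obtain ⟨r, hr⟩ := mem_zpowers_iff.mp (h1.ge (mem_zpowers g))
      have h2 : g ^ 2 ∈ Ψ := by
        rw [← hr, ← zpow_natCast, ← zpow_mul, mul_comm, zpow_mul, zpow_natCast]
        exact zpow_mem hxw r
      exact hx2 (zpowers_le.mpr h2 (hΦg ▸ mem_zpowers (x ^ 2)))
    · rintro (rfl | rfl)
      · exact ⟨hC, hCc⟩
      · exact ⟨by rw [Nat.card_zpowers, hwo], inferInstance⟩
  have h2 : Nat.card {M : Subgroup G // Nat.card M = 2 ^ (n + 2) ∧ IsCyclic M} = 2 := by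
    have h := Nat.card_coe_set_eq {M : Subgroup G | Nat.card M = 2 ^ (n + 2) ∧ IsCyclic M}
    rw [Set.coe_setOf] at h
    rw [h, hset, Set.ncard_pair (fun h : C = zpowers w => hwC (h.symm ▸ mem_zpowers w))]
  rw [h2]; exact even_two

/-- elements of a subgroup containing a modulo-`Ψ` central subgroup with index 2 commute -/
theorem comm_of_half {Ψ R S : Subgroup G} [Ψ.Normal] (hR : ∀ r ∈ R, ∀ y : G, ⁅y, r⁆ ∈ Ψ) (hRS : R ≤ S)
    (hcard : Nat.card S ≤ 2 * Nat.card R) {u v : G} (hu : u ∈ S) (hv : v ∈ S) : ⁅v, u⁆ ∈ Ψ := by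
  by_cases huR : u ∈ R
  · exact hR u huR v
  have hlt : R < centMod Ψ u ⊓ S := by
    refine lt_of_le_of_ne (le_inf (fun r hr => mem_centMod.mpr (comm_symm (hR r hr u))) hRS) ?_
    intro h
    exact huR (h ▸ ⟨mem_centMod.mpr (by rw [commutatorElement_self]; exact one_mem _), hu⟩)
  have h1 : 2 * Nat.card R ≤ Nat.card (centMod Ψ u ⊓ S : Subgroup G) := by
    obtain ⟨t, ht⟩ := card_dvd_of_le hlt.le
    have hne : Nat.card R ≠ Nat.card (centMod Ψ u ⊓ S : Subgroup G) := fun h =>
      hlt.ne (Subgroup.eq_of_le_of_card_ge hlt.le h.ge)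
    have hpos : 0 < Nat.card (centMod Ψ u ⊓ S : Subgroup G) := Nat.card_pos
    rw [ht] at hne hpos ⊢
    rcases t with _ | _ | t
    · simp at hpos
    · simp at hne
    · rw [Nat.mul_comm 2]; exact Nat.mul_le_mul_left _ (by omega)
  exact mem_centMod.mp ((Subgroup.eq_of_le_of_card_ge inf_le_right (hcard.trans h1)).ge hv).1

/-- A 2-group not of maximal class has an even number of maximal subgroups of maximal class. -/
theorem even_maxClass {n : ℕ} (hG : Nat.card G = 2 ^ (n + 4)) (hnc : ¬ IsCyclic G)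
    (h4 : (commutator G).index ≠ 4) :
    Even (Nat.card {M : Subgroup G // Nat.card M = 2 ^ (n + 3) ∧ (commutator M).index = 4}) := by
  classical
  haveI : Fact (Nat.Prime 2) := ⟨Nat.prime_two⟩
  by_cases hex : ∃ M : Subgroup G, Nat.card M = 2 ^ (n + 3) ∧ (commutator M).index = 4
  swap
  · have : IsEmpty {M : Subgroup G // Nat.card M = 2 ^ (n + 3) ∧ (commutator M).index = 4} :=
      ⟨fun M => hex ⟨M.1, M.2⟩⟩
    rw [Nat.card_of_isEmpty]; exact Even.zero
  obtain ⟨M, hM, hM4⟩ := hex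
  obtain ⟨d, hd, hd2, hd4⟩ := card_commutator hG hnc
  have hMd : Nat.card (⁅M, M⁆ : Subgroup G) = 2 ^ (n + 1) := (index_four_iff hM).mp hM4
  have hMle : (⁅M, M⁆ : Subgroup G) ≤ commutator G := commutator_mono le_top le_top
  have hdn : d = n + 1 := by
    have h1 : n + 1 ≤ d := (Nat.pow_dvd_pow_iff_le_right (x := 2) (by norm_num)).mp
      (hMd ▸ hd ▸ card_dvd_of_le hMle)
    have h2 : d + 2 ≠ n + 4 := fun h => h4 (hd4.mpr h)
    omega
  subst hdn
  have hGM : (⁅M, M⁆ : Subgroup G) = commutator G :=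
    Subgroup.eq_of_le_of_card_ge hMle (by rw [hMd, hd])
  haveI hcyc : IsCyclic (commutator G) := by
    obtain ⟨⟨C, hCc, hCi⟩, -⟩ :=
      Cfsg.Agent.Transfer.MaxClass.taussky (n + 3) M (by omega) hM hM4
    have hC : Nat.card C = 2 ^ (n + 2) := by
      have h := C.card_mul_index
      rw [hCi, hM, pow_succ (n := n + 2)] at h
      exact Nat.eq_of_mul_eq_mul_right two_pos h
    haveI := hCc
    haveI : IsCyclic (commutator M) := Subgroup.isCyclic_of_le (commutator_le_maximal hM hC)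
    rw [← hGM, ← Subgroup.map_subtype_commutator]
    exact isCyclic_of_surjective _
      ((commutator M).equivMapOfInjective M.subtype M.subtype_injective).surjective
  obtain ⟨c, hc⟩ := (Subgroup.isCyclic_iff_exists_zpowers_eq_top (commutator G)).mp hcyc
  have hco : orderOf c = 2 ^ (n + 1) := by rw [← Nat.card_zpowers, hc, hd]
  have hcn : (zpowers c).Normal := hc ▸ (inferInstance : (commutator G).Normal)
  set Ψ := zpowers (c ^ 2)
  haveI hΨn : Ψ.Normal := sq_normal hcn
  have hΨlt : ¬ commutator G ≤ Ψ := fun h => by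
    have := Subgroup.card_le_of_le h
    rw [hd, card_sq hco] at this
    exact absurd ((Nat.pow_le_pow_iff_right (by norm_num)).mp this) (by omega)
  have hmemG : ∀ a b : G, ⁅a, b⁆ ∈ zpowers c := fun a b =>
    hc ▸ commutator_mem_commutator (mem_top a) (mem_top b)
  -- the subgroup central modulo `Ψ`
  set R := (center (G ⧸ Ψ)).comap (QuotientGroup.mk' Ψ) with hRdef
  have hR : ∀ {r : G}, r ∈ R ↔ ∀ y : G, ⁅y, r⁆ ∈ Ψ := by
    intro r
    rw [hRdef, mem_comap, mem_center_iff]
    refine ⟨fun h y => (comm_iff Ψ).mpr (h _), fun h q => ?_⟩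
    obtain ⟨y, rfl⟩ := QuotientGroup.mk'_surjective Ψ q
    exact (comm_iff Ψ).mp (h y)
  have hRn : R.Normal := Subgroup.Normal.comap inferInstance _
  have hDR : commutator G ≤ R := by
    have hcΨ : c ∉ Ψ := fun h => hΨlt (by rw [← hc]; exact zpowers_le.mpr h)
    rw [← hc, zpowers_le, hR]
    intro y
    rw [commutatorElement_def]
    refine mul_mem_sq hco (hcn.conj_mem c (mem_zpowers c) y) (inv_mem (mem_zpowers c)) (fun h => ?_)
      (fun h => hcΨ (by simpa using Ψ.inv_mem h))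
    exact hcΨ (by simpa [mul_assoc] using hΨn.conj_mem _ h y⁻¹)
  obtain ⟨u, hu, v, hv, huv⟩ : ∃ u ∈ M, ∃ v ∈ M, ⁅u, v⁆ ∉ Ψ := by
    by_contra h
    push_neg at h
    exact hΨlt (hGM ▸ Subgroup.commutator_le.mpr h)
  have hflip : ∀ a b : G, ⁅a, b⁆ ∉ Ψ → ∀ x, ⁅x, b⁆ ∉ Ψ → ⁅x * a, b⁆ ∈ Ψ := by
    intro a b hab x hxb
    rw [show ⁅x * a, b⁆ = (x * ⁅a, b⁆ * x⁻¹) * ⁅x, b⁆ by simp only [commutatorElement_def]; group]
    exact mul_mem_sq hco (hcn.conj_mem _ (hmemG a b) x) (hmemG x b)
      (fun h => hab (by simpa [mul_assoc] using hΨn.conj_mem _ h x⁻¹)) hxb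
  have hMi : M.index = 2 := index_maximal hG hM
  obtain ⟨x, hxM, hxu, hxv⟩ : ∃ x, x ∉ M ∧ ⁅x, u⁆ ∈ Ψ ∧ ⁅x, v⁆ ∈ Ψ := by
    obtain ⟨x, hxM⟩ : ∃ x, x ∉ M := by
      by_contra h
      have ht : M = ⊤ := (eq_top_iff' _).mpr fun g => not_not.mp fun hg => h ⟨g, hg⟩
      rw [ht, Subgroup.index_top] at hMi
      omega
    obtain ⟨x, hxM, hxu⟩ : ∃ x, x ∉ M ∧ ⁅x, u⁆ ∈ Ψ := by
      by_cases h : ⁅x, u⁆ ∈ Ψ
      · exact ⟨x, hxM, h⟩
      · exact ⟨x * v, fun h' => hxM (by simpa using M.mul_mem h' (M.inv_mem hv)),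
          hflip v u (fun h' => huv (comm_symm h')) x h⟩
    by_cases h : ⁅x, v⁆ ∈ Ψ
    · exact ⟨x, hxM, hxu, h⟩
    · refine ⟨x * u, fun h' => hxM (by simpa using M.mul_mem h' (M.inv_mem hu)), ?_, hflip u v huv x h⟩
      rw [show ⁅x * u, u⁆ = ⁅x, u⁆ by simp only [commutatorElement_def]; group]
      exact hxu
  have hxR : x ∈ R := by
    rw [hR]
    set S := centMod Ψ x ⊓ M
    have hDS : commutator G ≤ S :=
      le_inf (fun r hr => mem_centMod.mpr (comm_symm (hR.mp (hDR hr) x))) (commutator_le_maximal hG hM)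
    have hSM : S = M := by
      by_contra hne
      obtain ⟨s, -, hs⟩ := (Nat.dvd_prime_pow Nat.prime_two).mp (hG ▸ card_subgroup_dvd_card S)
      have hlt : Nat.card S < Nat.card M := by
        by_contra h
        exact hne (Subgroup.eq_of_le_of_card_ge inf_le_right (not_lt.mp h))
      rw [hs, hM] at hlt
      have hs2 : s ≤ n + 2 := by have := (Nat.pow_lt_pow_iff_right (by norm_num)).mp hlt; omega
      refine huv (comm_of_half (fun r hr => hR.mp (hDR hr)) hDS ?_
        (u := v) (v := u) ⟨mem_centMod.mpr (comm_symm hxv), hv⟩ ⟨mem_centMod.mpr (comm_symm hxu), hu⟩)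
      rw [hs, hd, ← pow_succ']
      exact Nat.pow_le_pow_right two_pos hs2
    have htop : centMod Ψ x = ⊤ := top_of_index_two hMi hxM (hSM ▸ inf_le_left)
      (mem_centMod.mpr (by rw [commutatorElement_self]; exact one_mem _))
    exact fun y => mem_centMod.mp (htop ▸ mem_top y)
  obtain ⟨j, -, hj⟩ := (Nat.dvd_prime_pow Nat.prime_two).mp (hG ▸ card_subgroup_dvd_card R)
  have hj1 : j < n + 3 := by
    by_contra h
    refine hΨlt ?_
    rw [_root_.commutator_def, Subgroup.commutator_le]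
    intro a ha b hb
    refine comm_of_half (fun r hr => hR.mp hr) le_top ?_ hb ha
    rw [Subgroup.card_top, hG, hj, ← pow_succ']
    exact Nat.pow_le_pow_right two_pos (by omega)
  have hj2 : n + 2 ≤ j := by
    have hne : commutator G ≠ R := fun h => hxM (commutator_le_maximal hG hM (h ▸ hxR))
    have h1 : Nat.card (commutator G) < Nat.card R := by
      by_contra h
      exact hne (Subgroup.eq_of_le_of_card_ge hDR (not_lt.mp h))
    rw [hd, hj] at h1
    have := (Nat.pow_lt_pow_iff_right (by norm_num)).mp h1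
    omega
  obtain rfl : j = n + 2 := by omega
  have hQnc : ¬ IsCyclic (G ⧸ R) := by
    intro hQ
    obtain ⟨q, hq⟩ := hQ.exists_generator
    obtain ⟨g, rfl⟩ := QuotientGroup.mk_surjective q
    have hgy : ∀ y : G, ∃ i : ℤ, (g ^ i)⁻¹ * y ∈ R := by
      intro y
      obtain ⟨i, hi⟩ := mem_zpowers_iff.mp (hq (y : G ⧸ R))
      rw [← QuotientGroup.mk_zpow, QuotientGroup.eq] at hi
      exact ⟨i, hi⟩
    have hgR : g ∈ R := hR.mpr fun y => by
      obtain ⟨i, hi⟩ := hgy y
      have h1 : g ^ i ∈ centMod Ψ g :=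
        zpow_mem (mem_centMod.mpr (by rw [commutatorElement_self]; exact one_mem _)) i
      have h2 : (g ^ i)⁻¹ * y ∈ centMod Ψ g := mem_centMod.mpr (comm_symm (hR.mp hi g))
      have h3 := (centMod Ψ g).mul_mem h1 h2
      rw [mul_inv_cancel_left] at h3
      exact mem_centMod.mp h3
    have htop : R = ⊤ := (eq_top_iff' _).mpr fun y => by
      obtain ⟨i, hi⟩ := hgy y
      simpa using R.mul_mem (zpow_mem hgR i) hi
    rw [htop, Subgroup.card_top, hG] at hj
    exact absurd (Nat.pow_right_injective le_rfl hj) (by omega)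
  have hiff : ∀ N : Subgroup G, Nat.card N = 2 ^ (n + 3) →
      ((commutator N).index = 4 ↔ ¬ R ≤ N) := by
    intro N hN
    rw [index_four_iff hN]
    constructor
    · intro hN' hRN
      have h1 : (⁅N, N⁆ : Subgroup G) ≤ Ψ := Subgroup.commutator_le.mpr fun a ha b hb =>
        comm_of_half (fun r hr => hR.mp hr) hRN (by rw [hN, hj, ← pow_succ']) hb ha
      have := Subgroup.card_le_of_le h1
      rw [hN', card_sq hco] at this
      exact absurd ((Nat.pow_le_pow_iff_right (by norm_num)).mp this) (by omega)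
    · intro hRN
      have hle : (⁅N, N⁆ : Subgroup G) ≤ commutator G := commutator_mono le_top le_top
      have hnle : ¬ (⁅N, N⁆ : Subgroup G) ≤ Ψ := by
        intro h
        have hNR : N ≤ R := fun z hz => hR.mpr fun y => by
          have hle : N ⊔ R ≤ centMod Ψ z := sup_le
            (fun w hw => mem_centMod.mpr (h (commutator_mem_commutator hw hz)))
            (fun r hr => mem_centMod.mpr (comm_symm (hR.mp hr z)))
          have htop : N ⊔ R = ⊤ := (isCoatom_of_card hG hN).2 _ (left_lt_sup.mpr hRN)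
          exact mem_centMod.mp (hle (htop ▸ mem_top y))
        have := Subgroup.card_le_of_le hNR
        rw [hN, hj] at this
        exact absurd ((Nat.pow_le_pow_iff_right (by norm_num)).mp this) (by omega)
      have heq : (⁅N, N⁆ : Subgroup G) = commutator G := by
        by_contra hne
        exact hnle (le_sq hco (hc.symm ▸ hle) (hc.symm ▸ hne))
      rw [heq, hd]
  have := Fintype.ofFinite (Subgroup G)
  set A := Finset.univ.filter fun N : Subgroup G => Nat.card N = 2 ^ (n + 3)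
  have h1 := Finset.card_filter_add_card_filter_not (s := A) (fun N => R ≤ N)
  have hA : A.card = numSub G (2 ^ (n + 3)) := natCard_filter _
  have hB : (A.filter fun N => R ≤ N).card = numSub (G ⧸ R) (2 ^ 1) := by
    rw [Finset.filter_filter, natCard_filter, card_supgroups R hj (by omega)]
    congr 2
    omega
  have hC : (A.filter fun N => ¬ R ≤ N).card =
      Nat.card {N : Subgroup G // Nat.card N = 2 ^ (n + 3) ∧ (commutator N).index = 4} := by
    rw [Finset.filter_filter, natCard_filter]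
    exact Nat.card_congr (Equiv.subtypeEquivRight fun N => and_congr_right fun h => (hiff N h).symm)
  have hQ : Nat.card (G ⧸ R) = 2 ^ (1 + 1) := by
    rw [(card_quotient_eq hG hj).2]; congr 1; omega
  have h2 : A.card ≡ 1 + 2 [MOD 2 ^ 2] := hA ▸ numSub_maximal hG hnc
  have h3 := numSub_maximal hQ hQnc
  rw [← hB] at h3
  rw [← hC, Nat.even_iff]
  unfold Nat.ModEq at h2 h3
  omega

/-- In a 2-group of maximal class, the maximal subgroups other than the cyclic one agree. -/
theorem maxClass_maximal {n : ℕ} (hG : Nat.card G = 2 ^ (n + 3)) (h4 : (commutator G).index = 4) :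
    ∃ C : Subgroup G, Nat.card C = 2 ^ (n + 2) ∧ IsCyclic C ∧
      (n = 0 → ∀ M N : Subgroup G, Nat.card M = 2 ^ (n + 2) → Nat.card N = 2 ^ (n + 2) →
        M ≠ C → N ≠ C → IsCyclic M → IsCyclic N) ∧
      (1 ≤ n → ∀ N : Subgroup G, Nat.card N = 2 ^ (n + 2) → N ≠ C →
        (commutator N).index = 4 ∧ ¬ IsCyclic N) := by
  haveI : Fact (Nat.Prime 2) := ⟨Nat.prime_two⟩
  obtain ⟨⟨C, hCc, hCi⟩, -⟩ := Cfsg.Agent.Transfer.MaxClass.taussky (n + 3) G (by omega) hG h4
  have hC : Nat.card C = 2 ^ (n + 2) := by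
    have h := C.card_mul_index
    rw [hCi, hG, pow_succ (n := n + 2)] at h
    exact Nat.eq_of_mul_eq_mul_right two_pos h
  obtain ⟨a, ha⟩ := (Subgroup.isCyclic_iff_exists_zpowers_eq_top C).mp hCc
  subst ha
  have hao : orderOf a = 2 ^ (n + 2) := by rw [← Nat.card_zpowers, hC]
  have hd : Nat.card (commutator G) = 2 ^ (n + 1) := by
    have h := (commutator G).card_mul_index
    rw [h4, hG, show 2 ^ (n + 3) = 2 ^ (n + 1) * 4 by ring] at h
    exact Nat.eq_of_mul_eq_mul_right (by norm_num) h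
  have hD : commutator G = zpowers (a ^ 2) := by
    refine Subgroup.eq_of_le_of_card_ge (le_sq hao (commutator_le_maximal hG hC) fun h => ?_)
      (by rw [hd, card_sq hao])
    rw [h, hC] at hd
    exact absurd (Nat.pow_right_injective le_rfl hd) (by omega)
  have ha2o : orderOf (a ^ 2) = 2 ^ (n + 1) := by rw [← Nat.card_zpowers, card_sq hao]
  haveI hDn : (zpowers (a ^ 2)).Normal := hD ▸ (inferInstance : (commutator G).Normal)
  haveI hΨn : (zpowers ((a ^ 2) ^ 2)).Normal := sq_normal hDn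
  have hconj : ∀ b, b ∉ zpowers a → ∃ r : ℕ, Odd r ∧ b * a * b⁻¹ = a ^ (2 * r + 1) := by
    intro b hb
    have hmem : ⁅b, a⁆ ∈ zpowers (a ^ 2) := hD ▸ commutator_mem_commutator (mem_top b) (mem_top a)
    obtain ⟨r, hr⟩ := (isOfFinOrder_of_finite (a ^ 2)).mem_powers_iff_mem_zpowers.mpr hmem
    simp only at hr
    refine ⟨r, ?_, ?_⟩
    · by_contra h
      obtain ⟨s, rfl⟩ := Nat.not_odd_iff_even.mp h
      have hle := comm_le hCi hb (zpowers ((a ^ 2) ^ 2))
        (mem_zpowers_iff.mpr ⟨(s : ℤ), by rw [zpow_natCast, ← hr, ← pow_mul (a ^ 2), two_mul]⟩)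
      rw [hD] at hle
      have := Subgroup.card_le_of_le hle
      rw [card_sq hao, card_sq ha2o] at this
      exact absurd ((Nat.pow_le_pow_iff_right (by norm_num)).mp this) (by omega)
    · rw [pow_succ, pow_mul, hr, commutatorElement_def, inv_mul_cancel_right]
  have hpick : ∀ N : Subgroup G, Nat.card N = 2 ^ (n + 2) → N ≠ zpowers a →
      ∃ b, b ∈ N ∧ b ∉ zpowers a := by
    intro N hN hne
    by_contra h
    push_neg at h
    exact hne (Subgroup.eq_of_le_of_card_ge h (by rw [hN, hC]))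
  refine ⟨zpowers a, hC, hCc, fun hn M N hM hN hMC hNC hMc => ?_, fun hn N hN hNC => ?_⟩
  · subst hn
    obtain ⟨g, hg⟩ := (Subgroup.isCyclic_iff_exists_zpowers_eq_top M).mp hMc
    have hgo : orderOf g = 2 ^ 2 := by rw [← Nat.card_zpowers, hg, hM]
    have hgC : g ∉ zpowers a := fun h =>
      hMC (Subgroup.eq_of_le_of_card_ge (hg ▸ zpowers_le.mpr h) (by rw [hM, hC]))
    obtain ⟨b, hbN, hbC⟩ := hpick N hN hNC
    obtain ⟨r, ⟨s, rfl⟩, hr⟩ := hconj b hbC
    have hinv : b * a * b⁻¹ = a⁻¹ := by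
      rw [hr, eq_inv_iff_mul_eq_one, ← pow_succ]
      exact orderOf_dvd_iff_pow_eq_one.mp (hao ▸ ⟨s + 1, by ring⟩)
    obtain ⟨i, hi⟩ := mem_zpowers_iff.mp
      (show g * b⁻¹ ∈ zpowers a from (mul_mem_iff_of_index_two hCi).mpr
        (iff_of_false hgC fun h => hbC (by simpa using (zpowers a).inv_mem h)))
    have hgb : g ^ 2 = b ^ 2 := by
      have e : b * a ^ i * b⁻¹ = (a ^ i)⁻¹ := by rw [← conj_zpow, hinv, inv_zpow]
      have hg' : g = a ^ i * b := by rw [hi, inv_mul_cancel_right]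
      rw [hg', pow_two, pow_two,
        show a ^ i * b * (a ^ i * b) = a ^ i * (b * a ^ i * b⁻¹) * (b * b) by group, e,
        mul_inv_cancel, one_mul]
    have hbo : orderOf b = 2 ^ (0 + 2) := by
      have hdvd : orderOf b ∣ 2 ^ (0 + 2) := by
        rw [← hN, ← Subgroup.orderOf_mk b hbN]; exact orderOf_dvd_natCard _
      obtain ⟨j, hj2, hj⟩ := (Nat.dvd_prime_pow Nat.prime_two).mp hdvd
      rw [hj]
      congr 1
      by_contra hne
      have : b ^ 2 = 1 := orderOf_dvd_iff_pow_eq_one.mp (hj ▸ (pow_dvd_pow 2 (show j ≤ 1 by omega)).trans (pow_one 2).dvd)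
      rw [← hgb] at this
      have := Nat.le_of_dvd two_pos (orderOf_dvd_iff_pow_eq_one.mpr this)
      rw [hgo] at this
      omega
    exact isCyclic_of_orderOf_eq_card ⟨b, hbN⟩ (by rw [Subgroup.orderOf_mk, hbo, hN])
  · obtain ⟨b, hbN, hbC⟩ := hpick N hN hNC
    obtain ⟨r, hodd, hr⟩ := hconj b hbC
    have ha2N : a ^ 2 ∈ N := commutator_le_maximal hG hN (hD.symm ▸ mem_zpowers (a ^ 2))
    have hcom : ((a ^ 2) ^ 2) ^ r ∈ (⁅N, N⁆ : Subgroup G) := by
      have e : ⁅b, a ^ 2⁆ = ((a ^ 2) ^ 2) ^ r := by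
        rw [commutatorElement_def, show b * a ^ 2 * b⁻¹ = (b * a * b⁻¹) ^ 2 from conj_pow.symm, hr,
          mul_inv_eq_iff_eq_mul]
        simp only [← pow_mul, ← pow_add]
        congr 1
        ring
      exact e ▸ commutator_mem_commutator hbN ha2N
    have ha4o : orderOf ((a ^ 2) ^ 2) = 2 ^ n := by rw [← Nat.card_zpowers, card_sq ha2o]
    have hge : 2 ^ n ≤ Nat.card (⁅N, N⁆ : Subgroup G) := by
      have hc : (orderOf ((a ^ 2) ^ 2)).Coprime r := by
        rw [ha4o]; exact Nat.Coprime.pow_left n (Nat.coprime_two_left.mpr hodd)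
      calc 2 ^ n = orderOf (((a ^ 2) ^ 2) ^ r) := by rw [hc.orderOf_pow, ha4o]
        _ = Nat.card (zpowers (((a ^ 2) ^ 2) ^ r)) := (Nat.card_zpowers _).symm
        _ ≤ _ := Subgroup.card_le_of_le (zpowers_le.mpr hcom)
    have hNnc : ¬ IsCyclic N := by
      intro hNc
      have h1 : (⁅N, N⁆ : Subgroup G) = ⊥ := by
        rw [eq_bot_iff, Subgroup.commutator_le]
        intro x hx y hy
        rw [Subgroup.mem_bot, commutatorElement_eq_one_iff_mul_comm]
        haveI := hNc
        exact congrArg Subtype.val ((IsCyclic.commGroup (α := N)).mul_comm ⟨x, hx⟩ ⟨y, hy⟩)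
      rw [h1, Subgroup.card_bot] at hge
      exact absurd hge (not_le.mpr (Nat.one_lt_two_pow (by omega)))
    refine ⟨?_, hNnc⟩
    obtain ⟨d, hd, hd2, hd4⟩ := card_commutator hN hNnc
    apply hd4.mpr
    have h1 : Nat.card (⁅N, N⁆ : Subgroup G) = Nat.card (commutator N) := by
      rw [← Subgroup.map_subtype_commutator]; exact card_map_of_injective N.subtype_injective
    rw [h1, hd] at hge
    have := (Nat.pow_le_pow_iff_right (by norm_num)).mp hge
    omega

/-- Kulakoff for `p = 2`. -/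
theorem numSub_two : ∀ (m : ℕ) {G : Type*} [Group G] [Finite G], Nat.card G = 2 ^ m →
    ¬ IsCyclic G → ∀ k, 1 ≤ k → k + 2 ≤ m →
      ((commutator G).index = 4 → numSub G (2 ^ k) ≡ 1 [MOD 4]) ∧
      ((commutator G).index ≠ 4 → numSub G (2 ^ k) ≡ 3 [MOD 4]) := by
  intro m
  induction m using Nat.strong_induction_on with
  | h m ih =>
  intro G _ _ hG hnc k hk1 hk2
  classical
  haveI : Fact (Nat.Prime 2) := ⟨Nat.prime_two⟩
  obtain ⟨n, rfl⟩ : ∃ n, m = n + 3 := ⟨m - 3, by omega⟩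
  have := Fintype.ofFinite (Subgroup G)
  have hN : numSub G (2 ^ (n + 2)) ≡ 1 + 2 [MOD 2 ^ 2] := numSub_maximal hG hnc
  have hsum := sum_maximal_modEq (m := n + 1) (k := k) hG hnc (by omega)
  set bad : Subgroup G → Prop := fun M => IsCyclic M ∨ (k + 3 ≤ n + 3 ∧ (commutator M).index = 4)
    with hbad
  set A := Finset.univ.filter fun M : Subgroup G => Nat.card M = 2 ^ (n + 2)
  have hM : ∀ M ∈ A, numSub M (2 ^ k) ≡ (if bad M then 1 else 3) [MOD 2 ^ 2] := by
    intro M hM
    rw [Finset.mem_filter] at hM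
    by_cases hc : IsCyclic M
    · rw [if_pos (Or.inl hc), numSub_cyclic hc (hM.2 ▸ pow_dvd_pow 2 (by omega))]
    by_cases hk : k + 3 ≤ n + 3
    · have h := ih (n + 2) (by omega) hM.2 hc k hk1 (by omega)
      by_cases h4 : (commutator M).index = 4
      · rw [if_pos (Or.inr ⟨hk, h4⟩)]; exact h.1 h4
      · rw [if_neg (fun h' => h'.elim hc fun h'' => h4 h''.2)]; exact h.2 h4
    · rw [if_neg (fun h' => h'.elim hc fun h'' => hk h''.1)]
      have hk' : k = n + 1 := by omega
      subst hk'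
      exact numSub_maximal hM.2 hc
  have hsum2 := (Nat.ModEq.sum hM).symm.trans hsum
  rw [Finset.sum_ite, Finset.sum_const, Finset.sum_const, smul_eq_mul, smul_eq_mul, mul_one] at hsum2
  have hsplit := Finset.card_filter_add_card_filter_not (s := A) (fun x => bad x)
  have hA : A.card = numSub G (2 ^ (n + 2)) := natCard_filter _
  rw [← hA] at hN
  by_cases h4 : (commutator G).index = 4
  · refine ⟨fun _ => ?_, fun h => absurd h4 h⟩
    have hodd : (A.filter fun x => bad x).card % 2 = 1 := by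
      obtain ⟨C, hC, hCc, h0, h1⟩ := maxClass_maximal hG h4
      have hCA : C ∈ A := Finset.mem_filter.mpr ⟨Finset.mem_univ _, hC⟩
      by_cases hall : ∀ M ∈ A, bad M
      · rw [Finset.filter_true_of_mem hall]
        unfold Nat.ModEq at hN
        omega
      push_neg at hall
      obtain ⟨M0, hM0, hb0⟩ := hall
      have hM0C : M0 ≠ C := fun h => hb0 (h ▸ Or.inl hCc)
      have hM0' := (Finset.mem_filter.mp hM0).2
      have hsingle : (A.filter fun x => bad x) = {C} := by
        ext M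
        rw [Finset.mem_filter, Finset.mem_singleton]
        refine ⟨fun ⟨hMA, hMb⟩ => ?_, fun h => h ▸ ⟨hCA, Or.inl hCc⟩⟩
        by_contra hMC
        have hM' := (Finset.mem_filter.mp hMA).2
        rcases Nat.eq_zero_or_pos n with hn0 | hn1
        · rcases hMb with h | h
          · exact hb0 (Or.inl (h0 hn0 M M0 hM' hM0' hMC hM0C h))
          · omega
        · obtain ⟨h04, -⟩ := h1 hn1 M0 hM0' hM0C
          rcases hMb with h | h
          · exact (h1 hn1 M hM' hMC).2 h
          · exact hb0 (Or.inr ⟨h.1, h04⟩)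
      rw [hsingle, Finset.card_singleton]
    unfold Nat.ModEq at hN hsum2 ⊢
    omega
  · refine ⟨fun h => absurd h h4, fun _ => ?_⟩
    have heven : (A.filter fun x => bad x).card % 2 = 0 := by
      have h1 : (A.filter fun M : Subgroup G => IsCyclic M).card % 2 = 0 := by
        rw [Finset.filter_filter, natCard_filter]
        exact Nat.even_iff.mp (even_cyclic hG hnc h4)
      by_cases hk : k + 3 ≤ n + 3
      · obtain ⟨j, rfl⟩ : ∃ j, n = j + 1 := ⟨n - 1, by omega⟩
        have h2 : (A.filter fun M : Subgroup G => (commutator M).index = 4).card % 2 = 0 := by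
          rw [Finset.filter_filter, natCard_filter]
          exact Nat.even_iff.mp (even_maxClass hG hnc h4)
        have hU : (A.filter fun x => bad x) =
            A.filter (fun M : Subgroup G => IsCyclic M) ∪ A.filter (fun M : Subgroup G => (commutator M).index = 4) := by
          ext M
          simp only [hbad, Finset.mem_union, Finset.mem_filter, hk, true_and]
          tauto
        have hdis : Disjoint (A.filter fun M : Subgroup G => IsCyclic M)
            (A.filter fun M : Subgroup G => (commutator M).index = 4) := by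
          rw [Finset.disjoint_filter]
          intro M hMA hc h4'
          have hM' := (Finset.mem_filter.mp hMA).2
          haveI := hc
          have hb : commutator M = ⊥ := by
            rw [eq_bot_iff, _root_.commutator_def, Subgroup.commutator_le]
            intro x _ y _
            rw [Subgroup.mem_bot, commutatorElement_eq_one_iff_mul_comm]
            exact (IsCyclic.commGroup (α := M)).mul_comm x y
          rw [hb, Subgroup.index_bot, hM', show (4 : ℕ) = 2 ^ 2 by norm_num] at h4'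
          exact absurd (Nat.pow_right_injective le_rfl h4') (by omega)
        rw [hU, Finset.card_union_of_disjoint hdis]
        omega
      · have hU : (A.filter fun x => bad x) = A.filter (fun M : Subgroup G => IsCyclic M) := by
          ext M
          simp only [hbad, Finset.mem_filter, hk, false_and, or_false]
        rw [hU]
        exact h1
    unfold Nat.ModEq at hN hsum2 ⊢
    omega

end Cfsg.Agent.FGS3.KulakoffTwo
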