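/-
Inner products read off a product of packed numbers.
-/
import Mathlib.Algebra.BigOperators.Group.Finset.Basic
import Mathlib.Algebra.BigOperators.Ring.Finset
import Mathlib.Algebra.Module.Basic
import Mathlib.Algebra.Group.Nat.Even
import Mathlib.Data.Nat.Basic
import Mathlib.Tactic.Ring
import Mathlib.Tactic.NormNum
import Mathlib.Algebra.Order.BigOperators.Group.Finset

set_option autoImplicit false

namespace Cfsg.Agent.FGS3.McLOut

open Finset

/-- The invariant of the digit computation. -/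
theorem digit_inv (B : ℕ) (hB : 16 ≤ B) (a b : ℕ → ℕ) (ha : ∀ k, a k ≤ 15) (hb : ∀ k, b k ≤ 15) :
    ∀ n : ℕ, ∃ L H : ℕ,
      (∑ k ∈ range n, a k * B ^ k) * (∑ k ∈ range n, b k * B ^ (n - 1 - k)) * B =
          L + B ^ n * ((∑ k ∈ range n, a k * b k) + B * H) ∧
        L * B ≤ 256 * n * B ^ n ∧ (∑ k ∈ range n, a k * B ^ k) * B ≤ 16 * B ^ n := by
  intro n
  induction n with
  | zero => exact ⟨0, 0, by simp, by simp, by simp⟩
  | succ n ih =>
    obtain ⟨L, H, h1, h2, h3⟩ := ih
    have hR : ∑ k ∈ range (n + 1), b k * B ^ (n + 1 - 1 - k) =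
        B * (∑ k ∈ range n, b k * B ^ (n - 1 - k)) + b n := by
      rw [sum_range_succ, Finset.mul_sum]
      congr 1
      · refine sum_congr rfl fun k hk => ?_
        rw [mem_range] at hk
        rw [show n + 1 - 1 - k = (n - 1 - k) + 1 by omega, pow_succ]
        ring
      · simp
    rw [hR, sum_range_succ (fun k => a k * B ^ k), sum_range_succ (fun k => a k * b k)]
    set A := ∑ k ∈ range n, a k * B ^ k
    set R := ∑ k ∈ range n, b k * B ^ (n - 1 - k)
    set C := ∑ k ∈ range n, a k * b k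
    refine ⟨B * L + B * (b n * A), H + a n * R, ?_, ?_, ?_⟩
    · calc (A + a n * B ^ n) * (B * R + b n) * B
          = B * (A * R * B) + B * (b n * A) + B ^ (n + 1) * (a n * b n) + B ^ (n + 1) * (B * (a n * R)) := by
            ring
        _ = _ := by rw [h1]; ring
    · have e1 : B * L * B ≤ 256 * n * B ^ (n + 1) := by
        calc B * L * B = B * (L * B) := by ring
          _ ≤ B * (256 * n * B ^ n) := Nat.mul_le_mul_left _ h2
          _ = _ := by ring
      have e2 : B * (b n * A) * B ≤ 256 * B ^ (n + 1) := by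
        calc B * (b n * A) * B = B * b n * (A * B) := by ring
          _ ≤ B * 16 * (16 * B ^ n) := Nat.mul_le_mul (Nat.mul_le_mul_left _ (le_trans (hb n) (by norm_num))) h3
          _ = _ := by ring
      calc (B * L + B * (b n * A)) * B = B * L * B + B * (b n * A) * B := by ring
        _ ≤ 256 * n * B ^ (n + 1) + 256 * B ^ (n + 1) := Nat.add_le_add e1 e2
        _ = _ := by ring
    · have e3 : 16 * B ^ n ≤ B ^ (n + 1) := by
        rw [pow_succ, mul_comm 16]
        exact Nat.mul_le_mul_left _ hB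
      calc (A + a n * B ^ n) * B = A * B + a n * B ^ (n + 1) := by ring
        _ ≤ 16 * B ^ n + 15 * B ^ (n + 1) := Nat.add_le_add h3 (Nat.mul_le_mul_right _ (ha n))
        _ ≤ 16 * B ^ (n + 1) := by omega

/-- The middle digit of the product is the inner product. -/
theorem digit23 (a b : ℕ → ℕ) (ha : ∀ k, a k ≤ 15) (hb : ∀ k, b k ≤ 15) :
    ((∑ k ∈ range 24, a k <<< (16 * k)) * (∑ k ∈ range 24, b k <<< (16 * (23 - k)))) >>> 368 % 65536 =
      ∑ k ∈ range 24, a k * b k := by
  have hp : ∀ m : ℕ, 2 ^ (16 * m) = 65536 ^ m := fun m => by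
    rw [pow_mul]
    norm_num
  obtain ⟨L, H, h1, h2, -⟩ := digit_inv 65536 (by norm_num) a b ha hb 24
  have hA : ∑ k ∈ range 24, a k <<< (16 * k) = ∑ k ∈ range 24, a k * 65536 ^ k :=
    sum_congr rfl fun k _ => by rw [Nat.shiftLeft_eq, hp]
  have hR : ∑ k ∈ range 24, b k <<< (16 * (23 - k)) = ∑ k ∈ range 24, b k * 65536 ^ (24 - 1 - k) :=
    sum_congr rfl fun k _ => by rw [Nat.shiftLeft_eq, hp]
  have hC : ∑ k ∈ range 24, a k * b k < 65536 := by
    have := sum_le_card_nsmul (range 24) (fun k => a k * b k) 225 fun k _ =>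
      (Nat.mul_le_mul (ha k) (hb k)).trans (by norm_num)
    simp only [card_range, smul_eq_mul] at this
    omega
  have hL : L < 65536 ^ 24 := by
    have : L * 65536 < 65536 * 65536 ^ 24 := lt_of_le_of_lt h2 (by norm_num)
    rw [mul_comm 65536] at this
    exact Nat.lt_of_mul_lt_mul_right this
  rw [hA, hR, Nat.shiftRight_eq_div_pow, show (368 : ℕ) = 16 * 23 by norm_num, hp]
  set M := (∑ k ∈ range 24, a k * 65536 ^ k) * ∑ k ∈ range 24, b k * 65536 ^ (24 - 1 - k)
  set C := ∑ k ∈ range 24, a k * b k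
  have e : M / 65536 ^ 23 = C + 65536 * H := by
    rw [← Nat.mul_div_mul_right M (65536 ^ 23) (show 0 < 65536 by norm_num),
      show 65536 ^ 23 * 65536 = (65536 : ℕ) ^ 24 from (pow_succ 65536 23).symm, h1,
      Nat.add_mul_div_left _ _ (by positivity), Nat.div_eq_of_lt hL, Nat.zero_add]
  rw [e, Nat.add_mul_mod_self_left, Nat.mod_eq_of_lt hC]

end Cfsg.Agent.FGS3.McLOut
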