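/-
Kernel-checked certificates on the McLaughlin graph with 275 vertices.
-/
import Mathlib.Data.Nat.Bitwise
import Mathlib.Data.List.Dedup
import Cfsg.Agent.Golay.LeechMcLData
import Cfsg.Agent.FGS3.McLOutData

set_option autoImplicit false
set_option maxRecDepth 100000

namespace Cfsg.Agent.FGS3.McLOut

open Cfsg.Agent.Golay (mclAll)

/-- Entry of a packed permutation. -/
def app (p i : ℕ) : ℕ := (p >>> (9 * i)) % 512

/-- The generators. -/
def pp (k : ℕ) : ℕ := permsP.getD k 0

/-- Evaluation of a word. -/
def ev (w : List ℕ) (i : ℕ) : ℕ := w.foldr (fun k x => app (pp k) x) i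

/-- Inverse of a word in elements of order three. -/
def winv (w : List ℕ) : List ℕ := w.reverse.flatMap fun k => [k, k]

/-- The rows of the graph. -/
def row (i : ℕ) : ℕ := rowsL.getD i 0

/-- Packed vector. -/
def vpk (i : ℕ) : ℕ := (mclAll.getD i (0, 0, 0)).1

/-- A shifted coordinate. -/
def nib (i k : ℕ) : ℕ := (vpk i >>> (4 * k)) &&& 15

/-- Wide packing of a vector. -/
def wideOf (i : ℕ) : ℕ := ((List.range 24).map fun k => nib i k <<< (16 * k)).sum

/-- Reversed wide packing of a vector. -/
def revOf (i : ℕ) : ℕ := ((List.range 24).map fun k => nib i k <<< (16 * (23 - k))).sum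

/-- Sum of shifted coordinates. -/
def nsum (i : ℕ) : ℕ := ((List.range 24).map fun k => nib i k).sum

/-- Is `p` an automorphism of order dividing three. -/
def autOK (p : ℕ) : Bool :=
  (List.range 275).all fun i =>
    let q := app p i
    let r := row q
    let s := row i
    decide (q < 275) && (app p (app p q) == i) &&
      (List.range 275).all fun j => bif s.testBit j then r.testBit (app p j) else true

/-- Is `p` an automorphism. -/
def autAny (p : ℕ) : Bool :=
  (((List.range 275).map (app p)).dedup.length == 275) && (List.range 275).all fun i =>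
    let q := app p i
    let r := row q
    let s := row i
    decide (q < 275) && (List.range 275).all fun j => bif s.testBit j then r.testBit (app p j) else true

/-- An orbit tree. -/
def treeChk (gw : List (List ℕ)) (x : ℕ) (t : List (ℕ × ℕ × ℕ)) : Bool :=
  (t.getD 0 (0, 0, 0)).1 == x && (List.range t.length).all fun k =>
    k == 0 || (decide ((t.getD k (0, 0, 0)).2.1 < k) && decide ((t.getD k (0, 0, 0)).2.2 < gw.length) &&
      ev (gw.getD (t.getD k (0, 0, 0)).2.2 []) (t.getD (t.getD k (0, 0, 0)).2.1 (0, 0, 0)).1
        == (t.getD k (0, 0, 0)).1) && decide ((t.getD k (0, 0, 0)).1 < 275)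

/-- Points of a tree. -/
def treePts (t : List (ℕ × ℕ × ℕ)) : List ℕ := t.map Prod.fst

/-- The eight generators. -/
def gens8 : List (List ℕ) := [[0], [1], [2], [3], [4, 0, 4, 4], [4, 1, 4, 4], [4, 2, 4, 4], [4, 3, 4, 4]]

/-- A level of the chain. -/
def lev (k : ℕ) : ℕ × List (List ℕ) × List (ℕ × ℕ × ℕ) := chainL.getD k (0, [], [])

/-- The chain of the vertex stabiliser. -/
def chainChk : Bool :=
  (lev 0).2.1 == gens8 && (List.range 4).all fun k =>
    treeChk (lev k).2.1 (lev k).1 (lev k).2.2 &&
      (lev k).2.1.all fun w => (ev w 0 == 0) && (List.range k).all fun l => ev w (lev l).1 == (lev l).1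

/-- The move of `y` by the group attached to `x`. -/
def jmove (x i y : ℕ) : ℕ := ev (transW.getD x []) (ev [i] (ev (winv (transW.getD x [])) y))

/-- Closure derivation. -/
def derive : List (ℕ × ℕ × ℕ × ℕ) → List ℕ → Option (List ℕ)
  | [], C => some C
  | (yi, xi, i, z) :: st, C =>
    bif decide (yi < C.length) && decide (xi < C.length) && decide (i < 4) &&
        (jmove (C.getD xi 0) i (C.getD yi 0) == z) then derive st (C ++ [z]) else none

/-- Adjacent to the base vertex. -/
def near : List ℕ := treePts (lev 0).2.2

/-- Neighbours of the base vertex far from the edge. -/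
def aSet : List ℕ := treePts orbA

/-- The lines give contradictions. -/
def pairChk : Bool :=
  (List.range 10).all fun i => (List.range 10).all fun j => decide (j ≤ i) ||
    pairSteps.any fun s => (s.1 == i) && (s.2.1 == j) &&
      match derive s.2.2 [6, (linesL.getD i []).getD 0 0, (linesL.getD j []).getD 0 0] with
      | some C => C.any fun z => aSet.contains z
      | none => false

/-- The full closure. -/
def fullChk : Bool :=
  match derive fullSteps [6, aSet.getD 0 0] with
  | some C => near.all fun z => C.contains z
  | none => false

/-- Transversal words. -/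
def transChk : Bool :=
  near.all fun x => (ev (transW.getD x []) 6 == x) && (transW.getD x []).all fun k => decide (k < 5)

/-- The image of a line as a bit set. -/
def lineImage (l : List ℕ) (z : ℕ) : ℕ :=
  ((6 :: l).map fun y => 2 ^ ev (transW.getD z []) y).sum

/-- Many images of each line. -/
def lineChk : Bool :=
  (List.range 10).all fun i =>
    let l := linesL.getD i []
    let zs := lineImages.getD i []
    zs.all (fun z => near.contains z) && decide (33 ≤ (zs.map (lineImage l)).dedup.length) &&
      l.all (fun y => (near.contains y) && (y != 6) && !(aSet.contains y) &&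
        (List.range 4).all fun k => l.contains (app (pp k) y) && (app (pp k) 6 == 6)) &&
      (l.dedup.length == 3) && (List.range 3).all fun k =>
        (List.range 9).any fun e => ev (List.replicate (e / 3) 0 ++ List.replicate (e % 3) 1) (l.getD 0 0) == l.getD k 0
          || ev (List.replicate (e / 3) 2 ++ List.replicate (e % 3) 3) (l.getD 0 0) == l.getD k 0

/-- Generators of the deeper levels of the chain. -/
def stabGens : List (List ℕ) := (lev 1).2.1 ++ (lev 2).2.1 ++ (lev 3).2.1

/-- Is a word a product of the eight generators. -/
def inM : List ℕ → Bool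
  | [] => true
  | 4 :: i :: 4 :: 4 :: r => decide (i < 4) && inM r
  | i :: r => decide (i < 4) && inM r

/-- The words of the chain lie in the generated group. -/
def memChk : Bool := (List.range 4).all fun k => (lev k).2.1.all inM

/-- The neighbours of the base vertex. -/
def nearSplit : Bool :=
  near.all fun x => (x == 6) || aSet.contains x || linesL.any fun l => l.contains x

/-- The vectors lie in the configuration. -/
def wideDistinct : Bool := (wideA.take 275).dedup.length == 275

/-- Conjugates of the base of the normal subgroup. -/
def conjChk : Bool :=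
  (List.range stabGens.length).all fun g => (List.range 4).all fun i =>
    ((conjW.getD g []).getD i []).all (fun k => decide (k < 4)) &&
      (List.range 275).all fun x =>
        ev (stabGens.getD g []) (ev [i] x) == ev ((conjW.getD g []).getD i []) (ev (stabGens.getD g []) x)

/-- Commuting generators. -/
def commChk : Bool :=
  (List.range 4).all fun i => (List.range 4).all fun j =>
    (List.range 275).all fun x => ev [i, j] x == ev [j, i] x

/-- Number of neighbours in a list. -/
def cnt (K : List ℕ) (x : ℕ) : ℕ := (K.filter fun y => (row x).testBit y).length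

/-- A step of the refinement program. -/
def stepMask (masks : List (List ℕ)) (op : ℕ × ℕ × ℕ × ℕ) : List ℕ :=
  match op.1 with
  | 0 => List.range 275
  | 1 => [basePts.getD op.2.1 0]
  | 2 => (masks.getD op.2.1 []).filter fun x => !((masks.getD op.2.2.1 []).contains x)
  | _ => (masks.getD op.2.2.1 []).filter fun x => cnt (masks.getD op.2.1 []) x == op.2.2.2

/-- A mask of the program. -/
def mask (k : ℕ) : List ℕ := (progL.getD k ((0, 0, 0, 0), 0, [])).2.2

/-- The level of a mask. -/
def level (k : ℕ) : ℕ := (progL.getD k ((0, 0, 0, 0), 0, [])).2.1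

/-- The refinement program. -/
def progChk : Bool :=
  (List.range progL.length).all fun k =>
    let p := progL.getD k ((0, 0, 0, 0), 0, [])
    (stepMask ((progL.take k).map fun q => q.2.2) p.1 == p.2.2) && decide (p.2.2.Nodup) &&
      p.2.2.all (fun x => decide (x < 275)) &&
      match p.1.1 with
      | 0 => true
      | 1 => decide (p.1.2.1 < p.2.1) && decide (p.1.2.1 < 8)
      | _ => decide (p.1.2.1 < k) && decide (p.1.2.2.1 < k) && decide (level p.1.2.1 ≤ p.2.1) &&
          decide (level p.1.2.2.1 ≤ p.2.1)

/-- The signature of a vertex. -/
def sigOf (x : ℕ) : ℕ :=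
  sepPts.foldr (fun q r => 4 * r + (bif x == q.1 then 2 else 0) + (bif (row q.1).testBit x then 1 else 0)) 0

/-- The cells of the base. -/
def cellChk : Bool :=
  ((List.range 8).all fun i => (mask (baseCells.getD i 0)).contains (basePts.getD i 0) &&
    decide (level (baseCells.getD i 0) ≤ i) && decide (baseCells.getD i 0 < progL.length)) &&
    ((baseCells.map fun k => (mask k).length).prod == 2 * 898128000) && (baseCells.length == 8) &&
    sepPts.all (fun q => (mask q.2 == [q.1]) && decide (level q.2 ≤ 8) && decide (q.2 < progL.length)) &&
    (((List.range 275).map sigOf).dedup.length == 275)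

/-- Signature-free facts about the orbits of the normal subgroup. -/
def orbitsChk : Bool :=
  treeChk [[0], [1], [2], [3]] (aSet.getD 0 0) orbA &&
    treeChk [[0], [1], [2], [3]] ((treePts orbB).getD 0 0) orbB &&
    treeChk [[0], [1], [2], [3]] ((treePts orbC).getD 0 0) orbC &&
    treeChk gens8 ((treePts orbFar).getD 0 0) orbFar &&
    ((List.range 275).map fun x => x).all (fun x =>
      (x == 0) || (x == 6) || (treePts orbA).contains x || (treePts orbB).contains x ||
        (treePts orbC).contains x || linesL.any fun l => l.contains x) &&
    (List.range 4).all (fun k => (app (pp k) 0 == 0) && (app (pp k) 6 == 6)) &&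
    (app (pp 4) 0 == 0) &&
    ((List.range 275).all fun x => (near.contains x == (row 0).testBit x) &&
      ((treePts orbFar).contains x == ((x != 0) && !((row 0).testBit x))))

/-- Compare a row with the inner products. -/
def rowGo (A S r : ℕ) : List ℕ → List ℕ → ℕ → Bool
  | b :: R, t :: T, j =>
    (r.testBit j == (((A * b) >>> 368) % 65536 + 1536 == 8 + 8 * (S + t))) && rowGo A S r R T (j + 1)
  | [], [], j => j == 275
  | _, _, _ => false

/-- The row of a vertex from the wide packings. -/
def rowChk (i : ℕ) : Bool :=
  rowGo (wideA.getD i 0) (sumsL.getD i 0) (row i) wideR sumsL 0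

end Cfsg.Agent.FGS3.McLOut
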