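/-
Checks of the stabiliser chain and of the closures.
-/
import Cfsg.Agent.FGS3.McLOutCheck

set_option autoImplicit false
set_option maxRecDepth 100000

namespace Cfsg.Agent.FGS3.McLOut

theorem chain_ok : chainChk = true := by decide +kernel

theorem chain_lengths : (List.range 4).map (fun k => (treePts (lev k).2.2).dedup.length) = [112, 81, 45, 8] ∧
    (lev 0).1 = 6 := by decide +kernel

theorem orbit_lengths : (treePts orbA).dedup.length = 81 ∧ (treePts orbB).dedup.length = 81 ∧
    (treePts orbC).dedup.length = 81 ∧ linesL.length = 10 := by decide +kernel

theorem trans_ok : transChk = true := by decide +kernel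

theorem full_ok : fullChk = true := by decide +kernel

theorem pair_ok : pairChk = true := by decide +kernel

theorem line_ok : lineChk = true := by decide +kernel

theorem comm_ok : commChk = true := by decide +kernel

theorem mem_ok : memChk = true := by decide +kernel

theorem nearSplit_ok : nearSplit = true := by decide +kernel

theorem distinct_ok : wideDistinct = true := by decide +kernel

end Cfsg.Agent.FGS3.McLOut
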