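/-
Checks of the refinement program and of the orbits.
-/
import Cfsg.Agent.FGS3.McLOutCheck

set_option autoImplicit false
set_option maxRecDepth 100000

namespace Cfsg.Agent.FGS3.McLOut

theorem orbits_ok : orbitsChk = true := by decide +kernel

theorem conj_ok : conjChk = true := by decide +kernel

theorem prog_ok : progChk = true := by decide +kernel

theorem cell_ok : cellChk = true := by decide +kernel

theorem wide_ok : ((List.range 275).all fun i => (wideA.getD i 0 == wideOf i) && (wideR.getD i 0 == revOf i) && (sumsL.getD i 0 == nsum i)) = true := by
  decide +kernel

end Cfsg.Agent.FGS3.McLOut
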