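/-
The rows agree with the inner products of the vectors.
-/
import Cfsg.Agent.FGS3.McLOutCheck

set_option autoImplicit false
set_option maxRecDepth 100000

namespace Cfsg.Agent.FGS3.McLOut

theorem rows0 : ((List.range 55).all fun i => rowChk (55 * 0 + i)) = true := by decide +kernel

theorem rows1 : ((List.range 55).all fun i => rowChk (55 * 1 + i)) = true := by decide +kernel

theorem rows2 : ((List.range 55).all fun i => rowChk (55 * 2 + i)) = true := by decide +kernel

theorem rows3 : ((List.range 55).all fun i => rowChk (55 * 3 + i)) = true := by decide +kernel

theorem rows4 : ((List.range 55).all fun i => rowChk (55 * 4 + i)) = true := by decide +kernel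

end Cfsg.Agent.FGS3.McLOut
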