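/-
The packed vectors lie in the McLaughlin configuration.
-/
import Cfsg.Agent.FGS3.McLOutCheck
import Cfsg.Agent.Golay.LeechMcL

set_option autoImplicit false
set_option maxRecDepth 100000

namespace Cfsg.Agent.FGS3.McLOut

open Cfsg Cfsg.Agent.Golay

/-- A packed vector lies in the configuration. -/
def vecChk (i : ℕ) : Bool :=
  let x := numVec (vpk i)
  leechTest x && decide (sqNorm x = 32 ∧ ∑ p, x p = 24 - 4 * x none ∧ x (pt 0) = 4 - x none)

theorem test_ok : ((List.range 275).all vecChk) = true := by decide +kernel

end Cfsg.Agent.FGS3.McLOut
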