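/-
The McLaughlin group as a group of automorphisms of the graph on 275 lattice vectors.
-/
import Cfsg.Agent.Golay.LeechMcL
import Cfsg.Agent.Golay.LeechStabSimple
import Cfsg.Prelude.Def_Spor_Conway
import Cfsg.Agent.FGS3.McLOutDigits
import Cfsg.Agent.FGS3.McLOutOkA
import Cfsg.Agent.FGS3.McLOutOkD
import Cfsg.Agent.FGS3.McLOutOkC
import Cfsg.Agent.FGS3.McLOutOkE

set_option autoImplicit false
set_option maxRecDepth 20000

namespace Cfsg.Agent.FGS3.McLOut

open Cfsg Cfsg.Agent.Golay
open scoped Pointwise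

/-- The vertices. -/
abbrev Pt : Type := Fin 275

/-- The vector of a vertex. -/
def vec (i : Pt) : GolayPt → ℤ := numVec (vpk i)

/-- Adjacency. -/
def adjB (i j : Pt) : Bool := (row i).testBit j

theorem wide_facts (i : Pt) : wideA.getD i 0 = wideOf i ∧ wideR.getD i 0 = revOf i ∧ sumsL.getD i 0 = nsum i := by
  have h := List.all_eq_true.1 wide_ok (i : ℕ) (List.mem_range.2 i.2)
  simp only [Bool.and_eq_true, beq_iff_eq] at h
  exact ⟨h.1.1, h.1.2, h.2⟩

theorem rowGo_spec (A S r : ℕ) : ∀ (R T : List ℕ) (j : ℕ), rowGo A S r R T j = true → ∀ k < R.length,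
    r.testBit (j + k) = (((A * R.getD k 0) >>> 368) % 65536 + 1536 == 8 + 8 * (S + T.getD k 0)) := by
  intro R
  induction R with
  | nil => intro T j _ k hk; exact absurd hk (Nat.not_lt_zero k)
  | cons b R ih =>
    intro T j h k hk
    cases T with
    | nil => simp [rowGo] at h
    | cons t T =>
      simp only [rowGo, Bool.and_eq_true, beq_iff_eq] at h
      cases k with
      | zero =>
        simp only [List.getD_cons_zero, Nat.add_zero]
        exact h.1
      | succ k =>
        simp only [List.getD_cons_succ]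
        rw [show j + (k + 1) = j + 1 + k by omega]
        exact ih T (j + 1) h.2 k (by simpa using hk)

theorem rowChk_all (i : Pt) : rowChk i = true := by
  have h : ∀ c : ℕ, ((List.range 55).all fun m => rowChk (55 * c + m)) = true → ∀ m < 55, rowChk (55 * c + m) = true :=
    fun c hc m hm => List.all_eq_true.1 hc m (List.mem_range.2 hm)
  have hi := i.2
  have e : (i : ℕ) = 55 * ((i : ℕ) / 55) + (i : ℕ) % 55 := (Nat.div_add_mod _ _).symm
  have hm : (i : ℕ) % 55 < 55 := Nat.mod_lt _ (by norm_num)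
  rw [e]
  rcases (show (i : ℕ) / 55 = 0 ∨ (i : ℕ) / 55 = 1 ∨ (i : ℕ) / 55 = 2 ∨ (i : ℕ) / 55 = 3 ∨ (i : ℕ) / 55 = 4 by
    omega) with q | q | q | q | q <;> rw [q]
  exacts [h 0 rows0 _ hm, h 1 rows1 _ hm, h 2 rows2 _ hm, h 3 rows3 _ hm, h 4 rows4 _ hm]

theorem sum_golay {M : Type*} [AddCommMonoid M] (f : ℕ → M) :
    ∑ p : GolayPt, f (idx p) = ∑ k ∈ Finset.range 24, f k :=
  Finset.sum_bij (fun p _ => idx p) (fun p _ => Finset.mem_range.2 (idx_lt p))
    (fun _ _ _ _ h => idx_injective h)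
    (fun k hk => ⟨pt k, Finset.mem_univ _, idx_pt (Finset.mem_range.1 hk)⟩) (fun _ _ => rfl)

theorem list_sum_range {M : Type*} [AddCommMonoid M] (f : ℕ → M) (n : ℕ) :
    ((List.range n).map f).sum = ∑ k ∈ Finset.range n, f k := rfl

theorem dot_vec (i j : Pt) : dotInt (vec i) (vec j) =
    ((∑ k ∈ Finset.range 24, nib i k * nib j k : ℕ) : ℤ) - 8 * (nsum i : ℤ) - 8 * (nsum j : ℤ) + 1536 := by
  have e : dotInt (vec i) (vec j) = ∑ k ∈ Finset.range 24, ((nib i k : ℤ) - 8) * ((nib j k : ℤ) - 8) := by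
    rw [← sum_golay fun k => ((nib i k : ℤ) - 8) * ((nib j k : ℤ) - 8)]
    rfl
  rw [e, nsum, nsum, list_sum_range, list_sum_range]
  push_cast
  simp only [sub_mul, mul_sub, Finset.sum_sub_distrib, ← Finset.mul_sum, ← Finset.sum_mul, Finset.sum_const,
    Finset.card_range, nsmul_eq_mul]
  push_cast
  ring

theorem adj_iff (i j : Pt) : adjB i j = true ↔ dotInt (vec i) (vec j) = 8 := by
  have h := rowGo_spec _ _ _ wideR sumsL 0 (rowChk_all i) (j : ℕ) (by
    rw [show wideR.length = 275 from by decide +kernel]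
    exact j.2)
  rw [Nat.zero_add, (wide_facts i).1, (wide_facts i).2.2, (wide_facts j).2.1, (wide_facts j).2.2] at h
  rw [show wideOf i = ∑ k ∈ Finset.range 24, nib i k <<< (16 * k) from list_sum_range _ _,
    show revOf j = ∑ k ∈ Finset.range 24, nib j k <<< (16 * (23 - k)) from list_sum_range _ _,
    digit23 (nib i) (nib j) (fun _ => Nat.and_le_right) (fun _ => Nat.and_le_right)] at h
  rw [adjB, h, beq_iff_eq, dot_vec]
  constructor <;> intro e <;> omega

theorem vec_injective : Function.Injective vec := by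
  intro i j h
  have hn : ∀ k < 24, nib i k = nib j k := by
    intro k hk
    have := congrFun h (pt k)
    simp only [vec, numVec, idx_pt hk, sub_left_inj, Nat.cast_inj] at this
    exact this
  have hw : wideA.getD i 0 = wideA.getD j 0 := by
    rw [(wide_facts i).1, (wide_facts j).1, wideOf, wideOf]
    exact congrArg List.sum (List.map_congr_left fun k hk => by rw [hn k (List.mem_range.1 hk)])
  have hlen : wideA.length = 275 := by decide +kernel
  have hd := distinct_ok
  rw [wideDistinct, List.take_of_length_le hlen.le, beq_iff_eq] at hd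
  have hnd : wideA.Nodup := by
    rw [← List.dedup_eq_self]
    exact (List.dedup_sublist _).eq_of_length (by rw [hd, hlen])
  have hi : (i : ℕ) < wideA.length := by rw [hlen]; exact i.2
  have hj : (j : ℕ) < wideA.length := by rw [hlen]; exact j.2
  rw [List.getD_eq_getElem _ _ hi, List.getD_eq_getElem _ _ hj, hnd.getElem_inj_iff] at hw
  exact Fin.ext hw

/-- The vertex as a lattice vector. -/
def vtx (i : Pt) : ↥leechLattice := ⟨vec i, leechTest_sound (by
  have h := List.all_eq_true.1 test_ok (i : ℕ) (List.mem_range.2 i.2)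
  rw [vecChk, Bool.and_eq_true] at h
  exact h.1)⟩

theorem vtx_mem (i : Pt) : vtx i ∈ mclSet hsV hsX := by
  have h := List.all_eq_true.1 test_ok (i : ℕ) (List.mem_range.2 i.2)
  rw [vecChk, Bool.and_eq_true, decide_eq_true_eq] at h
  exact (mcl_mem_iff (vtx i)).2 h.2

theorem vtx_bijective : Function.Bijective fun i : Pt => (⟨vtx i, vtx_mem i⟩ : ↥(mclSet hsV hsX)) := by
  haveI : Finite ↥(mclSet hsV hsX) := (Set.finite_of_ncard_ne_zero (by rw [mcl_total]; norm_num)).to_subtype
  refine (Nat.bijective_iff_injective_and_card _).2 ⟨fun i j h => vec_injective ?_, ?_⟩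
  · exact congrArg Subtype.val (congrArg Subtype.val h)
  · rw [Nat.card_fin, Nat.card_coe_set_eq, mcl_total]

/-- The vertices are the configuration. -/
noncomputable def ePt : Pt ≃ ↥(mclSet hsV hsX) := Equiv.ofBijective _ vtx_bijective

theorem ePt_val (i : Pt) : (ePt i).1 = vtx i := rfl

/-- The automorphisms fixing the pair. -/
abbrev MP : Subgroup ↥Co0 := MulAction.stabilizer ↥Co0 hsV ⊓ MulAction.stabilizer ↥Co0 hsX

theorem mem_MP {g : ↥Co0} : g ∈ MP ↔ g • hsV = hsV ∧ g • hsX = hsX := Iff.rfl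

theorem MP_set {g : ↥Co0} (hg : g ∈ MP) {x : ↥leechLattice} (hx : x ∈ mclSet hsV hsX) :
    g • x ∈ mclSet hsV hsX :=
  (mclSet_transport (mem_MP.1 hg).1 (mem_MP.1 hg).2 x).1 hx

/-- The action on the vertices. -/
noncomputable def rho : MP →* Equiv.Perm Pt where
  toFun g :=
    { toFun := fun i => ePt.symm ⟨(g : ↥Co0) • (ePt i).1, MP_set g.2 (ePt i).2⟩
      invFun := fun i => ePt.symm ⟨(g : ↥Co0)⁻¹ • (ePt i).1, MP_set (inv_mem g.2) (ePt i).2⟩
      left_inv := fun i => by simp
      right_inv := fun i => by simp }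
  map_one' := Equiv.ext fun i => by
    apply ePt.injective
    apply Subtype.ext
    simp
  map_mul' g h := Equiv.ext fun i => by
    apply ePt.injective
    apply Subtype.ext
    simp [mul_smul]

theorem rho_vtx (g : MP) (i : Pt) : vtx (rho g i) = (g : ↥Co0) • vtx i := by
  rw [← ePt_val, ← ePt_val]
  exact congrArg Subtype.val (ePt.apply_symm_apply _)

theorem leechV_eq : (Spor.leechV : ↥leechLattice) = -hsV := by decide +kernel

theorem leechU_eq : (Spor.leechU : ↥leechLattice) = hsX := by decide +kernel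

theorem mem_MP_iff (g : ↥Co0) : g ∈ MP ↔ (g : Equiv.Perm ↥leechLattice) ∈ Spor.McL := by
  rw [mem_MP]
  constructor
  · rintro ⟨h1, h2⟩
    refine ⟨⟨g.2, ?_⟩, ?_⟩
    · show g • Spor.leechV = Spor.leechV
      rw [leechV_eq, co0_neg', h1]
    · show g • Spor.leechU = Spor.leechU
      rw [leechU_eq, h2]
  · rintro ⟨⟨-, h1⟩, h2⟩
    have h1' : g • Spor.leechV = Spor.leechV := h1
    have h2' : g • Spor.leechU = Spor.leechU := h2
    rw [leechV_eq, co0_neg', neg_inj] at h1'
    rw [leechU_eq] at h2'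
    exact ⟨h1', h2'⟩

/-- The pair stabiliser is the McLaughlin group. -/
noncomputable def mpEquiv : ↥MP ≃* ↥Spor.McL where
  toFun h := ⟨h.1.1, (mem_MP_iff h.1).1 h.2⟩
  invFun x := ⟨⟨x.1, x.2.1.1⟩, (mem_MP_iff _).2 x.2⟩
  left_inv _ := rfl
  right_inv _ := rfl
  map_mul' _ _ := rfl

theorem vtx_zero : vtx 0 = mclX := Subtype.ext mcl_lengths.2.2.2.symm

theorem rho_transitive (i : Pt) : ∃ g : MP, rho g 0 = i := by
  obtain ⟨g, g1, g2, g3⟩ := mcl_orbit (vtx i) (vtx_mem i)
  refine ⟨⟨g, mem_MP.2 ⟨g1, g2⟩⟩, ?_⟩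
  apply vtx_bijective.1
  apply Subtype.ext
  show vtx (rho ⟨g, _⟩ 0) = vtx i
  rw [rho_vtx, vtx_zero]
  exact g3

/-- The automorphism group of the graph. -/
def AutG : Subgroup (Equiv.Perm Pt) where
  carrier := {σ | ∀ i j, adjB (σ i) (σ j) = adjB i j}
  one_mem' _ _ := rfl
  mul_mem' {a b} ha hb i j := by
    show adjB (a (b i)) (a (b j)) = adjB i j
    rw [ha, hb]
  inv_mem' {a} ha i j := by
    have := ha (a⁻¹ i) (a⁻¹ j)
    rw [Equiv.Perm.coe_inv, Equiv.apply_symm_apply, Equiv.apply_symm_apply] at this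
    exact this.symm

theorem mem_AutG {σ : Equiv.Perm Pt} : σ ∈ AutG ↔ ∀ i j, adjB (σ i) (σ j) = adjB i j := Iff.rfl

/-- The McLaughlin group on the vertices. -/
noncomputable def GG : Subgroup (Equiv.Perm Pt) := rho.range

theorem GG_le : GG ≤ AutG := by
  rintro _ ⟨g, rfl⟩
  rw [mem_AutG]
  intro i j
  rw [Bool.eq_iff_iff, adj_iff, adj_iff]
  show dotInt ((vtx (rho g i) : ↥leechLattice) : GolayPt → ℤ) (vtx (rho g j) : ↥leechLattice) = 8 ↔ _
  rw [rho_vtx, rho_vtx, co0_dot]
  rfl

end Cfsg.Agent.FGS3.McLOut
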