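/-
The automorphism group of the McLaughlin graph has order at most twice the order of McL.
-/
import Cfsg.Agent.FGS3.McLOutGraph
import Mathlib.GroupTheory.GroupAction.Quotient

set_option autoImplicit false
set_option maxRecDepth 20000

namespace Cfsg.Agent.FGS3.McLOut

open Cfsg Cfsg.Agent.Golay

/-- The base vertex of a level. -/
def bpt (i : ℕ) : Pt := Fin.ofNat 275 (basePts.getD i 0)

theorem bpt_val : ∀ i < 8, (bpt i : ℕ) = basePts.getD i 0 := by decide +kernel

/-- Automorphisms fixing the first base points. -/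
def Fix : ℕ → Subgroup (Equiv.Perm Pt)
  | 0 => AutG
  | n + 1 => Fix n ⊓ MulAction.stabilizer (Equiv.Perm Pt) (bpt n)

theorem Fix_le : ∀ n, Fix n ≤ AutG
  | 0 => le_rfl
  | n + 1 => inf_le_left.trans (Fix_le n)

theorem Fix_mono {m n : ℕ} (h : m ≤ n) : Fix n ≤ Fix m := by
  induction n, h using Nat.le_induction with
  | base => exact le_rfl
  | succ n _ ih => exact inf_le_left.trans ih

theorem Fix_fixes {n m : ℕ} (h : m < n) {σ : Equiv.Perm Pt} (hσ : σ ∈ Fix n) : σ (bpt m) = bpt m :=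
  MulAction.mem_stabilizer_iff.1 (Subgroup.mem_inf.1 (Fix_mono h hσ : σ ∈ Fix (m + 1))).2

/-- The entry of the program. -/
theorem prog_facts {k : ℕ} (hk : k < progL.length) :
    stepMask ((progL.take k).map fun q => q.2.2) (progL.getD k ((0, 0, 0, 0), 0, [])).1 = mask k ∧
      (mask k).Nodup ∧ (∀ x ∈ mask k, x < 275) ∧
      (match (progL.getD k ((0, 0, 0, 0), 0, [])).1.1 with
        | 0 => true
        | 1 => decide ((progL.getD k ((0, 0, 0, 0), 0, [])).1.2.1 < level k) &&
            decide ((progL.getD k ((0, 0, 0, 0), 0, [])).1.2.1 < 8)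
        | _ => decide ((progL.getD k ((0, 0, 0, 0), 0, [])).1.2.1 < k) &&
            decide ((progL.getD k ((0, 0, 0, 0), 0, [])).1.2.2.1 < k) &&
            decide (level (progL.getD k ((0, 0, 0, 0), 0, [])).1.2.1 ≤ level k) &&
            decide (level (progL.getD k ((0, 0, 0, 0), 0, [])).1.2.2.1 ≤ level k)) = true := by
  have h := List.all_eq_true.1 prog_ok k (List.mem_range.2 hk)
  simp only [Bool.and_eq_true, beq_iff_eq, List.all_eq_true, decide_eq_true_eq] at h
  exact ⟨h.1.1.1, h.1.1.2, h.1.2, h.2⟩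

theorem take_getD {k j : ℕ} (hj : j < k) : ((progL.take k).map fun q => q.2.2).getD j [] = mask j := by
  rw [mask, List.getD_eq_getElem?_getD, List.getElem?_map, List.getElem?_take_of_lt hj,
    List.getD_eq_getElem?_getD]
  cases progL[j]? <;> rfl

theorem cnt_apply {σ : Equiv.Perm Pt} (hσ : σ ∈ AutG) {K : List ℕ} (hnd : K.Nodup) (hlt : ∀ x ∈ K, x < 275)
    (hK : ∀ y : Pt, ((σ y : ℕ) ∈ K ↔ (y : ℕ) ∈ K)) (x : Pt) : cnt K (σ x : ℕ) = cnt K (x : ℕ) := by
  classical
  have key : ∀ z : Pt, cnt K (z : ℕ) = (Finset.univ.filter fun y : Pt => (y : ℕ) ∈ K ∧ adjB z y = true).card := by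
    intro z
    rw [cnt, ← List.toFinset_card_of_nodup (hnd.filter _)]
    refine (Finset.card_bij (fun (y : Pt) _ => (y : ℕ)) (fun y hy => ?_) (fun a _ b _ e => Fin.ext e) fun v hv => ?_).symm
    · rw [Finset.mem_filter] at hy
      exact List.mem_toFinset.2 (List.mem_filter.2 hy.2)
    · rw [List.mem_toFinset, List.mem_filter] at hv
      exact ⟨⟨v, hlt v hv.1⟩, Finset.mem_filter.2 ⟨Finset.mem_univ _, hv⟩, rfl⟩
  rw [key, key]
  refine (Finset.card_bij (fun y _ => σ y) (fun y hy => ?_) (fun a _ b _ e => σ.injective e) fun v hv => ?_).symm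
  · rw [Finset.mem_filter] at hy ⊢
    exact ⟨Finset.mem_univ _, (hK y).2 hy.2.1, (mem_AutG.1 hσ x y).trans hy.2.2⟩
  · obtain ⟨y, rfl⟩ := σ.surjective v
    rw [Finset.mem_filter] at hv
    exact ⟨y, Finset.mem_filter.2 ⟨Finset.mem_univ _, (hK y).1 hv.2.1, (mem_AutG.1 hσ x y).symm.trans hv.2.2⟩,
      rfl⟩

theorem mask_inv : ∀ k < progL.length, ∀ σ ∈ Fix (level k), ∀ x : Pt,
    ((σ x : ℕ) ∈ mask k ↔ (x : ℕ) ∈ mask k) := by
  intro k
  induction k using Nat.strong_induction_on with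
  | _ k ih =>
    intro hk σ hσ x
    obtain ⟨h1, -, -, h4⟩ := prog_facts hk
    generalize (progL.getD k ((0, 0, 0, 0), 0, [])).1 = op at h1 h4
    obtain ⟨t, p, q, c⟩ := op
    match t with
    | 0 =>
      simp only [stepMask] at h1
      rw [← h1, List.mem_range, List.mem_range]
      exact iff_of_true (σ x).2 x.2
    | 1 =>
      simp only [Bool.and_eq_true, decide_eq_true_eq] at h4
      simp only [stepMask] at h1
      rw [← h1, List.mem_singleton, List.mem_singleton, ← bpt_val p h4.2, ← Fin.ext_iff, ← Fin.ext_iff]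
      conv_lhs => rw [← Fix_fixes h4.1 hσ, σ.injective.eq_iff]
    | 2 =>
      simp only [Bool.and_eq_true, decide_eq_true_eq] at h4
      obtain ⟨⟨⟨hp, hq⟩, lp⟩, lq⟩ := h4
      simp only [stepMask, take_getD hp, take_getD hq] at h1
      rw [← h1]
      simp only [List.mem_filter, Bool.not_eq_true', List.contains_eq_mem, decide_eq_false_iff_not,
        ih p hp (hp.trans hk) σ (Fix_mono lp hσ) x, ih q hq (hq.trans hk) σ (Fix_mono lq hσ) x]
    | t + 3 =>
      simp only [Bool.and_eq_true, decide_eq_true_eq] at h4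
      obtain ⟨⟨⟨hp, hq⟩, lp⟩, lq⟩ := h4
      simp only [stepMask, take_getD hp, take_getD hq] at h1
      rw [← h1]
      simp only [List.mem_filter, ih q hq (hq.trans hk) σ (Fix_mono lq hσ) x,
        cnt_apply (Fix_le _ hσ) (prog_facts (hp.trans hk)).2.1 (prog_facts (hp.trans hk)).2.2.1
          (fun y => ih p hp (hp.trans hk) σ (Fix_mono lp hσ) y) x]

theorem cell_facts : (∀ i < 8, basePts.getD i 0 ∈ mask (baseCells.getD i 0) ∧ level (baseCells.getD i 0) ≤ i ∧
      baseCells.getD i 0 < progL.length) ∧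
    (baseCells.map fun k => (mask k).length).prod = 2 * 898128000 ∧ baseCells.length = 8 ∧
    (∀ q ∈ sepPts, mask q.2 = [q.1] ∧ level q.2 ≤ 8 ∧ q.2 < progL.length) ∧
    ((List.range 275).map sigOf).dedup.length = 275 := by
  have h := cell_ok
  simp only [cellChk, Bool.and_eq_true, beq_iff_eq, List.all_eq_true, List.mem_range, decide_eq_true_eq,
    List.contains_eq_mem] at h
  obtain ⟨⟨⟨⟨h1, h2⟩, h3⟩, h4⟩, h5⟩ := h
  exact ⟨fun i hi => ⟨(h1 i hi).1.1, (h1 i hi).1.2, (h1 i hi).2⟩, h2, h3,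
    fun q hq => ⟨(h4 q hq).1.1, (h4 q hq).1.2, (h4 q hq).2⟩, h5⟩

theorem fix_step (i : ℕ) (hi : i < 8) :
    Nat.card (Fix i) ≤ (mask (baseCells.getD i 0)).length * Nat.card (Fix (i + 1)) := by
  classical
  obtain ⟨hb, hl, hk⟩ := cell_facts.1 i hi
  obtain ⟨-, hnd, -, -⟩ := prog_facts hk
  haveI : Finite (Fix i) := inferInstance
  have h1 : Nat.card (MulAction.orbit (Fix i) (bpt i)) * Nat.card (MulAction.stabilizer (Fix i) (bpt i)) =
      Nat.card (Fix i) := by
    rw [Nat.card_congr (MulAction.orbitEquivQuotientStabilizer _ _), ← Subgroup.index,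
      Subgroup.index_mul_card]
  have h2 : Nat.card (MulAction.orbit (Fix i) (bpt i)) ≤ (mask (baseCells.getD i 0)).length := by
    rw [Nat.card_coe_set_eq, ← List.toFinset_card_of_nodup hnd, ← Set.ncard_image_of_injective _ Fin.val_injective,
      ← Set.ncard_coe_finset]
    refine Set.ncard_le_ncard ?_ (Finset.finite_toSet _)
    rintro _ ⟨_, ⟨σ, rfl⟩, rfl⟩
    rw [Finset.mem_coe, List.mem_toFinset]
    refine (mask_inv _ hk σ.1 (Fix_mono hl σ.2) (bpt i)).2 ?_
    rw [bpt_val i hi]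
    exact hb
  have h3 : Nat.card (MulAction.stabilizer (Fix i) (bpt i)) ≤ Nat.card (Fix (i + 1)) :=
    Nat.card_le_card_of_injective
      (fun s => (⟨s.1.1, Subgroup.mem_inf.2 ⟨s.1.2, MulAction.mem_stabilizer_iff.2
        (MulAction.mem_stabilizer_iff.1 s.2)⟩⟩ : Fix (i + 1)))
      fun a b e => Subtype.ext (Subtype.ext (congrArg (fun z : Fix (i + 1) => z.1) e))
  rw [← h1]
  exact Nat.mul_le_mul h2 h3

theorem fix_eight : Fix 8 = ⊥ := by
  rw [Subgroup.eq_bot_iff_forall]
  intro σ hσ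
  obtain ⟨-, -, -, hs, hd⟩ := cell_facts
  have hfix : ∀ q ∈ sepPts, ∀ x : Pt, ((σ x : ℕ) = q.1 ↔ (x : ℕ) = q.1) := by
    intro q hq x
    obtain ⟨e, hl, hk⟩ := hs q hq
    have := mask_inv q.2 hk σ (Fix_mono hl hσ) x
    rwa [e, List.mem_singleton, List.mem_singleton] at this
  have hlt : ∀ q ∈ sepPts, q.1 < 275 := fun q hq =>
    (prog_facts (hs q hq).2.2).2.2.1 q.1 (by rw [(hs q hq).1]; exact List.mem_singleton_self _)
  refine Equiv.ext fun x => ?_
  have e : sigOf (σ x : ℕ) = sigOf (x : ℕ) := by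
    unfold sigOf
    apply List.foldr_ext
    intro q hq r
    have e1 : ((σ x : ℕ) == q.1) = ((x : ℕ) == q.1) := by
      rw [Bool.eq_iff_iff, beq_iff_eq, beq_iff_eq]
      exact hfix q hq x
    have hq' : σ ⟨q.1, hlt q hq⟩ = ⟨q.1, hlt q hq⟩ := Fin.ext ((hfix q hq ⟨q.1, hlt q hq⟩).2 rfl)
    have e2 : adjB ⟨q.1, hlt q hq⟩ (σ x) = adjB ⟨q.1, hlt q hq⟩ x := by
      conv_lhs => rw [← hq']
      exact mem_AutG.1 (Fix_le _ hσ) _ _
    unfold adjB at e2
    rw [e1, e2]
  have hnd : ((List.range 275).map sigOf).Nodup := by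
    rw [← List.dedup_eq_self]
    exact (List.dedup_sublist _).eq_of_length (by rw [hd, List.length_map, List.length_range])
  exact Fin.ext (List.inj_on_of_nodup_map hnd (List.mem_range.2 (σ x).2) (List.mem_range.2 x.2) e)

theorem autG_card_le : Nat.card AutG ≤ 2 * 898128000 := by
  obtain ⟨-, hp, -, -, -⟩ := cell_facts
  have h8 : Nat.card (Fix 8) = 1 := by rw [fix_eight, Subgroup.card_bot]
  rw [← hp]
  have hl : baseCells = (List.range 8).map fun i => baseCells.getD i 0 := by decide +kernel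
  rw [hl, List.map_map]
  have : ∀ n ≤ 8, Nat.card AutG ≤
      ((List.range n).map ((fun k => (mask k).length) ∘ fun i => baseCells.getD i 0)).prod * Nat.card (Fix n) := by
    intro n hn
    induction n with
    | zero => rw [List.range_zero, List.map_nil, List.prod_nil, Nat.one_mul]; exact le_rfl
    | succ n ih =>
      rw [List.range_succ, List.map_append, List.prod_append]
      simp only [List.map_cons, List.map_nil, List.prod_cons, List.prod_nil, Nat.mul_one, Function.comp_apply]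
      rw [Nat.mul_assoc]
      exact (ih (by omega)).trans (Nat.mul_le_mul_left _ (fix_step n (by omega)))
  have := this 8 le_rfl
  rwa [h8, Nat.mul_one] at this

end Cfsg.Agent.FGS3.McLOut
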