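/-
Checks of the automorphisms of the graph.
-/
import Cfsg.Agent.FGS3.McLOutCheck

set_option autoImplicit false
set_option maxRecDepth 100000

namespace Cfsg.Agent.FGS3.McLOut

theorem perm0_ok : autOK (pp 0) = true := by decide +kernel

theorem perm1_ok : autOK (pp 1) = true := by decide +kernel

theorem perm2_ok : autOK (pp 2) = true := by decide +kernel

theorem perm3_ok : autOK (pp 3) = true := by decide +kernel

theorem perm4_ok : autOK (pp 4) = true := by decide +kernel

theorem outer_ok : autAny outerP = true := by decide +kernel

end Cfsg.Agent.FGS3.McLOut
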