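/-
The McLaughlin group has index two in the automorphism group of the graph.
-/
import Cfsg.Agent.FGS3.McLOutBound
import Cfsg.Agent.FGS3.McLOutOkB

set_option autoImplicit false
set_option maxRecDepth 20000

namespace Cfsg.Agent.FGS3.McLOut

open Cfsg Cfsg.Agent.Golay

theorem mp_simple : IsSimpleGroup ↥MP ∧ Nat.card ↥MP = 898128000 := by
  have e : hsV - hsX = (⟨peakVec (pt 0) (-3), tgt_facts.2.2.1⟩ : ↥leechLattice) := by decide +kernel
  have h : MP = MulAction.stabilizer ↥Co0 (⟨uVec, uVec_mem⟩ : ↥leechLattice) ⊓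
      MulAction.stabilizer ↥Co0 (⟨peakVec (pt 0) (-3), tgt_facts.2.2.1⟩ : ↥leechLattice) := by
    ext g
    rw [mem_MP, ← e, Subgroup.mem_inf, MulAction.mem_stabilizer_iff, MulAction.mem_stabilizer_iff,
      show (⟨uVec, uVec_mem⟩ : ↥leechLattice) = hsX from rfl, sub_eq_add_neg, co0_add, co0_neg']
    constructor
    · rintro ⟨h1, h2⟩
      exact ⟨h2, by rw [h1, h2]⟩
    · rintro ⟨h2, h1⟩
      rw [h2, add_left_inj] at h1
      exact ⟨h1, h2⟩
  rw [h]
  exact mcl_simple

theorem rho_injective : Function.Injective rho := by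
  haveI := mp_simple.1
  rw [← MonoidHom.ker_eq_bot_iff]
  refine (IsSimpleGroup.eq_bot_or_eq_top_of_normal _ (MonoidHom.normal_ker _)).resolve_right fun h => ?_
  obtain ⟨g, hg⟩ := rho_transitive 1
  rw [MonoidHom.mem_ker.1 (h ▸ Subgroup.mem_top g)] at hg
  exact absurd hg (by decide)

theorem GG_card : Nat.card GG = 898128000 := by
  rw [GG, ← Nat.card_congr (MonoidHom.ofInjective rho_injective).toEquiv, mp_simple.2]

theorem GG_simple : IsSimpleGroup GG := by
  haveI := mp_simple.1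
  exact (MonoidHom.ofInjective rho_injective).symm.isSimpleGroup

/-- A permutation from a packed one. -/
def pt' (p : ℕ) (i : Pt) : Pt := Fin.ofNat 275 (app p i)

/-- A packed permutation. -/
noncomputable def permOfP (p : ℕ) (h : Function.Bijective (pt' p)) : Equiv.Perm Pt := Equiv.ofBijective _ h

theorem adj_preserved {σ : Equiv.Perm Pt} (h : ∀ i j, adjB i j = true → adjB (σ i) (σ j) = true) : σ ∈ AutG := by
  have hp : ∀ n : ℕ, ∀ i j, adjB i j = true → adjB ((σ ^ n) i) ((σ ^ n) j) = true := by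
    intro n
    induction n with
    | zero => exact fun i j e => e
    | succ n ih =>
      intro i j e
      rw [pow_succ', Equiv.Perm.mul_apply, Equiv.Perm.mul_apply]
      exact h _ _ (ih i j e)
  rw [mem_AutG]
  intro i j
  rw [Bool.eq_iff_iff]
  refine ⟨fun e => ?_, h i j⟩
  have ho : σ ^ (orderOf σ - 1) * σ = 1 := by
    rw [← pow_succ, Nat.sub_add_cancel (orderOf_pos σ), pow_orderOf_eq_one]
  have := hp (orderOf σ - 1) _ _ e
  rwa [← Equiv.Perm.mul_apply, ← Equiv.Perm.mul_apply, ho] at this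

theorem autOK_spec {p : ℕ} (h : autOK p = true) : (∀ i : Pt, (pt' p i : ℕ) = app p i) ∧
    (∀ i : Pt, pt' p (pt' p (pt' p i)) = i) ∧ ∀ i j : Pt, adjB i j = true → adjB (pt' p i) (pt' p j) = true := by
  have hf : ∀ i : Pt, app p i < 275 ∧ app p (app p (app p i)) = (i : ℕ) ∧ ∀ j < 275,
      (bif (row i).testBit j then (row (app p i)).testBit (app p j) else true) = true := by
    intro i
    have := List.all_eq_true.1 h (i : ℕ) (List.mem_range.2 i.2)
    simp only [Bool.and_eq_true, decide_eq_true_eq, beq_iff_eq, List.all_eq_true, List.mem_range] at this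
    exact ⟨this.1.1, this.1.2, this.2⟩
  have hv : ∀ i : Pt, (pt' p i : ℕ) = app p i := fun i => Nat.mod_eq_of_lt (hf i).1
  refine ⟨hv, fun i => Fin.ext ?_, fun i j e => ?_⟩
  · rw [hv, hv, hv, (hf i).2.1]
  · have := (hf i).2.2 (j : ℕ) j.2
    rw [show (row i).testBit j = true from e, cond_true] at this
    unfold adjB
    rw [hv, hv]
    exact this

theorem pp_ok : ∀ k, k < 5 → autOK (pp k) = true := by
  intro k hk
  rcases (show k = 0 ∨ k = 1 ∨ k = 2 ∨ k = 3 ∨ k = 4 by omega) with e | e | e | e | e <;> rw [e]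
  exacts [perm0_ok, perm1_ok, perm2_ok, perm3_ok, perm4_ok]

/-- The generators as permutations. -/
def gp (k : ℕ) : Equiv.Perm Pt :=
  if h : k < 5 then
    { toFun := pt' (pp k)
      invFun := fun i => pt' (pp k) (pt' (pp k) i)
      left_inv := fun i => (autOK_spec (pp_ok k h)).2.1 i
      right_inv := fun i => (autOK_spec (pp_ok k h)).2.1 i }
  else 1

theorem gp_val {k : ℕ} (hk : k < 5) (i : Pt) : (gp k i : ℕ) = app (pp k) i := by
  rw [gp, dif_pos hk]
  exact (autOK_spec (pp_ok k hk)).1 i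

theorem gp_mem (k : ℕ) : gp k ∈ AutG := by
  unfold gp
  split
  · rename_i h
    exact adj_preserved fun i j e => (autOK_spec (pp_ok k h)).2.2 i j e
  · exact one_mem _

theorem gp_cube (k : ℕ) : gp k * gp k * gp k = 1 := by
  refine Equiv.ext fun i => ?_
  by_cases h : k < 5
  · rw [gp, dif_pos h]
    exact (autOK_spec (pp_ok k h)).2.1 i
  · rw [gp, dif_neg h]
    rfl

theorem outer_spec : ∃ σ : Equiv.Perm Pt, σ ∈ AutG ∧ ∀ i : Pt, (σ i : ℕ) = app outerP i := by
  have h := outer_ok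
  simp only [autAny, Bool.and_eq_true, beq_iff_eq, List.all_eq_true, List.mem_range, decide_eq_true_eq] at h
  obtain ⟨hd, hr⟩ := h
  have hnd : ((List.range 275).map (app outerP)).Nodup := by
    rw [← List.dedup_eq_self]
    exact (List.dedup_sublist _).eq_of_length (by rw [hd, List.length_map, List.length_range])
  have hv : ∀ i : Pt, (pt' outerP i : ℕ) = app outerP i := fun i => Nat.mod_eq_of_lt (hr i i.2).1
  have hinj : Function.Injective (pt' outerP) := fun i j e => Fin.ext
    (List.inj_on_of_nodup_map hnd (List.mem_range.2 i.2) (List.mem_range.2 j.2) (by rw [← hv, ← hv, e]))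
  refine ⟨Equiv.ofBijective _ (Finite.injective_iff_bijective.1 hinj), adj_preserved fun i j e => ?_, hv⟩
  have := (hr i i.2).2 j j.2
  rw [show (row i).testBit j = true from e, cond_true] at this
  show (row (pt' outerP i : ℕ)).testBit (pt' outerP j : ℕ) = true
  rw [hv, hv]
  exact this

/-- The certificate vector. -/
def eVec : GolayPt → ℤ := fun p => relE.getD (idx p) 0

theorem rel_facts : leechTest eVec = true ∧ (∀ q ∈ relC, q.1 < 275) ∧
    (∀ p : GolayPt, (relC.map fun q => q.2 * numVec (vpk q.1) p).sum + relU * (hsV : GolayPt → ℤ) p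
      = 3 * eVec p) ∧
    ¬ (3 : ℤ) ∣ (relC.map fun q => q.2 * numVec (vpk (app outerP q.1)) (pt relBad)).sum
      + relU * (hsV : GolayPt → ℤ) (pt relBad) := by decide +kernel

theorem outer_not_mem {σ : Equiv.Perm Pt} (hv : ∀ i : Pt, (σ i : ℕ) = app outerP i) : σ ∉ GG := by
  rintro ⟨g, hg⟩
  obtain ⟨ht, hlt, hrel, hbad⟩ := rel_facts
  let φ : ↥leechLattice →+ ↥leechLattice := AddMonoidHom.mk' (fun v => (g : ↥Co0) • v) (co0_add _)
  let e : ↥leechLattice := ⟨eVec, leechTest_sound ht⟩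
  let P : GolayPt → ↥leechLattice →+ ℤ := fun p =>
    AddMonoidHom.mk' (fun v => (v : GolayPt → ℤ) p) fun _ _ => rfl
  let vv : ℕ → ↥leechLattice := fun i => vtx (Fin.ofNat 275 i)
  have hvv : ∀ i < 275, (vv i : GolayPt → ℤ) = numVec (vpk i) := fun i hi => by
    show numVec (vpk (Fin.ofNat 275 i : ℕ)) = _
    rw [Fin.val_ofNat, Nat.mod_eq_of_lt hi]
  have heq1 : (relC.map fun q => q.2 • vv q.1).sum + relU • hsV = (3 : ℤ) • e := by
    refine Subtype.ext (funext fun p => ?_)
    show P p ((relC.map fun q => q.2 • vv q.1).sum + relU • hsV) = P p ((3 : ℤ) • e)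
    rw [map_add, map_zsmul, map_zsmul, map_list_sum, List.map_map]
    have hl : relC.map (P p ∘ fun q => q.2 • vv q.1) = relC.map fun q => q.2 * numVec (vpk q.1) p :=
      List.map_congr_left fun q hq => by
        show P p (q.2 • vv q.1) = _
        rw [map_zsmul, smul_eq_mul]
        show q.2 * (vv q.1 : GolayPt → ℤ) p = _
        rw [hvv _ (hlt q hq)]
    rw [hl, smul_eq_mul, smul_eq_mul]
    exact hrel p
  have heq2 := congrArg φ heq1
  rw [map_add, map_zsmul, map_zsmul, map_list_sum, List.map_map] at heq2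
  have heq3 := congrArg (P (pt relBad)) heq2
  rw [map_add, map_zsmul, map_zsmul, map_list_sum, List.map_map] at heq3
  apply hbad
  refine ⟨P (pt relBad) (φ e), ?_⟩
  rw [← smul_eq_mul 3, ← heq3, smul_eq_mul]
  congr 1
  · refine congrArg List.sum (List.map_congr_left fun q hq => ?_)
    show _ = P (pt relBad) (φ (q.2 • vv q.1))
    rw [map_zsmul, map_zsmul, smul_eq_mul]
    congr 1
    show _ = (((g : ↥Co0) • vtx (Fin.ofNat 275 q.1) : ↥leechLattice) : GolayPt → ℤ) (pt relBad)
    rw [← rho_vtx, hg]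
    show _ = numVec (vpk (σ (Fin.ofNat 275 q.1) : ℕ)) (pt relBad)
    rw [hv, Fin.val_ofNat, Nat.mod_eq_of_lt (hlt q hq)]
  · congr 1
    show _ = (((g : ↥Co0) • hsV : ↥leechLattice) : GolayPt → ℤ) (pt relBad)
    rw [(mem_MP.1 g.2).1]

theorem GG_ne : GG ≠ AutG := by
  intro heq
  obtain ⟨σ, hσ, hv⟩ := outer_spec
  exact outer_not_mem hv (heq.symm ▸ hσ)

theorem GG_index : GG.relIndex AutG = 2 := by
  have h1 : Nat.card GG * GG.relIndex AutG = Nat.card AutG := by
    rw [Subgroup.relIndex, ← Nat.card_congr (Subgroup.subgroupOfEquivOfLe GG_le).toEquiv]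
    exact Subgroup.card_mul_index _
  have h2 := autG_card_le
  have h3 : 1 ≤ GG.relIndex AutG := Nat.one_le_iff_ne_zero.2 Subgroup.index_ne_zero_of_finite
  have h4 : GG.relIndex AutG ≠ 1 := fun h => GG_ne (le_antisymm GG_le (Subgroup.relIndex_eq_one.1 h))
  rw [GG_card] at h1
  have h5 : GG.relIndex AutG ≤ 2 := by
    rw [← h1, mul_comm 2] at h2
    exact Nat.le_of_mul_le_mul_left h2 (by norm_num)
  omega

theorem GG_normal : (GG.subgroupOf AutG).Normal := Subgroup.normal_of_index_eq_two GG_index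

theorem conj_mem {σ h : Equiv.Perm Pt} (hσ : σ ∈ AutG) (hh : h ∈ GG) : σ * h * σ⁻¹ ∈ GG := by
  haveI := GG_normal
  exact Subgroup.Normal.conj_mem (H := GG.subgroupOf AutG) inferInstance ⟨h, GG_le hh⟩ hh ⟨σ, hσ⟩

theorem mem_GG_of_cube {σ : Equiv.Perm Pt} (hσ : σ ∈ AutG) (h3 : σ * σ * σ = 1) : σ ∈ GG := by
  haveI := GG_normal
  let s : AutG := ⟨σ, hσ⟩
  have h2 : s * s ∈ GG.subgroupOf AutG := Subgroup.mul_self_mem_of_index_two GG_index s
  have h2' : σ * σ ∈ GG := h2
  have e : σ = (σ * σ) * (σ * σ) := by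
    rw [← mul_assoc, h3, one_mul]
  rw [e]
  exact mul_mem h2' h2'

theorem gp_GG (k : ℕ) : gp k ∈ GG := mem_GG_of_cube (gp_mem k) (gp_cube k)

end Cfsg.Agent.FGS3.McLOut
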