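/-
The stabiliser of a vertex: generation, the normal 3-subgroup of an edge stabiliser, and subgroups of small index.
-/
import Cfsg.Agent.FGS3.McLOutIndex
import Mathlib.GroupTheory.Sylow

set_option autoImplicit false
set_option maxRecDepth 20000

namespace Cfsg.Agent.FGS3.McLOut

open Cfsg

/-- A word as a permutation. -/
def wd (w : List ℕ) : Equiv.Perm Pt := (w.map gp).prod

theorem wd_cons (k : ℕ) (w : List ℕ) : wd (k :: w) = gp k * wd w := by simp [wd]

theorem wd_val : ∀ (w : List ℕ), (∀ k ∈ w, k < 5) → ∀ i : Pt, (wd w i : ℕ) = ev w i := by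
  intro w
  induction w with
  | nil => intro _ i; rfl
  | cons k w ih =>
    intro hw i
    rw [wd_cons, Equiv.Perm.mul_apply, gp_val (hw k (List.mem_cons_self)),
      ih (fun l hl => hw l (List.mem_cons_of_mem _ hl))]
    rfl

theorem wd_winv (w : List ℕ) : wd (winv w) = (wd w)⁻¹ := by
  induction w with
  | nil => simp [winv, wd]
  | cons k w ih =>
    have e : winv (k :: w) = winv w ++ [k, k] := by simp [winv, List.flatMap_append]
    rw [e, wd, List.map_append, List.prod_append, ← wd, ih, wd_cons, mul_inv_rev]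
    congr 1
    rw [eq_inv_iff_mul_eq_one]
    simp [gp_cube]

theorem winv_lt {w : List ℕ} (hw : ∀ k ∈ w, k < 5) : ∀ k ∈ winv w, k < 5 := by
  intro k hk
  simp only [winv, List.mem_flatMap, List.mem_reverse, List.mem_cons, List.not_mem_nil, or_false, or_self] at hk
  obtain ⟨l, hl, rfl⟩ := hk
  exact hw k hl

theorem wd_GG (w : List ℕ) : wd w ∈ GG :=
  list_prod_mem fun x hx => by
    obtain ⟨k, -, rfl⟩ := List.mem_map.1 hx
    exact gp_GG k

theorem orbits_facts : treeChk [[0], [1], [2], [3]] (aSet.getD 0 0) orbA = true ∧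
    treeChk [[0], [1], [2], [3]] ((treePts orbB).getD 0 0) orbB = true ∧
    treeChk [[0], [1], [2], [3]] ((treePts orbC).getD 0 0) orbC = true ∧
    treeChk gens8 ((treePts orbFar).getD 0 0) orbFar = true ∧
    (∀ x < 275, x = 0 ∨ x = 6 ∨ x ∈ treePts orbA ∨ x ∈ treePts orbB ∨ x ∈ treePts orbC ∨ ∃ l ∈ linesL, x ∈ l) ∧
    (∀ k < 4, app (pp k) 0 = 0 ∧ app (pp k) 6 = 6) ∧ app (pp 4) 0 = 0 ∧
    ∀ x < 275, ((x ∈ near) ↔ (row 0).testBit x = true) ∧
      ((x ∈ treePts orbFar) ↔ (x ≠ 0 ∧ (row 0).testBit x = false)) := by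
  have h := orbits_ok
  simp only [orbitsChk, Bool.and_eq_true, List.map_id', List.all_eq_true, List.mem_range, Bool.or_eq_true,
    beq_iff_eq, List.contains_eq_mem, decide_eq_true_eq, List.any_eq_true, or_assoc] at h
  obtain ⟨⟨⟨⟨⟨⟨⟨h1, h2⟩, h3⟩, h4⟩, h5⟩, h6⟩, h7⟩, h8⟩ := h
  refine ⟨h1, h2, h3, h4, h5, h6, h7, fun x hx => ⟨?_, ?_⟩⟩
  · rw [← decide_eq_true_iff (p := x ∈ near), (h8 x hx).1]
  · rw [← decide_eq_true_iff (p := x ∈ treePts orbFar), (h8 x hx).2, Bool.and_eq_true, bne_iff_ne,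
      Bool.not_eq_true']

/-- The base vertex and its neighbour. -/
abbrev v0 : Pt := 0
/-- The neighbour. -/
abbrev v6 : Pt := 6

/-- The stabiliser of the base vertex. -/
noncomputable def UU : Subgroup (Equiv.Perm Pt) := GG ⊓ MulAction.stabilizer (Equiv.Perm Pt) v0

/-- The stabiliser of the edge. -/
noncomputable def KK : Subgroup (Equiv.Perm Pt) := UU ⊓ MulAction.stabilizer (Equiv.Perm Pt) v6

theorem mem_UU {g : Equiv.Perm Pt} : g ∈ UU ↔ g ∈ GG ∧ g v0 = v0 := Iff.rfl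

theorem mem_KK {g : Equiv.Perm Pt} : g ∈ KK ↔ g ∈ UU ∧ g v6 = v6 := Iff.rfl

theorem gp_zero {k : ℕ} (hk : k < 5) : gp k v0 = v0 := by
  refine Fin.ext ?_
  rw [gp_val hk]
  rcases (show k < 4 ∨ k = 4 by omega) with h | rfl
  · exact (orbits_facts.2.2.2.2.2.1 k h).1
  · exact orbits_facts.2.2.2.2.2.2.1

theorem gp_six {k : ℕ} (hk : k < 4) : gp k v6 = v6 := by
  refine Fin.ext ?_
  rw [gp_val (by omega)]
  exact (orbits_facts.2.2.2.2.2.1 k hk).2

theorem wd_UU {w : List ℕ} (hw : ∀ k ∈ w, k < 5) : wd w ∈ UU :=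
  list_prod_mem fun x hx => by
    obtain ⟨k, hk, rfl⟩ := List.mem_map.1 hx
    exact mem_UU.2 ⟨gp_GG k, gp_zero (hw k hk)⟩

/-- The normal 3-subgroup of the edge stabiliser. -/
noncomputable def JJ : Subgroup (Equiv.Perm Pt) := Subgroup.closure (gp '' {k | k < 4})

theorem gp_JJ {k : ℕ} (hk : k < 4) : gp k ∈ JJ := Subgroup.subset_closure ⟨k, hk, rfl⟩

theorem JJ_le : JJ ≤ KK := by
  rw [JJ, Subgroup.closure_le]
  rintro _ ⟨k, hk, rfl⟩
  exact mem_KK.2 ⟨mem_UU.2 ⟨gp_GG k, gp_zero (Nat.lt_succ_of_lt hk)⟩, gp_six hk⟩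

theorem gp_comm {i j : ℕ} (hi : i < 4) (hj : j < 4) : gp i * gp j = gp j * gp i := by
  refine Equiv.ext fun x => Fin.ext ?_
  have h := comm_ok
  simp only [commChk, List.all_eq_true, List.mem_range, beq_iff_eq] at h
  have := h i hi j hj (x : ℕ) x.2
  rw [Equiv.Perm.mul_apply, Equiv.Perm.mul_apply, gp_val (by omega), gp_val (by omega), gp_val (by omega),
    gp_val (by omega)]
  exact this

theorem JJ_cube {g : Equiv.Perm Pt} (hg : g ∈ JJ) : g ^ 3 = 1 := by
  have h1 : JJ ≤ Subgroup.centralizer (gp '' {k | k < 4}) := by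
    rw [JJ, Subgroup.closure_le]
    rintro _ ⟨i, hi, rfl⟩
    rw [SetLike.mem_coe, Subgroup.mem_centralizer_iff]
    rintro _ ⟨j, hj, rfl⟩
    exact gp_comm hj hi
  have hc : JJ ≤ Subgroup.centralizer (JJ : Set (Equiv.Perm Pt)) := by
    conv_lhs => rw [JJ]
    rw [Subgroup.closure_le]
    rintro _ ⟨j, hj, rfl⟩
    rw [SetLike.mem_coe, Subgroup.mem_centralizer_iff]
    exact fun y hy => (Subgroup.mem_centralizer_iff.1 (h1 hy) _ ⟨j, hj, rfl⟩).symm
  induction hg using Subgroup.closure_induction with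
  | mem x hx =>
    obtain ⟨k, -, rfl⟩ := hx
    rw [pow_three, ← mul_assoc]
    exact gp_cube k
  | one => exact one_pow 3
  | mul x y hx hy h1 h2 =>
    rw [Commute.mul_pow (Subgroup.mem_centralizer_iff.1 (hc hy) x hx), h1, h2, mul_one]
  | inv x _ h1 => rw [inv_pow, h1, inv_one]

theorem JJ_pgroup : IsPGroup 3 JJ := fun g => ⟨1, Subtype.ext (JJ_cube g.2)⟩

theorem tree_reach' {gw : List (List ℕ)} {x : ℕ} {t : List (ℕ × ℕ × ℕ)} (h : treeChk gw x t = true)
    (hgw : ∀ w ∈ gw, ∀ k ∈ w, k < 5) {S : Subgroup (Equiv.Perm Pt)} (hS : ∀ w ∈ gw, wd w ∈ S) (x' : Pt)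
    (hx' : (x' : ℕ) = x) : ∀ z ∈ treePts t, ∃ g ∈ S, (g x' : ℕ) = z := by
  simp only [treeChk, Bool.and_eq_true, beq_iff_eq, List.all_eq_true, List.mem_range, Bool.or_eq_true,
    decide_eq_true_eq] at h
  obtain ⟨h0, hk⟩ := h
  have key : ∀ k < t.length, ∃ g ∈ S, (g x' : ℕ) = (t.getD k (0, 0, 0)).1 := by
    intro k
    induction k using Nat.strong_induction_on with
    | _ k ih =>
      intro hkl
      rcases hk k hkl with rfl | ⟨⟨⟨hp, hg⟩, he⟩, -⟩
      · exact ⟨1, one_mem _, by rw [h0]; exact hx'⟩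
      · obtain ⟨g, hgS, hgx⟩ := ih _ hp (hp.trans hkl)
        have hm : gw.getD (t.getD k (0, 0, 0)).2.2 [] ∈ gw := by
          rw [List.getD_eq_getElem _ _ hg]
          exact List.getElem_mem hg
        refine ⟨wd _ * g, mul_mem (hS _ hm) hgS, ?_⟩
        rw [Equiv.Perm.mul_apply, wd_val _ (hgw _ hm), hgx, he]
  intro z hz
  obtain ⟨⟨z', r⟩, hp, rfl⟩ := List.mem_map.1 hz
  obtain ⟨k, hkl, hke⟩ := List.getElem_of_mem hp
  obtain ⟨g, hgS, hgx⟩ := key k hkl
  rw [List.getD_eq_getElem _ _ hkl, hke] at hgx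
  exact ⟨g, hgS, hgx⟩

/-- The subgroup generated by the eight generators. -/
noncomputable def MM : Subgroup (Equiv.Perm Pt) := Subgroup.closure (wd '' {w | w ∈ gens8})

theorem gens8_lt : ∀ w ∈ gens8, ∀ k ∈ w, k < 5 := by decide +kernel

theorem inM_spec : ∀ w : List ℕ, inM w = true → wd w ∈ MM ∧ ∀ k ∈ w, k < 5
  | [], _ => ⟨one_mem _, fun k hk => absurd hk List.not_mem_nil⟩
  | 4 :: i :: 4 :: 4 :: r, h => by
    simp only [inM, Bool.and_eq_true, decide_eq_true_eq] at h
    obtain ⟨hr, hl⟩ := inM_spec r h.2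
    refine ⟨?_, fun k hk => ?_⟩
    · have e : wd (4 :: i :: 4 :: 4 :: r) = wd [4, i, 4, 4] * wd r := by simp [wd, mul_assoc]
      rw [e]
      refine mul_mem (Subgroup.subset_closure ⟨_, ?_, rfl⟩) hr
      have hi := h.1
      show [4, i, 4, 4] ∈ gens8
      rcases (show i = 0 ∨ i = 1 ∨ i = 2 ∨ i = 3 by omega) with rfl | rfl | rfl | rfl <;> decide
    · simp only [List.mem_cons] at hk
      rcases hk with rfl | rfl | rfl | rfl | hk
      exacts [by norm_num, Nat.lt_succ_of_lt h.1, by norm_num, by norm_num, hl k hk]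
  | i :: r, h => by
    by_cases hi : i < 4
    · have h' : inM r = true := by
        unfold inM at h
        split at h
        · rename_i heq; simp at heq
        · rename_i j r' heq
          obtain ⟨rfl, -⟩ := List.cons.inj heq
          exact absurd hi (by norm_num)
        · rename_i j r' _ heq
          obtain ⟨rfl, rfl⟩ := List.cons.inj heq
          exact (Bool.and_eq_true _ _ ▸ h).2
      obtain ⟨hr, hl⟩ := inM_spec r h'
      refine ⟨?_, fun k hk => ?_⟩
      · rw [wd_cons]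
        refine mul_mem ?_ hr
        have : gp i = wd [i] := by simp [wd]
        rw [this]
        refine Subgroup.subset_closure ⟨_, ?_, rfl⟩
        show [i] ∈ gens8
        rcases (show i = 0 ∨ i = 1 ∨ i = 2 ∨ i = 3 by omega) with rfl | rfl | rfl | rfl <;> decide
      · rcases List.mem_cons.1 hk with rfl | hk
        exacts [by omega, hl k hk]
    · unfold inM at h
      split at h
      · rename_i heq; simp at heq
      · rename_i j r' heq
        obtain ⟨rfl, he⟩ := List.cons.inj heq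
        simp only [Bool.and_eq_true, decide_eq_true_eq] at h
        obtain ⟨hr, hl⟩ := inM_spec r' h.2
        subst he
        refine ⟨?_, fun k hk => ?_⟩
        · have e : wd (4 :: j :: 4 :: 4 :: r') = wd [4, j, 4, 4] * wd r' := by simp [wd, mul_assoc]
          rw [e]
          refine mul_mem (Subgroup.subset_closure ⟨_, ?_, rfl⟩) hr
          show [4, j, 4, 4] ∈ gens8
          rcases (show j = 0 ∨ j = 1 ∨ j = 2 ∨ j = 3 by omega) with rfl | rfl | rfl | rfl <;> decide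
        · simp only [List.mem_cons] at hk
          rcases hk with rfl | rfl | rfl | rfl | hk
          exacts [by norm_num, by omega, by norm_num, by norm_num, hl k hk]
      · rename_i j r' _ heq
        obtain ⟨rfl, rfl⟩ := List.cons.inj heq
        simp only [Bool.and_eq_true, decide_eq_true_eq] at h
        exact absurd h.1 hi

theorem chain_facts : (lev 0).2.1 = gens8 ∧ ∀ k < 4, treeChk (lev k).2.1 (lev k).1 (lev k).2.2 = true ∧
    ∀ w ∈ (lev k).2.1, (wd w ∈ MM ∧ ∀ i ∈ w, i < 5) ∧ ev w 0 = 0 ∧ ∀ l < k, ev w (lev l).1 = (lev l).1 := by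
  have h := chain_ok
  simp only [chainChk, Bool.and_eq_true, beq_iff_eq, List.all_eq_true, List.mem_range] at h
  have hm := mem_ok
  simp only [memChk, List.all_eq_true, List.mem_range] at hm
  exact ⟨h.1, fun k hk => ⟨(h.2 k hk).1, fun w hw => ⟨inM_spec w (hm k hk w hw), ((h.2 k hk).2 w hw).1,
    ((h.2 k hk).2 w hw).2⟩⟩⟩

theorem lev_pts : ∀ k < 4, (lev k).1 < 275 := by decide +kernel

/-- The base points of the chain. -/
def cpt (k : ℕ) : Pt := Fin.ofNat 275 (lev k).1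

theorem cpt_val {k : ℕ} (hk : k < 4) : (cpt k : ℕ) = (lev k).1 := Nat.mod_eq_of_lt (lev_pts k hk)

/-- The chain inside a subgroup. -/
def fixIn (S : Subgroup (Equiv.Perm Pt)) : ℕ → Subgroup (Equiv.Perm Pt)
  | 0 => S
  | n + 1 => fixIn S n ⊓ MulAction.stabilizer (Equiv.Perm Pt) (cpt n)

theorem mem_fixIn {S : Subgroup (Equiv.Perm Pt)} :
    ∀ {n : ℕ} {g : Equiv.Perm Pt}, g ∈ fixIn S n ↔ g ∈ S ∧ ∀ l < n, g (cpt l) = cpt l
  | 0, g => ⟨fun h => ⟨h, fun l hl => absurd hl (Nat.not_lt_zero l)⟩, And.left⟩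
  | n + 1, g => by
    rw [fixIn, Subgroup.mem_inf, mem_fixIn, MulAction.mem_stabilizer_iff]
    constructor
    · rintro ⟨⟨h1, h2⟩, h3⟩
      exact ⟨h1, fun l hl => (Nat.lt_succ_iff_lt_or_eq.1 hl).elim (h2 l) fun e => e ▸ h3⟩
    · rintro ⟨h1, h2⟩
      exact ⟨⟨h1, fun l hl => h2 l (Nat.lt_succ_of_lt hl)⟩, h2 n (Nat.lt_succ_self n)⟩

theorem gen_fixes {k : ℕ} (hk : k < 4) {w : List ℕ} (hw : w ∈ (lev k).2.1) {l : ℕ} (hl : l < k) :
    wd w (cpt l) = cpt l := by
  obtain ⟨⟨-, hlt⟩, -, hf⟩ := (chain_facts.2 k hk).2 w hw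
  refine Fin.ext ?_
  rw [wd_val w hlt, cpt_val (hl.trans hk)]
  exact hf l hl

theorem chain_lower {S : Subgroup (Equiv.Perm Pt)} {a : ℕ} (ha : ∀ k < 4, a ≤ k → ∀ w ∈ (lev k).2.1, wd w ∈ S)
    {k : ℕ} (hk : k < 4) (hak : a ≤ k) :
    (treePts (lev k).2.2).dedup.length * Nat.card (fixIn S (k + 1)) ≤ Nat.card (fixIn S k) := by
  classical
  have h1 : Nat.card (MulAction.orbit (fixIn S k) (cpt k)) *
      Nat.card (MulAction.stabilizer (fixIn S k) (cpt k)) = Nat.card (fixIn S k) := by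
    rw [Nat.card_congr (MulAction.orbitEquivQuotientStabilizer _ _), ← Subgroup.index,
      Subgroup.index_mul_card]
  rw [← h1]
  refine Nat.mul_le_mul ?_ ?_
  · rw [Nat.card_coe_set_eq, ← Set.ncard_image_of_injective _ Fin.val_injective, ← List.card_toFinset,
      ← Set.ncard_coe_finset]
    refine Set.ncard_le_ncard (fun z hz => ?_) (Set.toFinite _)
    obtain ⟨g, hg, hgz⟩ := tree_reach' (chain_facts.2 k hk).1 (fun w hw => ((chain_facts.2 k hk).2 w hw).1.2)
      (S := fixIn S k) (fun w hw => mem_fixIn.2 ⟨ha k hk hak w hw, fun l hl => gen_fixes hk hw hl⟩) (cpt k)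
      (cpt_val hk) z (List.mem_toFinset.1 hz)
    exact ⟨g (cpt k), ⟨⟨g, hg⟩, rfl⟩, hgz⟩
  · exact Nat.card_le_card_of_injective
      (fun s : fixIn S (k + 1) => (⟨⟨s.1, (Subgroup.mem_inf.1 s.2).1⟩,
        MulAction.mem_stabilizer_iff.2 (MulAction.mem_stabilizer_iff.1 (Subgroup.mem_inf.1 s.2).2)⟩ :
          MulAction.stabilizer (fixIn S k) (cpt k)))
      fun x y e => Subtype.ext (congrArg (fun z : MulAction.stabilizer (fixIn S k) (cpt k) => z.1.1) e)

theorem UU_card : Nat.card UU = 3265920 := by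
  have h1 : Nat.card (MulAction.orbit GG v0) * Nat.card (MulAction.stabilizer GG v0) = Nat.card GG := by
    rw [Nat.card_congr (MulAction.orbitEquivQuotientStabilizer _ _), ← Subgroup.index,
      Subgroup.index_mul_card]
  have h2 : MulAction.orbit GG v0 = Set.univ := Set.eq_univ_of_forall fun i => by
    obtain ⟨g, hg⟩ := rho_transitive i
    exact ⟨⟨rho g, g, rfl⟩, hg⟩
  have h3 : Nat.card (MulAction.stabilizer GG v0) = Nat.card UU := Nat.card_congr
    { toFun := fun s => ⟨s.1.1, mem_UU.2 ⟨s.1.2, MulAction.mem_stabilizer_iff.1 s.2⟩⟩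
      invFun := fun u => ⟨⟨u.1, (mem_UU.1 u.2).1⟩, MulAction.mem_stabilizer_iff.2 (mem_UU.1 u.2).2⟩
      left_inv := fun _ => rfl
      right_inv := fun _ => rfl }
  rw [h2, Nat.card_coe_set_eq, Set.ncard_univ, Nat.card_fin, h3, GG_card] at h1
  omega

theorem MM_le : MM ≤ UU := by
  rw [MM, Subgroup.closure_le]
  rintro _ ⟨w, hw, rfl⟩
  exact wd_UU (gens8_lt w hw)

theorem chain_nums : (treePts (lev 0).2.2).dedup.length = 112 ∧ (treePts (lev 1).2.2).dedup.length = 81 ∧
    (treePts (lev 2).2.2).dedup.length = 45 ∧ (treePts (lev 3).2.2).dedup.length = 8 ∧ (lev 0).1 = 6 := by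
  obtain ⟨h, h6⟩ := chain_lengths
  rw [show List.range 4 = [0, 1, 2, 3] from rfl, List.map_cons, List.map_cons, List.map_cons, List.map_cons,
    List.map_nil, List.cons.injEq, List.cons.injEq, List.cons.injEq, List.cons.injEq] at h
  exact ⟨h.1, h.2.1, h.2.2.1, h.2.2.2.1, h6⟩

theorem MM_eq : MM = UU := by
  refine Subgroup.eq_of_le_of_card_ge MM_le ?_
  obtain ⟨n0, n1, n2, n3, -⟩ := chain_nums
  have ha : ∀ k < 4, 0 ≤ k → ∀ w ∈ (lev k).2.1, wd w ∈ MM :=
    fun k hk _ w hw => ((chain_facts.2 k hk).2 w hw).1.1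
  have c0 := chain_lower ha (show 0 < 4 by norm_num) le_rfl
  have c1 := chain_lower ha (show 1 < 4 by norm_num) (Nat.zero_le _)
  have c2 := chain_lower ha (show 2 < 4 by norm_num) (Nat.zero_le _)
  have c3 := chain_lower ha (show 3 < 4 by norm_num) (Nat.zero_le _)
  have p : 1 ≤ Nat.card (fixIn MM 4) := Nat.card_pos
  rw [n0] at c0
  rw [n1] at c1
  rw [n2] at c2
  rw [n3] at c3
  rw [UU_card]
  show 3265920 ≤ Nat.card (fixIn MM 0)
  simp only [Nat.reduceAdd] at c0 c1 c2 c3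
  omega

theorem near_mem {g : Equiv.Perm Pt} (hg : g ∈ UU) : (g v6 : ℕ) ∈ near := by
  have h8 := orbits_facts.2.2.2.2.2.2.2
  refine ((h8 _ (g v6).2).1).2 ?_
  have h6 : adjB v0 v6 = true := by decide +kernel
  have := mem_AutG.1 (GG_le (mem_UU.1 hg).1) v0 v6
  rw [(mem_UU.1 hg).2, h6] at this
  exact this

theorem KK_card_le : 112 * Nat.card KK ≤ 3265920 := by
  have h1 : Nat.card (MulAction.orbit UU v6) * Nat.card (MulAction.stabilizer UU v6) = Nat.card UU := by
    rw [Nat.card_congr (MulAction.orbitEquivQuotientStabilizer _ _), ← Subgroup.index,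
      Subgroup.index_mul_card]
  rw [← UU_card, ← h1]
  refine Nat.mul_le_mul ?_ ?_
  · rw [Nat.card_coe_set_eq, ← Set.ncard_image_of_injective _ Fin.val_injective, ← chain_nums.1,
      ← List.card_toFinset, ← Set.ncard_coe_finset]
    refine Set.ncard_le_ncard (fun z hz => ?_) (Set.toFinite _)
    obtain ⟨g, hg, hgz⟩ := tree_reach' (chain_facts.2 0 (by norm_num)).1
      (fun w hw => ((chain_facts.2 0 (by norm_num)).2 w hw).1.2) (S := UU)
      (fun w hw => MM_le ((chain_facts.2 0 (by norm_num)).2 w hw).1.1) v6 chain_nums.2.2.2.2.symm z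
      (List.mem_toFinset.1 hz)
    exact ⟨g v6, ⟨⟨g, hg⟩, rfl⟩, hgz⟩
  · exact Nat.card_le_card_of_injective
      (fun s : KK => (⟨⟨s.1, (mem_KK.1 s.2).1⟩, MulAction.mem_stabilizer_iff.2 (mem_KK.1 s.2).2⟩ :
        MulAction.stabilizer UU v6))
      fun x y e => Subtype.ext (congrArg (fun z : MulAction.stabilizer UU v6 => z.1.1) e)

theorem KK_normalizes {g : Equiv.Perm Pt} (hg : g ∈ KK) {j : Equiv.Perm Pt} (hj : j ∈ JJ) : g * j * g⁻¹ ∈ JJ := by
  let N : Subgroup (Equiv.Perm Pt) := KK ⊓ Subgroup.normalizer (JJ : Set (Equiv.Perm Pt))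
  suffices h : N = KK by
    have h2 : g ∈ N := h ▸ hg
    exact (Subgroup.mem_normalizer_iff.1 (Subgroup.mem_inf.1 h2).2 j).1 hj
  refine Subgroup.eq_of_le_of_card_ge inf_le_left ?_
  obtain ⟨-, n1, n2, n3, n6⟩ := chain_nums
  have hc6 : cpt 0 = v6 := Fin.ext ((cpt_val (by norm_num)).trans n6)
  have ha : ∀ k < 4, 1 ≤ k → ∀ w ∈ (lev k).2.1, wd w ∈ N := by
    intro k hk hk1 w hw
    obtain ⟨⟨hM, hlt⟩, -, -⟩ := (chain_facts.2 k hk).2 w hw
    refine Subgroup.mem_inf.2 ⟨mem_KK.2 ⟨MM_le hM, hc6 ▸ gen_fixes hk hw hk1⟩, ?_⟩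
    have hmem : w ∈ stabGens := by
      simp only [stabGens, List.mem_append]
      rcases (show k = 1 ∨ k = 2 ∨ k = 3 by omega) with rfl | rfl | rfl
      exacts [Or.inl (Or.inl hw), Or.inl (Or.inr hw), Or.inr hw]
    obtain ⟨n, hn, rfl⟩ := List.getElem_of_mem hmem
    have hcj : ∀ i < 4, stabGens[n] = stabGens[n] → wd stabGens[n] * gp i * (wd stabGens[n])⁻¹ ∈ JJ := by
      intro i hi _
      have h := conj_ok
      simp only [conjChk, List.all_eq_true, List.mem_range, Bool.and_eq_true, decide_eq_true_eq, beq_iff_eq] at h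
      obtain ⟨hl, he⟩ := h n hn i hi
      rw [List.getD_eq_getElem _ _ hn] at he
      have : wd stabGens[n] * gp i = wd ((conjW.getD n []).getD i []) * wd stabGens[n] := by
        refine Equiv.ext fun x => Fin.ext ?_
        rw [Equiv.Perm.mul_apply, Equiv.Perm.mul_apply, wd_val _ hlt, gp_val (by omega),
          wd_val _ (fun l hl' => Nat.lt_succ_of_lt (hl l hl')), wd_val _ hlt]
        exact he x x.2
      rw [this, mul_inv_cancel_right]
      exact list_prod_mem fun y hy => by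
        obtain ⟨l, hl', rfl⟩ := List.mem_map.1 hy
        exact gp_JJ (hl l hl')
    have hle : JJ.map (MulAut.conj (wd stabGens[n])).toMonoidHom ≤ JJ := by
      rw [JJ, MonoidHom.map_closure, Subgroup.closure_le]
      rintro _ ⟨_, ⟨i, hi, rfl⟩, rfl⟩
      exact hcj i hi rfl
    have heq : JJ.map (MulAut.conj (wd stabGens[n])).toMonoidHom = JJ :=
      Subgroup.eq_of_le_of_card_ge hle (le_of_eq
        (Subgroup.card_map_of_injective (MulAut.conj (wd stabGens[n])).injective).symm)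
    rw [Subgroup.mem_normalizer_iff]
    intro x
    constructor
    · intro hx
      rw [← heq]
      exact ⟨x, hx, rfl⟩
    · intro hx
      rw [← heq] at hx
      obtain ⟨y, hy, e⟩ := hx
      have : y = x := (MulAut.conj (wd stabGens[n])).injective e
      exact this ▸ hy
  have c1 := chain_lower ha (show 1 < 4 by norm_num) le_rfl
  have c2 := chain_lower ha (show 2 < 4 by norm_num) (by norm_num)
  have c3 := chain_lower ha (show 3 < 4 by norm_num) (by norm_num)
  have p : 1 ≤ Nat.card (fixIn N 4) := Nat.card_pos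
  have e0 : fixIn N 1 ≤ N := inf_le_left
  have e1 : Nat.card (fixIn N 1) ≤ Nat.card N := Subgroup.card_le_of_le e0
  have hk := KK_card_le
  rw [n1] at c1
  rw [n2] at c2
  rw [n3] at c3
  simp only [Nat.reduceAdd] at c1 c2 c3
  omega

end Cfsg.Agent.FGS3.McLOut
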