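/-
A subgroup of the vertex stabiliser of index at most 32 containing a Sylow 3-subgroup is everything.
-/
import Cfsg.Agent.FGS3.McLOutStab

set_option autoImplicit false
set_option maxRecDepth 20000

namespace Cfsg.Agent.FGS3.McLOut

open Cfsg

theorem trans_facts : ∀ x ∈ near, ev (transW.getD x []) 6 = x ∧ ∀ k ∈ transW.getD x [], k < 5 := by
  have h := trans_ok
  simp only [transChk, List.all_eq_true, Bool.and_eq_true, beq_iff_eq, decide_eq_true_eq] at h
  exact h

theorem aSet_reach {z : ℕ} (hz : z ∈ aSet) :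
    ∃ g ∈ JJ, ∀ a : Pt, (a : ℕ) = aSet.getD 0 0 → (g a : ℕ) = z := by
  have hlt : aSet.getD 0 0 < 275 := by decide +kernel
  obtain ⟨g, hg, e⟩ := tree_reach' orbits_facts.1 (by decide) (S := JJ)
    (fun w hw => by
      simp only [List.mem_cons, List.not_mem_nil, or_false] at hw
      have e1 : ∀ k, wd [k] = gp k := fun k => by simp [wd]
      rcases hw with rfl | rfl | rfl | rfl <;> (rw [e1]; exact gp_JJ (by norm_num)))
    ⟨_, hlt⟩ rfl z hz
  exact ⟨g, hg, fun a ha => by rw [show a = ⟨_, hlt⟩ from Fin.ext ha]; exact e⟩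

theorem derive_sound (P : ℕ → Prop) (hP : ∀ x y i, P x → P y → i < 4 → P (jmove x i y)) :
    ∀ (st : List (ℕ × ℕ × ℕ × ℕ)) (C D : List ℕ), (∀ z ∈ C, P z) → derive st C = some D → ∀ z ∈ D, P z := by
  intro st
  induction st with
  | nil =>
    intro C D hC h
    obtain rfl : C = D := by simpa [derive] using h
    exact hC
  | cons s st ih =>
    intro C D hC h
    obtain ⟨yi, xi, i, z⟩ := s
    rw [derive] at h
    cases hc : (decide (yi < C.length) && decide (xi < C.length) && decide (i < 4) &&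
        (jmove (C.getD xi 0) i (C.getD yi 0) == z)) with
    | false => rw [hc] at h; simp at h
    | true =>
      rw [hc, cond_true] at h
      simp only [Bool.and_eq_true, decide_eq_true_eq, beq_iff_eq] at hc
      refine ih (C ++ [z]) D (fun w hw => ?_) h
      rcases List.mem_append.1 hw with hw | hw
      · exact hC w hw
      · rw [List.mem_singleton] at hw
        rw [hw, ← hc.2]
        refine hP _ _ _ ?_ ?_ hc.1.2
        · rw [List.getD_eq_getElem _ _ hc.1.1.2]
          exact hC _ (List.getElem_mem _)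
        · rw [List.getD_eq_getElem _ _ hc.1.1.1]
          exact hC _ (List.getElem_mem _)

variable {W : Subgroup (Equiv.Perm Pt)}

/-- Being in the orbit of the neighbour. -/
def InS (W : Subgroup (Equiv.Perm Pt)) (n : ℕ) : Prop := ∃ w ∈ W, (w v6 : ℕ) = n

theorem inS_near (hW : W ≤ UU) {n : ℕ} (h : InS W n) : n ∈ near := by
  obtain ⟨w, hw, rfl⟩ := h
  exact near_mem (hW hw)

theorem inS_six : InS W 6 := ⟨1, one_mem _, rfl⟩

theorem conj_in (hW : W ≤ UU) (hJ : JJ ≤ W) {u : Equiv.Perm Pt} (hu : u ∈ UU) (h : InS W (u v6 : ℕ))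
    {j : Equiv.Perm Pt} (hj : j ∈ JJ) : u * j * u⁻¹ ∈ W := by
  obtain ⟨w, hw, e⟩ := h
  have hk : w⁻¹ * u ∈ KK := mem_KK.2 ⟨mul_mem (inv_mem (hW hw)) hu, by
    rw [Equiv.Perm.mul_apply, ← Fin.ext e]
    exact w.symm_apply_apply v6⟩
  have h2 := mul_mem (mul_mem hw (hJ (KK_normalizes hk hj))) (inv_mem hw)
  rwa [show w * (w⁻¹ * u * j * (w⁻¹ * u)⁻¹) * w⁻¹ = u * j * u⁻¹ by group] at h2

theorem inS_jmove (hW : W ≤ UU) (hJ : JJ ≤ W) (x y i : ℕ) (hx : InS W x) (hy : InS W y) (hi : i < 4) :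
    InS W (jmove x i y) := by
  obtain ⟨he, hl⟩ := trans_facts x (inS_near hW hx)
  have hi5 : ∀ k ∈ [i], k < 5 := fun k hk => by
    rw [List.mem_singleton] at hk
    omega
  have ht : (wd (transW.getD x []) v6 : ℕ) = x := by rw [wd_val _ hl]; exact he
  have hm := conj_in hW hJ (wd_UU hl) (ht.symm ▸ hx) (gp_JJ hi)
  obtain ⟨w, hw, e⟩ := hy
  refine ⟨_, mul_mem hm hw, ?_⟩
  rw [Equiv.Perm.mul_apply, Equiv.Perm.mul_apply, Equiv.Perm.mul_apply, ← wd_winv,
    show gp i = wd [i] by simp [wd], wd_val _ hl, wd_val _ hi5, wd_val _ (winv_lt hl), e]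
  rfl

theorem eq_top_of_full (hW : W ≤ UU) (hJ : JJ ≤ W) (h : ∀ z ∈ near, InS W z) : W = UU := by
  refine le_antisymm hW (MM_eq ▸ ?_)
  rw [MM, Subgroup.closure_le]
  rintro _ ⟨w, hw, rfl⟩
  have h4 : gp 4 ∈ UU := mem_UU.2 ⟨gp_GG 4, gp_zero (by norm_num)⟩
  have hx := h _ (near_mem h4)
  have hconj : ∀ i < 4, wd [4, i, 4, 4] ∈ W := fun i hi => by
    have e : gp 4 * gp 4 = (gp 4)⁻¹ := eq_inv_iff_mul_eq_one.2 (gp_cube 4)
    rw [show wd [4, i, 4, 4] = gp 4 * gp i * (gp 4 * gp 4) by simp [wd, mul_assoc], e]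
    exact conj_in hW hJ h4 hx (gp_JJ hi)
  have hone : ∀ i < 4, wd [i] ∈ W := fun i hi => by
    rw [show wd [i] = gp i by simp [wd]]
    exact hJ (gp_JJ hi)
  simp only [gens8, Set.mem_ofPred_eq, List.mem_cons, List.not_mem_nil, or_false] at hw
  rcases hw with rfl | rfl | rfl | rfl | rfl | rfl | rfl | rfl
  exacts [hone 0 (by norm_num), hone 1 (by norm_num), hone 2 (by norm_num), hone 3 (by norm_num),
    hconj 0 (by norm_num), hconj 1 (by norm_num), hconj 2 (by norm_num), hconj 3 (by norm_num)]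

theorem eq_top_of_aSet (hW : W ≤ UU) (hJ : JJ ≤ W) {z : ℕ} (hz : z ∈ aSet) (h : InS W z) : W = UU := by
  obtain ⟨g, hg, he⟩ := aSet_reach hz
  have hlt : aSet.getD 0 0 < 275 := by decide +kernel
  have hg' := he ⟨_, hlt⟩ rfl
  obtain ⟨w, hw, hwz⟩ := h
  have h0 : InS W (aSet.getD 0 0) := by
    refine ⟨g⁻¹ * w, mul_mem (inv_mem (hJ hg)) hw, ?_⟩
    rw [Equiv.Perm.mul_apply, show w v6 = g ⟨_, hlt⟩ from Fin.ext (hwz.trans hg'.symm), Equiv.Perm.coe_inv,
      Equiv.symm_apply_apply]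
  have hf := full_ok
  unfold fullChk at hf
  cases hd : derive fullSteps [6, aSet.getD 0 0] with
  | none => rw [hd] at hf; exact absurd hf (by simp)
  | some C =>
    rw [hd] at hf
    simp only [List.all_eq_true, List.contains_eq_mem, decide_eq_true_eq] at hf
    refine eq_top_of_full hW hJ fun x hx => derive_sound (InS W) (fun a b i => inS_jmove hW hJ a b i) _ _ _ ?_
      hd x (hf x hx)
    intro a ha
    simp only [List.mem_cons, List.not_mem_nil, or_false] at ha
    rcases ha with rfl | rfl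
    exacts [inS_six, h0]

theorem line_facts {i : ℕ} (hi : i < 10) :
    (∀ z ∈ lineImages.getD i [], z ∈ near) ∧
      33 ≤ ((lineImages.getD i []).map (lineImage (linesL.getD i []))).dedup.length ∧
      (∀ y ∈ linesL.getD i [], y ∈ near ∧ y ≠ 6) ∧ (linesL.getD i []).dedup.length = 3 ∧
      ∀ k < 3, ∃ e < 9,
        ev (List.replicate (e / 3) 0 ++ List.replicate (e % 3) 1) ((linesL.getD i []).getD 0 0)
            = (linesL.getD i []).getD k 0 ∨
          ev (List.replicate (e / 3) 2 ++ List.replicate (e % 3) 3) ((linesL.getD i []).getD 0 0)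
            = (linesL.getD i []).getD k 0 := by
  have h := List.all_eq_true.1 line_ok i (List.mem_range.2 hi)
  simp only [Bool.and_eq_true, List.all_eq_true, List.any_eq_true, List.mem_range, decide_eq_true_eq,
    beq_iff_eq, Bool.or_eq_true, List.contains_eq_mem, bne_iff_ne, Bool.not_eq_true', decide_eq_false_iff_not] at h
  obtain ⟨⟨⟨⟨h1, h2⟩, h3⟩, h4⟩, h5⟩ := h
  exact ⟨h1, h2, fun y hy => ⟨(h3 y hy).1.1.1, (h3 y hy).1.1.2⟩, h4, h5⟩

theorem line_rep {i : ℕ} (hi : i < 10) (hJ : JJ ≤ W) {y : ℕ} (hy : y ∈ linesL.getD i []) (h : InS W y) :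
    InS W ((linesL.getD i []).getD 0 0) ∧ ∀ z ∈ linesL.getD i [], InS W z := by
  obtain ⟨-, -, -, -, hlin⟩ := line_facts hi
  have hlen : (linesL.getD i []).length = 3 := by
    have : ∀ i < 10, (linesL.getD i []).length = 3 := by decide +kernel
    exact this i hi
  have hlt : ∀ i < 10, (linesL.getD i []).getD 0 0 < 275 := by decide +kernel
  set r := (linesL.getD i []).getD 0 0 with hr
  have key : ∀ z ∈ linesL.getD i [], ∃ g ∈ JJ, (g ⟨r, hlt i hi⟩ : ℕ) = z := by
    intro z hz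
    obtain ⟨k, hk, rfl⟩ := List.getElem_of_mem hz
    obtain ⟨e, he, hor⟩ := hlin k (hlen ▸ hk)
    rw [List.getD_eq_getElem _ _ hk] at hor
    have hw : ∀ (a b : ℕ), a < 4 → b < 4 → ∀ l ∈ List.replicate (e / 3) a ++ List.replicate (e % 3) b, l < 4 := by
      intro a b ha hb l hl
      simp only [List.mem_append, List.mem_replicate] at hl
      omega
    have hgen : ∀ v : List ℕ, (∀ l ∈ v, l < 4) → ev v r = (linesL.getD i [])[k] →
        ∃ g ∈ JJ, (g ⟨r, hlt i hi⟩ : ℕ) = (linesL.getD i [])[k] := fun v hv hev =>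
      ⟨wd v, list_prod_mem fun x hx => by
        obtain ⟨l, hl, rfl⟩ := List.mem_map.1 hx
        exact gp_JJ (hv l hl), by rw [wd_val _ fun l hl => Nat.lt_succ_of_lt (hv l hl)]; exact hev⟩
    rcases hor with hor | hor
    · exact hgen _ (hw 0 1 (by norm_num) (by norm_num)) hor
    · exact hgen _ (hw 2 3 (by norm_num) (by norm_num)) hor
  obtain ⟨g, hg, hgy⟩ := key y hy
  obtain ⟨w, hw, hwy⟩ := h
  have h0 : InS W r := ⟨g⁻¹ * w, mul_mem (inv_mem (hJ hg)) hw, by
    rw [Equiv.Perm.mul_apply, show w v6 = g ⟨r, hlt i hi⟩ from Fin.ext (hwy.trans hgy.symm), Equiv.Perm.coe_inv,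
      Equiv.symm_apply_apply]⟩
  refine ⟨h0, fun z hz => ?_⟩
  obtain ⟨g', hg', hgz⟩ := key z hz
  obtain ⟨w', hw', hwr⟩ := h0
  refine ⟨g' * w', mul_mem (hJ hg') hw', ?_⟩
  rw [Equiv.Perm.mul_apply, show w' v6 = ⟨r, hlt i hi⟩ from Fin.ext hwr]
  exact hgz

theorem eq_top_of_two (hW : W ≤ UU) (hJ : JJ ≤ W) {i j : ℕ} (hij : i < j) (hj : j < 10)
    (hi : InS W ((linesL.getD i []).getD 0 0)) (hj' : InS W ((linesL.getD j []).getD 0 0)) : W = UU := by
  have h := List.all_eq_true.1 pair_ok i (List.mem_range.2 (hij.trans hj))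
  rw [List.all_eq_true] at h
  have h := h j (List.mem_range.2 hj)
  rw [Bool.or_eq_true, decide_eq_true_eq, List.any_eq_true] at h
  obtain hle | ⟨s, -, hs⟩ := h
  · omega
  rw [Bool.and_eq_true] at hs
  have hm := hs.2
  split at hm
  · rename_i C hC
    simp only [List.any_eq_true, List.contains_eq_mem, decide_eq_true_eq] at hm
    obtain ⟨z, hz, hza⟩ := hm
    refine eq_top_of_aSet hW hJ hza (derive_sound (InS W) (fun a b i => inS_jmove hW hJ a b i) _ _ _ ?_ hC z hz)
    intro a ha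
    simp only [List.mem_cons, List.not_mem_nil, or_false] at ha
    rcases ha with rfl | rfl | rfl
    exacts [inS_six, hi, hj']
  · exact absurd hm (by simp)

theorem near_lt : ∀ z ∈ near, z < 275 := by decide +kernel

theorem small_index (hW : W ≤ UU) (hJ : JJ ≤ W) (hk : Nat.card UU ≤ 32 * Nat.card W) : W = UU := by
  classical
  by_contra hne
  have hA : ∀ z ∈ aSet, ¬ InS W z := fun z hz h => hne (eq_top_of_aSet hW hJ hz h)
  have hsplit : ∀ z, InS W z → z = 6 ∨ ∃ i < 10, z ∈ linesL.getD i [] := by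
    intro z hz
    have h := List.all_eq_true.1 nearSplit_ok z (inS_near hW hz)
    simp only [Bool.or_eq_true, beq_iff_eq, List.contains_eq_mem, decide_eq_true_eq, List.any_eq_true] at h
    rcases h with (h | h) | ⟨l, hl, hzl⟩
    · exact Or.inl h
    · exact absurd hz (hA z h)
    · obtain ⟨i, hi, rfl⟩ := List.getElem_of_mem hl
      exact Or.inr ⟨i, orbit_lengths.2.2.2 ▸ hi, by rwa [List.getD_eq_getElem _ _ hi]⟩
  by_cases h1 : ∀ z, InS W z → z = 6
  · have hle : W ≤ KK := fun w hw => mem_KK.2 ⟨hW hw, Fin.ext (h1 _ ⟨w, hw, rfl⟩)⟩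
    have h2 := Subgroup.card_le_of_le hle
    have h3 := KK_card_le
    have h4 : 1 ≤ Nat.card W := Nat.card_pos
    rw [UU_card] at hk
    omega
  · push Not at h1
    obtain ⟨z, hz, hz6⟩ := h1
    obtain ⟨i, hi, hzi⟩ := (hsplit z hz).resolve_left hz6
    obtain ⟨hrep, hall⟩ := line_rep hi hJ hzi hz
    have hS : ∀ y, InS W y ↔ y ∈ 6 :: linesL.getD i [] := by
      intro y
      constructor
      · intro hy
        rcases hsplit y hy with rfl | ⟨j, hj, hyj⟩
        · exact List.mem_cons_self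
        · obtain ⟨hrep', -⟩ := line_rep hj hJ hyj hy
          rcases lt_trichotomy i j with h | rfl | h
          · exact absurd (eq_top_of_two hW hJ h hj hrep hrep') hne
          · exact List.mem_cons_of_mem _ hyj
          · exact absurd (eq_top_of_two hW hJ h hi hrep' hrep) hne
      · intro hy
        rcases List.mem_cons.1 hy with rfl | hy
        exacts [inS_six, hall y hy]
    obtain ⟨hzs, h33, hl6, hl3, -⟩ := line_facts hi
    have hnd : (6 :: linesL.getD i []).Nodup := by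
      refine List.nodup_cons.2 ⟨fun h => (hl6 6 h).2 rfl, ?_⟩
      have : ∀ i < 10, (linesL.getD i []).Nodup := by decide +kernel
      exact this i hi
    let S : Finset Pt := Finset.univ.filter fun x : Pt => InS W (x : ℕ)
    let f : UU → ℕ := fun u => ∑ x ∈ S, 2 ^ ((u.1 x : Pt) : ℕ)
    have hinv : ∀ w ∈ W, S.image w = S := by
      intro w hw
      refine Finset.eq_of_subset_of_card_le (fun y hy => ?_) (le_of_eq (Finset.card_image_of_injective _ w.injective).symm)
      obtain ⟨x, hx, rfl⟩ := Finset.mem_image.1 hy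
      obtain ⟨w', hw', e⟩ := (Finset.mem_filter.1 hx).2
      exact Finset.mem_filter.2 ⟨Finset.mem_univ _, ⟨w * w', mul_mem hw hw', by
        rw [Equiv.Perm.mul_apply, Fin.ext e]⟩⟩
    have hcoset : ∀ a b : UU, (a.1)⁻¹ * b.1 ∈ W → f a = f b := by
      intro a b h
      show ∑ x ∈ S, 2 ^ ((a.1 x : Pt) : ℕ) = ∑ x ∈ S, 2 ^ ((b.1 x : Pt) : ℕ)
      conv_lhs => rw [← hinv _ h]
      rw [Finset.sum_image fun x _ y _ e => ((a.1)⁻¹ * b.1).injective e]
      refine Finset.sum_congr rfl fun x _ => ?_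
      rw [Equiv.Perm.mul_apply, Equiv.Perm.coe_inv, Equiv.apply_symm_apply]
    have himg : ∀ z ∈ lineImages.getD i [], ∃ u : UU, f u = lineImage (linesL.getD i []) z := by
      intro z hz
      obtain ⟨-, hl⟩ := trans_facts z (hzs z hz)
      refine ⟨⟨_, wd_UU hl⟩, ?_⟩
      rw [lineImage, ← List.sum_toFinset _ hnd]
      refine Finset.sum_bij (fun x _ => (x : ℕ)) (fun x hx => ?_) (fun a _ b _ e => Fin.ext e) (fun y hy => ?_)
        fun x hx => ?_
      · exact List.mem_toFinset.2 ((hS _).1 (Finset.mem_filter.1 hx).2)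
      · rw [List.mem_toFinset] at hy
        have h := (hS y).2 hy
        exact ⟨⟨y, near_lt y (inS_near hW h)⟩, Finset.mem_filter.2 ⟨Finset.mem_univ _, h⟩, rfl⟩
      · show 2 ^ ((wd _ x : Pt) : ℕ) = 2 ^ ev _ (x : ℕ)
        rw [wd_val _ hl]
    let F : UU ⧸ W.subgroupOf UU → ℕ := Quotient.lift f fun a b h => hcoset a b (by
      exact Subgroup.mem_subgroupOf.1 (QuotientGroup.leftRel_apply.1 h))
    have hcount : 33 ≤ (W.subgroupOf UU).index := by
      refine h33.trans ?_
      rw [← List.card_toFinset, ← Set.ncard_coe_finset, Subgroup.index]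
      refine le_trans ?_ (le_trans (Set.ncard_image_le (f := F) (s := Set.univ)) (le_of_eq (Set.ncard_univ _)))
      refine Set.ncard_le_ncard (fun v hv => ?_) (Set.toFinite _)
      rw [Finset.mem_coe, List.mem_toFinset, List.mem_map] at hv
      obtain ⟨z, hz, rfl⟩ := hv
      obtain ⟨u, hu⟩ := himg z hz
      exact ⟨QuotientGroup.mk u, trivial, hu⟩
    have hmul : (W.subgroupOf UU).index * Nat.card W = Nat.card UU := by
      rw [← Nat.card_congr (Subgroup.subgroupOfEquivOfLe hW).toEquiv, Subgroup.index_mul_card]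
    have h4 : 1 ≤ Nat.card W := Nat.card_pos
    have := Nat.mul_le_mul_right (Nat.card W) hcount
    omega

end Cfsg.Agent.FGS3.McLOut
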