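/-
Every automorphism of McL carries the stabiliser of a vertex to the stabiliser of a vertex.
-/
import Cfsg.Agent.FGS3.McLOutSmall

set_option autoImplicit false
set_option maxRecDepth 20000
set_option maxHeartbeats 200000

namespace Cfsg.Agent.FGS3.McLOut

open Cfsg

theorem card_sylow {G : Type*} [Group G] [Finite G] {m : ℕ} (hG : Nat.card G = 729 * m) (hm : ¬ 3 ∣ m)
    (P : Sylow 3 G) : Nat.card (P : Subgroup G) = 729 := by
  haveI : Fact (Nat.Prime 3) := ⟨by norm_num⟩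
  obtain ⟨k, hk⟩ := IsPGroup.iff_card.1 P.isPGroup'
  have h1 := (P : Subgroup G).card_mul_index
  rw [hG] at h1
  have hcop : ∀ n : ℕ, ¬ 3 ∣ n → ∀ l, Nat.Coprime (3 ^ l) n := fun n hn l =>
    Nat.Coprime.pow_left _ ((Nat.Prime.coprime_iff_not_dvd (by norm_num)).2 hn)
  refine Nat.dvd_antisymm ?_ ?_
  · refine Nat.Coprime.dvd_of_dvd_mul_right (n := m) ?_ (h1 ▸ dvd_mul_right _ _)
    rw [hk]
    exact hcop m hm k
  · refine Nat.Coprime.dvd_of_dvd_mul_right (n := (P : Subgroup G).index) ?_ (h1 ▸ dvd_mul_right _ _)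
    rw [show (729 : ℕ) = 3 ^ 6 by norm_num]
    exact hcop _ P.not_dvd_index 6

theorem conj_sylow {G : Type*} [Group G] [Finite G] {m : ℕ} (hG : Nat.card G = 729 * m) (hm : ¬ 3 ∣ m)
    {H P : Subgroup G} (hP : Nat.card P = 729) (hH : 729 ∣ Nat.card H) :
    ∃ g : G, ∀ x ∈ P, g⁻¹ * x * g ∈ H := by
  haveI : Fact (Nat.Prime 3) := ⟨by norm_num⟩
  obtain ⟨Q, hQ⟩ := Sylow.exists_subgroup_card_pow_prime (G := H) 3 (n := 6) (by norm_num; exact hH)
  have h3 : ∀ S : Subgroup G, Nat.card S = 729 → ∃ T : Sylow 3 G, (T : Subgroup G) = S := fun S hS => by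
    obtain ⟨T, hT⟩ := IsPGroup.exists_le_sylow (IsPGroup.of_card (n := 6) (by rw [hS]; norm_num) : IsPGroup 3 S)
    exact ⟨T, (Subgroup.eq_of_le_of_card_ge hT (by rw [hS, card_sylow hG hm])).symm⟩
  obtain ⟨S, hS⟩ := h3 (Q.map H.subtype) (by rw [Subgroup.card_map_of_injective H.subtype_injective, hQ]; norm_num)
  obtain ⟨T, hT⟩ := h3 P hP
  obtain ⟨g, hg⟩ := MulAction.exists_smul_eq G S T
  refine ⟨g, fun x hx => ?_⟩
  rw [← hT, ← hg, Sylow.coe_subgroup_smul, Subgroup.mem_pointwise_smul_iff_inv_smul_mem] at hx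
  rw [hS] at hx
  obtain ⟨y, -, hy⟩ := hx
  have e : g⁻¹ * x * g = ((MulAut.conj g)⁻¹ • x) := by simp [MulAut.smul_def, MulAut.conj_inv_apply]
  rw [e, ← hy]
  exact y.2

theorem KK_card : Nat.card KK = 729 * 40 := by
  obtain ⟨-, n1, n2, n3, n6⟩ := chain_nums
  have hc6 : cpt 0 = v6 := Fin.ext ((cpt_val (by norm_num)).trans n6)
  have ha : ∀ k < 4, 0 ≤ k → ∀ w ∈ (lev k).2.1, wd w ∈ MM :=
    fun k hk _ w hw => ((chain_facts.2 k hk).2 w hw).1.1
  have c1 := chain_lower ha (show 1 < 4 by norm_num) (Nat.zero_le _)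
  have c2 := chain_lower ha (show 2 < 4 by norm_num) (Nat.zero_le _)
  have c3 := chain_lower ha (show 3 < 4 by norm_num) (Nat.zero_le _)
  have p : 1 ≤ Nat.card (fixIn MM 4) := Nat.card_pos
  have hle : fixIn MM 1 ≤ KK := fun g hg => by
    obtain ⟨h1, h2⟩ := mem_fixIn.1 hg
    exact mem_KK.2 ⟨MM_le h1, hc6 ▸ h2 0 (by norm_num)⟩
  have e1 := Subgroup.card_le_of_le hle
  have hk := KK_card_le
  rw [n1] at c1
  rw [n2] at c2
  rw [n3] at c3
  simp only [Nat.reduceAdd] at c1 c2 c3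
  omega

theorem exists_PP : ∃ P : Subgroup (Equiv.Perm Pt), P ≤ KK ∧ JJ ≤ P ∧ Nat.card P = 729 := by
  haveI : Fact (Nat.Prime 3) := ⟨by norm_num⟩
  obtain ⟨Q, hQ⟩ := IsPGroup.exists_le_sylow
    (JJ_pgroup.of_equiv (Subgroup.subgroupOfEquivOfLe JJ_le).symm : IsPGroup 3 (JJ.subgroupOf KK))
  refine ⟨(Q : Subgroup KK).map KK.subtype, Subgroup.map_subtype_le _, fun j hj => ?_, ?_⟩
  · exact ⟨⟨j, JJ_le hj⟩, hQ (by simpa [Subgroup.mem_subgroupOf] using hj), rfl⟩
  · rw [Subgroup.card_map_of_injective KK.subtype_injective, card_sylow KK_card (by norm_num) Q]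

theorem UU_le : UU ≤ GG := inf_le_left

/-- The parts of the partition by the normal 3-subgroup. -/
def parts : List (List ℕ) := [0] :: [6] :: treePts orbA :: treePts orbB :: treePts orbC :: linesL

theorem parts_facts : parts.flatten.length = 275 ∧ parts.flatten.dedup.length = 275 ∧
    (∀ x ∈ parts.flatten, x < 275) ∧ (treePts orbA).length = 81 ∧ (treePts orbB).length = 81 ∧
    (treePts orbC).length = 81 ∧ ∀ i < 10, (linesL.getD i []).length = 3 := by decide +kernel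

/-- The number of members of a list in a set. -/
noncomputable def cntS (S : Finset Pt) (l : List ℕ) : ℕ := by
  classical exact (l.filter fun n => decide (Fin.ofNat 275 n ∈ S)).length

theorem cntS_def (S : Finset Pt) (l : List ℕ) :
    cntS S l = (l.filter fun n => decide (Fin.ofNat 275 n ∈ S)).length := by
  unfold cntS
  convert rfl

theorem card_parts (S : Finset Pt) : S.card = (parts.map (cntS S)).sum := by
  obtain ⟨hl, hd, hlt, -⟩ := parts_facts
  have hnd : parts.flatten.Nodup := by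
    rw [← List.dedup_eq_self]
    exact (List.dedup_sublist _).eq_of_length (by rw [hd, hl])
  have hall : parts.flatten.toFinset = Finset.range 275 :=
    Finset.eq_of_subset_of_card_le (fun x hx => Finset.mem_range.2 (hlt x (List.mem_toFinset.1 hx)))
      (by rw [List.toFinset_card_of_nodup hnd, hl, Finset.card_range])
  have e : cntS S parts.flatten = (parts.map (cntS S)).sum := by
    rw [cntS_def, List.filter_flatten, List.length_flatten, List.map_map]
    exact congrArg List.sum (List.map_congr_left fun l _ => (cntS_def S l).symm)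
  rw [← e, cntS_def, ← List.toFinset_card_of_nodup (hnd.filter _)]
  refine Finset.card_bij (fun (x : Pt) _ => (x : ℕ)) (fun x hx => ?_) (fun a _ b _ h => Fin.ext h) fun n hn => ?_
  · rw [List.mem_toFinset, List.mem_filter]
    refine ⟨List.mem_toFinset.1 (hall ▸ Finset.mem_range.2 x.2), ?_⟩
    rw [decide_eq_true_eq, show Fin.ofNat 275 (x : ℕ) = x from Fin.ext (Nat.mod_eq_of_lt x.2)]
    exact hx
  · rw [List.mem_toFinset, List.mem_filter, decide_eq_true_eq] at hn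
    exact ⟨_, hn.2, Nat.mod_eq_of_lt (hlt n hn.1)⟩

theorem cntS_trans {S : Finset Pt} {H : Subgroup (Equiv.Perm Pt)} (hS : ∀ g ∈ H, ∀ x ∈ S, g x ∈ S) {l : List ℕ}
    {r : Pt} (hl : ∀ z ∈ l, ∃ g ∈ H, (g r : ℕ) = z) : cntS S l = 0 ∨ cntS S l = l.length := by
  have key : ∀ z ∈ l, (Fin.ofNat 275 z ∈ S ↔ r ∈ S) := by
    intro z hz
    obtain ⟨g, hg, rfl⟩ := hl z hz
    rw [show Fin.ofNat 275 (g r : ℕ) = g r from Fin.ext (Nat.mod_eq_of_lt (g r).2)]
    refine ⟨fun h => ?_, hS g hg r⟩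
    have := hS g⁻¹ (inv_mem hg) _ h
    rwa [Equiv.Perm.coe_inv, Equiv.symm_apply_apply] at this
  rw [cntS_def]
  by_cases hr : r ∈ S
  · right
    rw [List.filter_eq_self.2 fun z hz => decide_eq_true ((key z hz).2 hr)]
  · left
    rw [List.length_eq_zero_iff, List.filter_eq_nil_iff]
    exact fun z hz h => hr ((key z hz).1 (of_decide_eq_true h))

theorem orbit_abc {S : Finset Pt} (hS : ∀ g ∈ JJ, ∀ x ∈ S, g x ∈ S) {l : List (ℕ × ℕ × ℕ)} {r : ℕ} (hr : r < 275)
    (hl : treeChk [[0], [1], [2], [3]] r l = true) (h81 : (treePts l).length = 81) :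
    cntS S (treePts l) = 0 ∨ cntS S (treePts l) = 81 := by
  rw [← h81]
  refine cntS_trans hS (r := ⟨r, hr⟩) (tree_reach' hl (by decide) (S := JJ) (fun w hw => ?_) _ rfl)
  have e1 : ∀ k, wd [k] = gp k := fun k => by simp [wd]
  simp only [List.mem_cons, List.not_mem_nil, or_false] at hw
  rcases hw with rfl | rfl | rfl | rfl <;> (rw [e1]; exact gp_JJ (by norm_num))

theorem line_trans {i : ℕ} (hi : i < 10) (hlt : (linesL.getD i []).getD 0 0 < 275) :
    ∀ z ∈ linesL.getD i [], ∃ g ∈ JJ, (g ⟨_, hlt⟩ : ℕ) = z := by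
  obtain ⟨-, -, -, -, hlin⟩ := line_facts hi
  intro z hz
  obtain ⟨k, hk, rfl⟩ := List.getElem_of_mem hz
  obtain ⟨e, he, hor⟩ := hlin k (parts_facts.2.2.2.2.2.2 i hi ▸ hk)
  rw [List.getD_eq_getElem _ _ hk] at hor
  have hw : ∀ (a b : ℕ), a < 4 → b < 4 → ∀ l ∈ List.replicate (e / 3) a ++ List.replicate (e % 3) b, l < 4 := by
    intro a b ha hb l hl
    simp only [List.mem_append, List.mem_replicate] at hl
    omega
  have hgen : ∀ v : List ℕ, (∀ l ∈ v, l < 4) → ev v ((linesL.getD i []).getD 0 0) = (linesL.getD i [])[k] →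
      ∃ g ∈ JJ, (g ⟨_, hlt⟩ : ℕ) = (linesL.getD i [])[k] := fun v hv hev =>
    ⟨wd v, list_prod_mem fun x hx => by
      obtain ⟨l, hl, rfl⟩ := List.mem_map.1 hx
      exact gp_JJ (hv l hl), by rw [wd_val _ fun l hl => Nat.lt_succ_of_lt (hv l hl)]; exact hev⟩
  rcases hor with hor | hor
  · exact hgen _ (hw 0 1 (by norm_num) (by norm_num)) hor
  · exact hgen _ (hw 2 3 (by norm_num) (by norm_num)) hor

theorem three_dvd_sum : ∀ (L : List ℕ), (∀ x ∈ L, x = 0 ∨ x = 3) → ∃ i ≤ L.length, L.sum = 3 * i := by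
  intro L
  induction L with
  | nil => exact fun _ => ⟨0, le_rfl, rfl⟩
  | cons a L ih =>
    intro h
    obtain ⟨i, hi, e⟩ := ih fun x hx => h x (List.mem_cons_of_mem _ hx)
    rcases h a List.mem_cons_self with rfl | rfl
    · exact ⟨i, by simp; omega, by simp [e]⟩
    · exact ⟨i + 1, by simp; omega, by simp [e]; omega⟩

/-- The shape of a set invariant under the normal 3-subgroup. -/
theorem inv_shape {S : Finset Pt} (hS : ∀ g ∈ JJ, ∀ x ∈ S, g x ∈ S) :
    ∃ j ≤ 3, ∃ i ≤ 10, (linesL.map (cntS S)).sum = 3 * i ∧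
      S.card = cntS S [0] + cntS S [6] + 81 * j + 3 * i := by
  obtain ⟨-, -, -, hA, hB, hC, hL⟩ := parts_facts
  have hlts : aSet.getD 0 0 < 275 ∧ (treePts orbB).getD 0 0 < 275 ∧ (treePts orbC).getD 0 0 < 275 ∧
      linesL.length = 10 ∧ ∀ i < 10, (linesL.getD i []).getD 0 0 < 275 := by decide +kernel
  obtain ⟨la, lb, lc, llen, ll⟩ := hlts
  have a := orbit_abc hS la orbits_facts.1 hA
  have b := orbit_abc hS lb orbits_facts.2.1 hB
  have c := orbit_abc hS lc orbits_facts.2.2.1 hC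
  obtain ⟨i, hi, he⟩ := three_dvd_sum (linesL.map (cntS S)) fun x hx => by
    obtain ⟨l, hl, rfl⟩ := List.mem_map.1 hx
    obtain ⟨i, hi, rfl⟩ := List.getElem_of_mem hl
    have hi10 : i < 10 := llen ▸ hi
    have := cntS_trans hS (line_trans hi10 (ll i hi10))
    rwa [hL i hi10, List.getD_eq_getElem _ _ hi] at this
  rw [List.length_map, llen] at hi
  refine ⟨(cntS S (treePts orbA) + cntS S (treePts orbB) + cntS S (treePts orbC)) / 81, by omega, i, hi, he, ?_⟩
  rw [card_parts, parts]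
  simp only [List.map_cons, List.sum_cons]
  rw [he]
  omega

theorem cntS_single (S : Finset Pt) (x : Pt) : (x ∈ S → cntS S [(x : ℕ)] = 1) ∧ (x ∉ S → cntS S [(x : ℕ)] = 0) := by
  rw [cntS_def]
  have e : Fin.ofNat 275 (x : ℕ) = x := Fin.ext (Nat.mod_eq_of_lt x.2)
  constructor <;> intro h <;> simp [List.filter_cons, e, h]

theorem lines_disjoint {S T : Finset Pt} (h : ∀ x ∈ S, x ∉ T) :
    (linesL.map (cntS S)).sum + (linesL.map (cntS T)).sum ≤ 30 := by
  have key : ∀ l : List ℕ, cntS S l + cntS T l ≤ l.length := by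
    intro l
    rw [cntS_def, cntS_def]
    induction l with
    | nil => simp
    | cons a l ih =>
      rw [List.filter_cons, List.filter_cons, List.length_cons]
      by_cases ha : Fin.ofNat 275 a ∈ S
      · rw [if_pos (decide_eq_true ha), if_neg fun c => h _ ha (of_decide_eq_true c), List.length_cons]
        omega
      · rw [if_neg fun c => ha (of_decide_eq_true c)]
        by_cases hb : Fin.ofNat 275 a ∈ T
        · rw [if_pos (decide_eq_true hb), List.length_cons]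
          omega
        · rw [if_neg fun c => hb (of_decide_eq_true c)]
          omega
  have hgen : ∀ L : List (List ℕ), (L.map (cntS S)).sum + (L.map (cntS T)).sum ≤ (L.map List.length).sum := by
    intro L
    induction L with
    | nil => simp
    | cons a L ih => simp only [List.map_cons, List.sum_cons]; have := key a; omega
  exact (hgen linesL).trans (by decide +kernel)

theorem arith_one' : ((List.range 2).all fun e => (List.range 4).all fun j => (List.range 11).all fun i =>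
    decide (4480 % (1 + e + 81 * j + 3 * i) = 0 → 1 + e + 81 * j + 3 * i ≤ 32 ∨ (e = 0 ∧ i = 10))) = true := by
  decide +kernel

theorem arith_one (e : ℕ) (he : e ≤ 1) (j : ℕ) (hj : j ≤ 3) (i : ℕ) (hi : i ≤ 10)
    (h : (1 + e + 81 * j + 3 * i) ∣ 4480) : 1 + e + 81 * j + 3 * i ≤ 32 ∨ (e = 0 ∧ i = 10) :=
  of_decide_eq_true (List.all_eq_true.1 (List.all_eq_true.1 (List.all_eq_true.1 arith_one' e
    (List.mem_range.2 (Nat.lt_succ_of_le he))) j (List.mem_range.2 (Nat.lt_succ_of_le hj))) i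
    (List.mem_range.2 (Nat.lt_succ_of_le hi))) (Nat.mod_eq_zero_of_dvd h)

theorem arith_two' : ∀ j < 4, 4480 % (1 + 81 * j) = 0 → 1 + 81 * j ≤ 32 := by decide +kernel

theorem arith_two (j : ℕ) (hj : j ≤ 3) (h : (1 + 81 * j) ∣ 4480) : 1 + 81 * j ≤ 32 :=
  arith_two' j (Nat.lt_succ_of_le hj) (Nat.mod_eq_zero_of_dvd h)

theorem orbit_count {G α : Type*} [Group G] [Finite G] (ψ : G →* Equiv.Perm α) (a : α) :
    (Set.range fun u : G => ψ u a).ncard * Nat.card ((MulAction.stabilizer (Equiv.Perm α) a).comap ψ) =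
      Nat.card G := by
  letI : MulAction G α := MulAction.compHom α ψ
  have e : (MulAction.stabilizer (Equiv.Perm α) a).comap ψ = MulAction.stabilizer G a := by
    ext u
    exact Iff.rfl
  have e' : (Set.range fun u : G => ψ u a) = MulAction.orbit G a := rfl
  rw [e, e', ← Nat.card_coe_set_eq, Nat.card_congr (MulAction.orbitEquivQuotientStabilizer G a),
    ← Subgroup.index, Subgroup.index_mul_card]

/-- The orbit of a vertex under the image of the stabiliser. -/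
theorem orbit_data (ψ : UU →* Equiv.Perm Pt) (P : Subgroup (Equiv.Perm Pt)) (hJP : JJ ≤ P)
    (hPψ : ∀ p ∈ P, ∃ u : UU, ψ u = p) (hP : Nat.card P = 729) (hinj : Function.Injective ψ) (a : Pt)
    (ha : ∀ p ∈ P, p a = a) :
    ∃ (W : Subgroup (Equiv.Perm Pt)) (S : Finset Pt), W ≤ UU ∧ (∀ u : UU, u.1 ∈ W ↔ ψ u a = a) ∧
      729 ∣ Nat.card W ∧ S.card * Nat.card W = Nat.card UU ∧ S.card ∣ 4480 ∧ a ∈ S ∧
      (∀ x, x ∈ S ↔ ∃ u, ψ u a = x) ∧ ∀ g ∈ JJ, ∀ x ∈ S, g x ∈ S := by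
  classical
  let A : Subgroup UU := (MulAction.stabilizer (Equiv.Perm Pt) a).comap ψ
  obtain ⟨S, hmemS⟩ : ∃ S : Finset Pt, ∀ x, x ∈ S ↔ ∃ u, ψ u a = x :=
    ⟨(Set.toFinite (Set.range fun u : UU => ψ u a)).toFinset, fun x => Set.Finite.mem_toFinset _⟩
  have hcard : S.card * Nat.card A = Nat.card UU := by
    rw [← orbit_count ψ a, ← Set.ncard_coe_finset]
    congr 2
    ext x
    rw [Finset.mem_coe, hmemS]
    exact Iff.rfl
  have hdvd : 729 ∣ Nat.card A := by
    have hle : P.comap ψ ≤ A := fun u hu => MulAction.mem_stabilizer_iff.2 (ha _ hu)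
    have e : Nat.card (P.comap ψ) = 729 := by
      rw [← hP]
      refine Nat.card_congr (Equiv.ofBijective (fun u => (⟨ψ u.1, u.2⟩ : P)) ⟨fun u v h =>
        Subtype.ext (hinj (congrArg Subtype.val h)), fun p => ?_⟩)
      obtain ⟨u, hu⟩ := hPψ p.1 p.2
      exact ⟨⟨u, show ψ u ∈ P from hu ▸ p.2⟩, Subtype.ext hu⟩
    exact e ▸ Subgroup.card_dvd_of_le hle
  refine ⟨A.map UU.subtype, S, Subgroup.map_subtype_le _, fun u => ?_, ?_, ?_, ?_, (hmemS a).2 ⟨1, by rw [map_one]; rfl⟩,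
    hmemS, fun g hg x hx => ?_⟩
  · refine ⟨?_, fun h => ⟨u, MulAction.mem_stabilizer_iff.2 h, rfl⟩⟩
    rintro ⟨v, hv, e⟩
    rw [← Subtype.ext e (a1 := v) (a2 := u)]
    exact MulAction.mem_stabilizer_iff.1 hv
  · rwa [Subgroup.card_map_of_injective UU.subtype_injective]
  · rwa [Subgroup.card_map_of_injective UU.subtype_injective]
  · obtain ⟨c, hc⟩ := hdvd
    rw [hc, UU_card, ← mul_assoc, mul_comm S.card, mul_assoc] at hcard
    exact ⟨c, by omega⟩
  · obtain ⟨u, rfl⟩ := (hmemS x).1 hx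
    obtain ⟨v, hv⟩ := hPψ g (hJP hg)
    exact (hmemS _).2 ⟨v * u, by rw [map_mul, hv]; rfl⟩

/-- A stabiliser of small index is everything. -/
theorem small_whole {W : Subgroup (Equiv.Perm Pt)} (hW : W ≤ UU) (h729 : 729 ∣ Nat.card W)
    (hk : Nat.card UU ≤ 32 * Nat.card W) : W = UU := by
  obtain ⟨P, hPK, hJP, hP⟩ := exists_PP
  have hPU : P ≤ UU := hPK.trans inf_le_left
  obtain ⟨g, hg⟩ := conj_sylow (G := UU) (m := 4480) (by rw [UU_card]) (by norm_num)
    (H := W.subgroupOf UU) (P := P.subgroupOf UU)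
    (by rw [Nat.card_congr (Subgroup.subgroupOfEquivOfLe hPU).toEquiv, hP])
    (by rwa [Nat.card_congr (Subgroup.subgroupOfEquivOfLe hW).toEquiv])
  let W' := W.map (MulAut.conj g.1).toMonoidHom
  have hW' : W' ≤ UU := by
    rintro _ ⟨w, hw, rfl⟩
    exact mul_mem (mul_mem g.2 (hW hw)) (inv_mem g.2)
  have hJW : JJ ≤ W' := fun j hj => by
    have := hg ⟨j, hPU (hJP hj)⟩ (Subgroup.mem_subgroupOf.2 (hJP hj))
    refine ⟨_, Subgroup.mem_subgroupOf.1 this, ?_⟩
    show g.1 * (g.1⁻¹ * j * g.1) * g.1⁻¹ = j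
    group
  have hc : Nat.card W' = Nat.card W := Subgroup.card_map_of_injective (MulAut.conj g.1).injective
  have := small_index hW' hJW (hc ▸ hk)
  refine Subgroup.eq_of_le_of_card_ge hW ?_
  rw [← hc, this]

/-- The image of the stabiliser fixes one of the two vertices of the edge. -/
theorem fixes_end (ψ : UU →* Equiv.Perm Pt) (hinj : Function.Injective ψ) (P : Subgroup (Equiv.Perm Pt))
    (hPK : P ≤ KK) (hJP : JJ ≤ P) (hP : Nat.card P = 729) (hPψ : ∀ p ∈ P, ∃ u : UU, ψ u = p) :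
    ∃ a : Pt, ∀ u : UU, ψ u a = a := by
  have hfix0 : ∀ p ∈ P, p v0 = v0 := fun p hp => (mem_UU.1 (mem_KK.1 (hPK hp)).1).2
  have hfix6 : ∀ p ∈ P, p v6 = v6 := fun p hp => (mem_KK.1 (hPK hp)).2
  obtain ⟨W, S, hWU, hmW, hW729, hSW, hSd, haS, hmS, hSJ⟩ := orbit_data ψ P hJP hPψ hP hinj v0 hfix0
  obtain ⟨W', T, hWU', hmW', hW729', hTW, hTd, hbT, hmT, hTJ⟩ := orbit_data ψ P hJP hPψ hP hinj v6 hfix6
  by_contra hno
  push Not at hno
  have big : ∀ {a : Pt} {V : Subgroup (Equiv.Perm Pt)} {R : Finset Pt}, V ≤ UU →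
      (∀ u : UU, u.1 ∈ V ↔ ψ u a = a) → 729 ∣ Nat.card V → R.card * Nat.card V = Nat.card UU →
      ¬ R.card ≤ 32 := by
    intro a V R hV hm h729 hR hle
    have := small_whole hV h729 (hR ▸ Nat.mul_le_mul_right _ hle)
    obtain ⟨u, hu⟩ := hno a
    exact hu ((hm u).1 (this.symm ▸ u.2))
  obtain ⟨j, hj, i, hi, hiS, hSc⟩ := inv_shape hSJ
  obtain ⟨j', hj', i', hi', hiT, hTc⟩ := inv_shape hTJ
  rw [show (0 : ℕ) = ((v0 : Pt) : ℕ) from rfl, (cntS_single S v0).1 haS] at hSc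
  rw [show (6 : ℕ) = ((v6 : Pt) : ℕ) from rfl] at hSc hTc
  rw [(cntS_single T v6).1 hbT] at hTc
  obtain ⟨e, he, heS⟩ : ∃ e ≤ 1, cntS S [((v6 : Pt) : ℕ)] = e ∧ (e = 0 → v6 ∉ S) := by
    by_cases h : v6 ∈ S
    · exact ⟨1, le_rfl, (cntS_single S v6).1 h, fun h => absurd h one_ne_zero⟩
    · exact ⟨0, zero_le_one, (cntS_single S v6).2 h, fun _ => h⟩
  rw [heS.1] at hSc
  rcases arith_one e he j hj i hi (hSc ▸ hSd) with h | ⟨rfl, rfl⟩
  · exact big hWU hmW hW729 hSW (hSc ▸ h)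
  have h6 : v6 ∉ S := heS.2 rfl
  have hdis : ∀ x ∈ S, x ∉ T := by
    intro x hx hx'
    obtain ⟨u, hu⟩ := (hmS x).1 hx
    obtain ⟨v, hv⟩ := (hmT x).1 hx'
    refine h6 ((hmS _).2 ⟨v⁻¹ * u, ?_⟩)
    rw [map_mul, map_inv, Equiv.Perm.mul_apply, hu, ← hv]
    exact (ψ v).symm_apply_apply _
  have hl := lines_disjoint hdis
  rw [hiS, hiT] at hl
  have h0 : cntS T [((v0 : Pt) : ℕ)] = 0 := (cntS_single T v0).2 (hdis v0 haS)
  rw [show (0 : ℕ) = ((v0 : Pt) : ℕ) from rfl, h0] at hTc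
  have hTc' : T.card = 1 + 81 * j' := by
    rw [hTc]
    have : ((v0 : Pt) : ℕ) = 0 := rfl
    omega
  exact big hWU' hmW' hW729' hTW (hTc' ▸ arith_two j' hj' (hTc' ▸ hTd))

/-- An automorphism maps the stabiliser of the base vertex to the stabiliser of a vertex. -/
theorem exists_fixed_point (φ : MulAut GG) : ∃ b : Pt, ∀ h : GG, h.1 v0 = v0 ↔ (φ h).1 b = b := by
  obtain ⟨P, hPK, hJP, hP⟩ := exists_PP
  have hPU : P ≤ UU := hPK.trans inf_le_left
  let U' := UU.subgroupOf GG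
  have hU' : Nat.card (U'.map φ.toMonoidHom) = 3265920 := by
    rw [Subgroup.card_map_of_injective φ.injective, Nat.card_congr (Subgroup.subgroupOfEquivOfLe UU_le).toEquiv,
      UU_card]
  obtain ⟨g, hg⟩ := conj_sylow (G := GG) (m := 1232000) (by rw [GG_card]) (by norm_num)
    (H := U'.map φ.toMonoidHom) (P := P.subgroupOf GG)
    (by rw [Nat.card_congr (Subgroup.subgroupOfEquivOfLe (hPU.trans UU_le)).toEquiv, hP])
    (by rw [hU']; norm_num)
  let χ : MulAut GG := φ.trans (MulAut.conj g)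
  let ψ : UU →* Equiv.Perm Pt := (GG.subtype.comp χ.toMonoidHom).comp (Subgroup.inclusion UU_le)
  have hinj : Function.Injective ψ :=
    (Subtype.coe_injective.comp χ.injective).comp (Subgroup.inclusion_injective UU_le)
  have hPψ : ∀ p ∈ P, ∃ u : UU, ψ u = p := by
    intro p hp
    obtain ⟨v, hv, e⟩ := hg ⟨p, UU_le (hPU hp)⟩ (Subgroup.mem_subgroupOf.2 hp)
    refine ⟨⟨v.1, Subgroup.mem_subgroupOf.1 hv⟩, ?_⟩
    show ((g * φ v * g⁻¹ : GG) : Equiv.Perm Pt) = p
    rw [show φ v = g⁻¹ * ⟨p, UU_le (hPU hp)⟩ * g from e]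
    simp [mul_assoc]
  obtain ⟨a, ha⟩ := fixes_end ψ hinj P hPK hJP hP hPψ
  refine ⟨(g.1)⁻¹ a, fun h => ?_⟩
  let St : Subgroup GG := (MulAction.stabilizer (Equiv.Perm Pt) ((g.1)⁻¹ a)).comap GG.subtype
  have hle : U'.map φ.toMonoidHom ≤ St := by
    rintro _ ⟨v, hv, rfl⟩
    show (φ v).1 ((g.1)⁻¹ a) = (g.1)⁻¹ a
    have h1 : (g * φ v * g⁻¹ : GG).1 a = a := ha ⟨v.1, Subgroup.mem_subgroupOf.1 hv⟩
    rw [Subgroup.coe_mul, Subgroup.coe_mul, Subgroup.coe_inv, Equiv.Perm.mul_apply, Equiv.Perm.mul_apply] at h1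
    conv_rhs => rw [← h1]
    exact (g.1.symm_apply_apply _).symm
  have hSt : Nat.card St ≤ 3265920 := by
    obtain ⟨t, ht⟩ := rho_transitive ((g.1)⁻¹ a)
    let c : St → UU := fun s => ⟨(rho t)⁻¹ * s.1.1 * rho t, mem_UU.2
      ⟨mul_mem (mul_mem (inv_mem ⟨t, rfl⟩) s.1.2) ⟨t, rfl⟩, by
        have hs : s.1.1 ((g.1)⁻¹ a) = (g.1)⁻¹ a := s.2
        rw [Equiv.Perm.mul_apply, Equiv.Perm.mul_apply, show rho t v0 = _ from ht, hs, ← ht]
        exact (rho t).symm_apply_apply _⟩⟩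
    rw [← UU_card]
    refine Nat.card_le_card_of_injective c fun x y e => Subtype.ext (Subtype.ext ?_)
    exact mul_left_cancel (mul_right_cancel (congrArg Subtype.val e))
  have heq : U'.map φ.toMonoidHom = St := Subgroup.eq_of_le_of_card_ge hle (hU' ▸ hSt)
  have h1 : h ∈ U' ↔ φ h ∈ St := by
    rw [← heq]
    exact (Subgroup.mem_map_iff_mem (f := φ.toMonoidHom) φ.injective).symm
  exact ⟨fun e => h1.1 (Subgroup.mem_subgroupOf.2 (mem_UU.2 ⟨h.2, e⟩)), fun e =>
    (mem_UU.1 (Subgroup.mem_subgroupOf.1 (h1.2 e))).2⟩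

end Cfsg.Agent.FGS3.McLOut
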