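/-
The outer automorphism group of the McLaughlin group has order two.
-/
import Cfsg.Agent.FGS3.McLOutFixed
import Cfsg.Prelude.Def_KGroupFacts

set_option autoImplicit false
set_option maxRecDepth 20000
set_option maxHeartbeats 400000

namespace Cfsg.Agent.FGS3.McLOut

open Cfsg

theorem gens8_UU : ∀ w ∈ gens8, wd w ∈ UU := fun w hw => wd_UU (gens8_lt w hw)

theorem exists_suborbit {y y' : Pt} (hy : y ≠ v0) (hy' : y' ≠ v0) (h : adjB v0 y = adjB v0 y') :
    ∃ u ∈ UU, u y = y' := by
  obtain ⟨-, -, -, hF, -, -, -, h8⟩ := orbits_facts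
  by_cases hb : adjB v0 y = true
  · have hx : ∀ z : Pt, adjB v0 z = true → ∃ u ∈ UU, u v6 = z := by
      intro z hz
      have hzn : (z : ℕ) ∈ treePts (lev 0).2.2 := ((h8 z z.2).1).2 hz
      obtain ⟨g, hg, e⟩ := tree_reach' (chain_facts.2 0 (by norm_num)).1
        (fun w hw => ((chain_facts.2 0 (by norm_num)).2 w hw).1.2) (S := UU)
        (fun w hw => MM_le ((chain_facts.2 0 (by norm_num)).2 w hw).1.1) v6 chain_nums.2.2.2.2.symm (z : ℕ) hzn
      exact ⟨g, hg, Fin.ext e⟩
    obtain ⟨u, hu, rfl⟩ := hx y hb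
    obtain ⟨v, hv, rfl⟩ := hx y' (h ▸ hb)
    exact ⟨v * u⁻¹, mul_mem hv (inv_mem hu), by
      rw [Equiv.Perm.mul_apply, Equiv.Perm.coe_inv, Equiv.symm_apply_apply]⟩
  · have hlt : (treePts orbFar).getD 0 0 < 275 := by decide +kernel
    have hx : ∀ z : Pt, z ≠ v0 → adjB v0 z ≠ true → ∃ u ∈ UU, u ⟨_, hlt⟩ = z := by
      intro z hz hz'
      have hzn : (z : ℕ) ∈ treePts orbFar :=
        ((h8 z z.2).2).2 ⟨fun e => hz (Fin.ext e), Bool.eq_false_iff.2 hz'⟩
      obtain ⟨g, hg, e⟩ := tree_reach' hF gens8_lt gens8_UU ⟨_, hlt⟩ rfl (z : ℕ) hzn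
      exact ⟨g, hg, Fin.ext e⟩
    obtain ⟨u, hu, rfl⟩ := hx y hy hb
    obtain ⟨v, hv, rfl⟩ := hx y' hy' (h ▸ hb)
    exact ⟨v * u⁻¹, mul_mem hv (inv_mem hu), by
      rw [Equiv.Perm.mul_apply, Equiv.Perm.coe_inv, Equiv.symm_apply_apply]⟩

/-- The neighbours of a vertex. -/
def nbrs (x : Pt) : Finset Pt := Finset.univ.filter fun y => adjB x y = true

theorem nbrs_base : (nbrs v0).card = 112 := by decide +kernel

theorem irrefl_base : adjB v0 v0 = false := by decide +kernel

theorem nbrs_card (x : Pt) : (nbrs x).card = 112 := by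
  obtain ⟨t, ht⟩ := rho_transitive x
  have hA : rho t ∈ AutG := GG_le ⟨t, rfl⟩
  rw [← nbrs_base]
  refine (Finset.card_bij (fun y _ => rho t y) (fun y hy => ?_) (fun a _ b _ e => (rho t).injective e)
    fun z hz => ?_).symm
  · rw [nbrs, Finset.mem_filter] at hy ⊢
    refine ⟨Finset.mem_univ _, ?_⟩
    rw [← ht, mem_AutG.1 hA]
    exact hy.2
  · rw [nbrs, Finset.mem_filter] at hz
    obtain ⟨y, rfl⟩ := (rho t).surjective z
    rw [← ht, mem_AutG.1 hA] at hz
    exact ⟨y, Finset.mem_filter.2 ⟨Finset.mem_univ _, hz.2⟩, rfl⟩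

theorem move (x : Pt) : ∃ h : GG, h.1 v0 = x := by
  obtain ⟨t, ht⟩ := rho_transitive x
  exact ⟨⟨rho t, t, rfl⟩, ht⟩

/-- Every automorphism is conjugation by an automorphism of the graph. -/
theorem exists_aut (φ : MulAut GG) :
    ∃ σ : Equiv.Perm Pt, σ ∈ AutG ∧ ∀ h : GG, (φ h).1 = σ * h.1 * σ⁻¹ := by
  classical
  obtain ⟨b, hst⟩ := exists_fixed_point φ
  choose t ht using move
  let f : Pt → Pt := fun x => (φ (t x)).1 b
  have hf : ∀ h : GG, f (h.1 v0) = (φ h).1 b := fun h => by
    have h1 := (hst ((t (h.1 v0))⁻¹ * h)).1 (by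
      rw [Subgroup.coe_mul, Subgroup.coe_inv, Equiv.Perm.mul_apply]
      conv_lhs => arg 2; rw [← ht (h.1 v0)]
      exact Equiv.symm_apply_apply _ _)
    rw [map_mul, map_inv, Subgroup.coe_mul, Subgroup.coe_inv, Equiv.Perm.mul_apply] at h1
    show (φ (t (h.1 v0))).1 b = (φ h).1 b
    conv_lhs => rw [← h1]
    exact (φ (t (h.1 v0))).1.apply_symm_apply _
  have hinj : Function.Injective f := fun x y e => by
    have h1 := (hst ((t x)⁻¹ * t y)).2 (by
      rw [map_mul, map_inv, Subgroup.coe_mul, Subgroup.coe_inv, Equiv.Perm.mul_apply,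
        ← show (φ (t x)).1 b = (φ (t y)).1 b from e]
      exact Equiv.symm_apply_apply _ _)
    rw [Subgroup.coe_mul, Subgroup.coe_inv, Equiv.Perm.mul_apply, ht] at h1
    rw [← ht x]
    conv_lhs => rw [← h1]
    exact (t x).1.apply_symm_apply y
  have hequiv : ∀ (h : GG) (x : Pt), f (h.1 x) = (φ h).1 (f x) := fun h x => by
    obtain ⟨k, rfl⟩ := move x
    rw [← Equiv.Perm.mul_apply, ← Subgroup.coe_mul, hf, hf, map_mul, Subgroup.coe_mul, Equiv.Perm.mul_apply]
  have hbase : f v0 = b := by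
    have := hf 1
    rwa [map_one, OneMemClass.coe_one, Equiv.Perm.one_apply] at this
  have hbij : Function.Bijective f := Finite.injective_iff_bijective.1 hinj
  have hirr : adjB b b = false := by
    obtain ⟨k, rfl⟩ := move b
    rw [mem_AutG.1 (GG_le k.2), irrefl_base]
  have hadj0 : ∀ y, adjB b (f y) = adjB v0 y := by
    set P : Finset Pt := Finset.univ.filter fun y => adjB b (f y) = true
    have hP : P.card = 112 := by
      rw [← nbrs_card b]
      refine Finset.card_bij (fun y _ => f y) (fun y hy => ?_) (fun a _ c _ e => hinj e) fun z hz => ?_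
      · simpa [P, nbrs] using hy
      · obtain ⟨y, rfl⟩ := hbij.2 z
        exact ⟨y, by simpa [P, nbrs] using hz, rfl⟩
    have hconst : ∀ y y', y ≠ v0 → y' ≠ v0 → adjB v0 y = adjB v0 y' → y ∈ P → y' ∈ P := by
      intro y y' hy hy' h hyP
      obtain ⟨k, hk, k2⟩ := exists_suborbit hy hy' h
      let k' : GG := ⟨k, UU_le hk⟩
      rw [Finset.mem_filter] at hyP ⊢
      refine ⟨Finset.mem_univ _, ?_⟩
      rw [← k2, show k y = k'.1 y from rfl, hequiv, ← (hst k').1 (mem_UU.1 hk).2,
        mem_AutG.1 (GG_le (φ k').2)]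
      exact hyP.2
    have hbP : v0 ∉ P := by simp [P, hbase, hirr]
    have hbN : v0 ∉ nbrs v0 := by simp [nbrs, irrefl_base]
    suffices e : P = nbrs v0 by
      intro y
      rw [Bool.eq_iff_iff]
      simpa [P, nbrs] using Finset.ext_iff.1 e y
    by_cases hex : ∃ y ∈ P, y ∈ nbrs v0
    · obtain ⟨y, hyP, hyN⟩ := hex
      refine (Finset.eq_of_subset_of_card_le (fun z hz => ?_) (by rw [hP, nbrs_base])).symm
      exact hconst y z (ne_of_mem_of_not_mem hyN hbN) (ne_of_mem_of_not_mem hz hbN)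
        ((Finset.mem_filter.1 hyN).2.trans (Finset.mem_filter.1 hz).2.symm) hyP
    · exfalso
      push Not at hex
      obtain ⟨y, hy⟩ : P.Nonempty := Finset.card_pos.1 (by omega)
      have hy' : adjB v0 y = false := by simpa [nbrs] using hex y hy
      have hsub : (Finset.univ.erase v0) \ nbrs v0 ⊆ P := fun z hz => by
        rw [Finset.mem_sdiff, Finset.mem_erase] at hz
        exact hconst y z (ne_of_mem_of_not_mem hy hbP) hz.1.1
          (hy'.trans (Eq.symm (by simpa [nbrs] using hz.2))) hy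
      have := Finset.card_le_card hsub
      rw [Finset.card_sdiff_of_subset fun z hz =>
          Finset.mem_erase.2 ⟨ne_of_mem_of_not_mem hz hbN, Finset.mem_univ _⟩,
        Finset.card_erase_of_mem (Finset.mem_univ _), Finset.card_univ, Fintype.card_fin, nbrs_base] at this
      omega
  refine ⟨Equiv.ofBijective f hbij, mem_AutG.2 fun x y => ?_, fun h => Equiv.ext fun x => ?_⟩
  · show adjB (f x) (f y) = adjB x y
    obtain ⟨k, rfl⟩ := move x
    obtain ⟨z, rfl⟩ := k.1.surjective y
    rw [hequiv, hequiv, hbase, mem_AutG.1 (GG_le (φ k).2), mem_AutG.1 (GG_le k.2)]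
    exact hadj0 z
  · obtain ⟨y, rfl⟩ := (Equiv.ofBijective f hbij).surjective x
    rw [Equiv.Perm.mul_apply, Equiv.Perm.mul_apply, Equiv.Perm.coe_inv, Equiv.symm_apply_apply]
    exact (hequiv h y).symm

theorem commute_eq_one {σ : Equiv.Perm Pt} (hc : ∀ h : GG, σ * h.1 = h.1 * σ) : σ = 1 := by
  classical
  have key : ∀ (h : GG) (x : Pt), σ (h.1 x) = h.1 (σ x) := fun h x => DFunLike.congr_fun (hc h) x
  have hb : σ v0 = v0 := by
    by_contra hne
    have hall : ∀ y, y ≠ v0 → adjB v0 (σ v0) = adjB v0 y → y = σ v0 := by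
      intro y hy h
      obtain ⟨k, hk, k2⟩ := exists_suborbit hne hy h
      have := key ⟨k, UU_le hk⟩ v0
      rw [(mem_UU.1 hk).2] at this
      exact k2.symm.trans this.symm
    cases had : adjB v0 (σ v0) with
    | true =>
      have : nbrs v0 ⊆ {σ v0} := fun y hy => by
        rw [nbrs, Finset.mem_filter] at hy
        exact Finset.mem_singleton.2 (hall y (fun e => by rw [e, irrefl_base] at hy; simp at hy)
          (had.trans hy.2.symm))
      have := Finset.card_le_card this
      rw [nbrs_base, Finset.card_singleton] at this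
      omega
    | false =>
      have : Finset.univ ⊆ nbrs v0 ∪ {σ v0, v0} := fun y _ => by
        by_cases hy : y = v0
        · simp [hy]
        cases h : adjB v0 y with
        | true => simp [nbrs, h]
        | false => simp [hall y hy (had.trans h.symm)]
      have h1 := (Finset.card_le_card this).trans (Finset.card_union_le _ _)
      rw [Finset.card_univ, Fintype.card_fin, nbrs_base] at h1
      have h2 : ({σ v0, v0} : Finset Pt).card ≤ 2 := Finset.card_le_two
      omega
  refine Equiv.ext fun x => ?_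
  obtain ⟨k, rfl⟩ := move x
  rw [key, hb]
  rfl

/-- Conjugation by a graph automorphism. -/
noncomputable def conjHom : AutG →* MulAut GG :=
  haveI := GG_normal
  (MulAut.congr (Subgroup.subgroupOfEquivOfLe GG_le)).toMonoidHom.comp
    (MulAut.conjNormal : AutG →* MulAut (GG.subgroupOf AutG))

theorem conjHom_apply (σ : AutG) (h : GG) : (conjHom σ h).1 = σ.1 * h.1 * σ.1⁻¹ := rfl

theorem card_out_GG : Nat.card (Cfsg.Out GG) = 2 := by
  let Ψ := (QuotientGroup.mk' (Inn GG)).comp conjHom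
  have hsurj : Function.Surjective Ψ := by
    intro q
    obtain ⟨φ, rfl⟩ := QuotientGroup.mk'_surjective (Inn GG) q
    obtain ⟨σ, hσA, hσ⟩ := exists_aut φ
    refine ⟨⟨σ, hσA⟩, congrArg (QuotientGroup.mk' (Inn GG)) (MulEquiv.ext fun h => Subtype.ext ?_)⟩
    rw [conjHom_apply, hσ]
  have hker : Ψ.ker = GG.subgroupOf AutG := by
    ext σ
    rw [MonoidHom.mem_ker, Subgroup.mem_subgroupOf]
    show QuotientGroup.mk' (Inn GG) (conjHom σ) = 1 ↔ _
    rw [QuotientGroup.mk'_apply, QuotientGroup.eq_one_iff, MonoidHom.mem_range]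
    constructor
    · rintro ⟨a, ha⟩
      have e : a.1⁻¹ * σ.1 = 1 := commute_eq_one fun h => by
        have e := congrArg (fun u : MulAut GG => ((u h : GG) : Equiv.Perm Pt)) ha
        simp only [MulAut.conj_apply, conjHom_apply, Subgroup.coe_mul, Subgroup.coe_inv] at e
        calc a.1⁻¹ * σ.1 * h.1 = a.1⁻¹ * (σ.1 * h.1 * σ.1⁻¹) * σ.1 := by group
          _ = a.1⁻¹ * (a.1 * h.1 * a.1⁻¹) * σ.1 := by rw [e]
          _ = h.1 * (a.1⁻¹ * σ.1) := by group
      rw [inv_mul_eq_one] at e
      exact e ▸ a.2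
    · intro hσ
      exact ⟨⟨σ.1, hσ⟩, MulEquiv.ext fun h => Subtype.ext (by simp [conjHom_apply, MulAut.conj_apply])⟩
  have h2 : Nat.card (Cfsg.Out GG) = Ψ.ker.index := by
    rw [Subgroup.index_ker, MonoidHom.range_eq_top.2 hsurj, Subgroup.card_top]
  rw [h2, hker]
  exact GG_index

/-- The outer automorphism group of the McLaughlin group has order two. -/
theorem card_out_McL : Nat.card (Cfsg.Out ↥Spor.McL) = 2 := by
  let u : ↥Spor.McL ≃* GG := mpEquiv.symm.trans (MonoidHom.ofInjective rho_injective)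
  have hA : (MulAut.congr u).toMonoidHom.comp MulAut.conj = MulAut.conj.comp u.toMonoidHom := by
    ext a x
    simp [MulAut.congr, MulAut.conj_apply]
  have hmap : (Inn Spor.McL).map (MulAut.congr u).toMonoidHom = Inn GG := by
    rw [Cfsg.Inn, Cfsg.Inn, MonoidHom.map_range, hA, MonoidHom.range_comp,
      MonoidHom.range_eq_top.2 u.surjective, ← MonoidHom.range_eq_map]
  exact (Nat.card_congr (QuotientGroup.congr _ _ (MulAut.congr u) hmap).toEquiv).trans card_out_GG

end Cfsg.Agent.FGS3.McLOut
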