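import Cfsg.Agent.FGS3.MixedPrimeLemmas
import Cfsg.Agent.S4018

/-!
If `p` divides the order of every proper subgroup which is mixed for the prime `q`, and `p` is large
compared with the Sylow `q`-subgroups, then `p` and `q` are the only prime divisors of the order.
-/

set_option autoImplicit false
set_option linter.style.haveILetI false
set_option linter.unusedSectionVars false

namespace Cfsg.Agent.FGS3.MixedPrime

open Subgroup

universe u

variable {G : Type u} [Group G] [Finite G]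

/-- A subgroup avoiding `p` which has order divisible by `q` and a further prime. -/
theorem mixed_false {p q r : ℕ} (hp : p.Prime) (hq : q.Prime) (hr : r.Prime) (hrq : r ≠ q)
    (hpG : p ∣ Nat.card G)
    (hmix : ∀ H : Subgroup G, H ≠ ⊤ → ¬ IsPGroup q H → q ∣ Nat.card H → p ∣ Nat.card H)
    {K : Subgroup G} (hKp : ¬ p ∣ Nat.card K) (hKq : q ∣ Nat.card K) (hKr : r ∣ Nat.card K) : False := by
  haveI := Fact.mk hq
  have hne : K ≠ ⊤ := fun e => hKp (by rw [e, card_top]; exact hpG)
  refine hKp (hmix K hne (fun h => ?_) hKq)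
  obtain ⟨n, hn⟩ := IsPGroup.iff_card.1 h
  rw [hn] at hKr
  exact hrq ((Nat.prime_dvd_prime_iff_eq hr hq).1 (hr.dvd_of_dvd_pow hKr))

/-- No element of a third prime order normalises a nontrivial `q`-subgroup, and conversely. -/
theorem no_norm {p q r : ℕ} (hp : p.Prime) (hq : q.Prime) (hr : r.Prime) (hrq : r ≠ q) (hrp : r ≠ p)
    (hpq : p ≠ q) (hpG : p ∣ Nat.card G)
    (hmix : ∀ H : Subgroup G, H ≠ ⊤ → ¬ IsPGroup q H → q ∣ Nat.card H → p ∣ Nat.card H)
    {s t : ℕ} (hst : (s = q ∧ t = r) ∨ (s = r ∧ t = q)) {R : Subgroup G} (hR : IsPGroup s R)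
    (hR1 : R ≠ ⊥) {x : G} (hx : x ∈ normalizer (R : Set G)) (hxt : orderOf x = t) : False := by
  have hs : s.Prime := by rcases hst with ⟨rfl, -⟩ | ⟨rfl, -⟩ <;> assumption
  have ht : t.Prime := by rcases hst with ⟨-, rfl⟩ | ⟨-, rfl⟩ <;> assumption
  haveI := Fact.mk hs
  have hKp := sup_no_p hp (by rcases hst with ⟨rfl, -⟩ | ⟨rfl, -⟩; exacts [hpq, hrp.symm])
    (by rcases hst with ⟨-, rfl⟩ | ⟨-, rfl⟩; exacts [hrp.symm, hpq]) hs ht hR hx hxt
  have h1 : s ∣ Nat.card (zpowers x ⊔ R : Subgroup G) := by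
    refine dvd_trans ?_ (card_dvd_of_le le_sup_right)
    obtain ⟨n, hn⟩ := IsPGroup.iff_card.1 hR
    rcases Nat.eq_zero_or_pos n with rfl | hn0
    · exact absurd (card_eq_one.1 (by rw [hn, pow_zero])) hR1
    · rw [hn]; exact dvd_pow_self s hn0.ne'
  have h2 : t ∣ Nat.card (zpowers x ⊔ R : Subgroup G) := by
    refine dvd_trans ?_ (card_dvd_of_le le_sup_left)
    rw [Nat.card_zpowers, hxt]
  rcases hst with ⟨rfl, rfl⟩ | ⟨rfl, rfl⟩
  · exact mixed_false hp hq hr hrq hpG hmix hKp h1 h2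
  · exact mixed_false hp hq hr hrq hpG hmix hKp h2 h1

/-- If no `p`-element acts on a `q`-subgroup there is no third prime. -/
theorem case_centralize {p q r : ℕ} (hp : p.Prime) (hq : q.Prime) (hr : r.Prime) (hrq : r ≠ q)
    (hrp : r ≠ p) (hpq : p ≠ q) (hpG : p ∣ Nat.card G) (hqG : q ∣ Nat.card G) (hrG : r ∣ Nat.card G)
    (hmix : ∀ H : Subgroup G, H ≠ ⊤ → ¬ IsPGroup q H → q ∣ Nat.card H → p ∣ Nat.card H)
    (hsmall : ∀ H : Subgroup G, H ≠ ⊤ → q ∣ Nat.card H → ∀ s : ℕ, s.Prime → s ∣ Nat.card H →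
      s = p ∨ s = q)
    (hcen : ∀ R : Subgroup G, IsPGroup q R → ∀ g ∈ normalizer (R : Set G), PEl p g →
      ∀ y ∈ R, g * y = y * g) : False := by
  haveI := Fact.mk hq
  haveI := Fact.mk hr
  obtain ⟨P⟩ : Nonempty (Sylow q G) := inferInstance
  obtain ⟨P', N, hNn, hc⟩ : Cfsg.HasNormalPComplement q G := by
    refine Transfer.hasNormalPComplement_of_frobenius P fun Q hQ _ g hg hgq => ?_
    have hQp : IsPGroup q Q := P.2.to_le hQ
    rcases eq_or_ne Q ⊥ with rfl | hQ1
    · simp [mem_centralizer_iff]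
    have hgp : PEl p g := by
      have hall : ∀ {d : ℕ}, d.Prime → d ∣ orderOf g → d = p := by
        intro d hd hdg
        by_contra hdp
        have hdq : d ≠ q := fun e => by
          subst e
          exact hd.not_dvd_one (hgq ▸ Nat.dvd_gcd hdg dvd_rfl)
        refine no_norm hp hq hd hdq hdp hpq hpG hmix (Or.inl ⟨rfl, rfl⟩) hQp hQ1
          (pow_mem hg (orderOf g / d)) (orderOf_pow_orderOf_div (orderOf_pos g).ne' hdg)
      exact ⟨_, by rw [← Nat.eq_prime_pow_of_unique_prime_dvd (orderOf_pos g).ne' hall]; exact pow_orderOf_eq_one g⟩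
    exact mem_centralizer_iff.2 fun y hy => (hcen Q hQp g hg hgp y hy).symm
  haveI := hNn
  have hidx : N.index = Nat.card P' := by
    have h1 := hc.card_mul
    rw [← N.card_mul_index] at h1
    exact (Nat.eq_of_mul_eq_mul_left Nat.card_pos h1).symm
  have hqi : q ∣ N.index := by rw [hidx]; exact P'.dvd_card_of_dvd_card hqG
  have hrN : r ∣ Nat.card N := by
    rw [← N.card_mul_index, hidx] at hrG
    rcases hr.dvd_mul.1 hrG with h | h
    · exact h
    · obtain ⟨n, hn⟩ := IsPGroup.iff_card.1 P'.2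
      rw [hn] at h
      exact absurd ((Nat.prime_dvd_prime_iff_eq hr hq).1 (hr.dvd_of_dvd_pow h)) hrq
  obtain ⟨T⟩ : Nonempty (Sylow r N) := inferInstance
  obtain ⟨⟨y, hy⟩, hyo⟩ := exists_prime_orderOf_dvd_card' q (frattini_dvd N T hqi)
  rw [Subgroup.orderOf_mk] at hyo
  refine no_norm hp hq hr hrq hrp hpq hpG hmix (Or.inr ⟨rfl, rfl⟩) (T.2.map N.subtype) ?_ hy hyo
  intro e
  rw [Subgroup.map_eq_bot_iff_of_injective _ N.subtype_injective] at e
  exact T.ne_bot_of_dvd_card hrN e

/-- The configuration of the exceptional case. -/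
structure Ctx (p r : ℕ) (S : Sylow 2 G) (g : G) : Prop where
  hp : p.Prime
  p2 : p ≠ 2
  hr : r.Prime
  rp : r ≠ p
  r2 : r ≠ 2
  pG : p ∣ Nat.card G
  rG : r ∣ Nat.card G
  mix : ∀ H : Subgroup G, H ≠ ⊤ → ¬ IsPGroup 2 H → 2 ∣ Nat.card H → p ∣ Nat.card H
  small : ∀ H : Subgroup G, H ≠ ⊤ → 2 ∣ Nat.card H → ∀ s : ℕ, s.Prime → s ∣ Nat.card H → s = p ∨ s = 2
  hab : ∀ P : Sylow p G, IsMulCommutative P
  cardS : Nat.card S = p + 1
  exp : ∀ x ∈ (S : Subgroup G), x * x = 1
  gN : g ∈ normalizer ((S : Subgroup G) : Set G)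
  gp : PEl p g
  gmove : ∃ y ∈ (S : Subgroup G), g * y ≠ y * g

variable {p r : ℕ} {S : Sylow 2 G} {g : G}

theorem Ctx.two_dvd (h : Ctx p r S g) : 2 ∣ Nat.card G := by
  refine dvd_trans ?_ (S : Subgroup G).card_subgroup_dvd_card
  rw [h.cardS]
  have := h.hp.eq_two_or_odd.resolve_left h.p2
  omega

theorem Ctx.inv_self (h : Ctx p r S g) {x : G} (hx : x ∈ (S : Subgroup G)) : x⁻¹ = x :=
  inv_eq_of_mul_eq_one_right (h.exp x hx)

theorem Ctx.commS (h : Ctx p r S g) {x y : G} (hx : x ∈ (S : Subgroup G)) (hy : y ∈ (S : Subgroup G)) :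
    x * y = y * x := by
  have := h.inv_self (mul_mem hx hy)
  rw [mul_inv_rev, h.inv_self hx, h.inv_self hy] at this
  exact this.symm

theorem Ctx.two_sq (h : Ctx p r S g) {x : G} (hx : PEl 2 x) : x * x = 1 := by
  obtain ⟨k, hk⟩ := hx
  haveI := Fact.mk Nat.prime_two
  obtain ⟨Q, hQ⟩ := (IsPGroup.of_card (n := ((Nat.dvd_prime_pow Nat.prime_two).1
    (orderOf_dvd_of_pow_eq_one hk)).choose) (show Nat.card (zpowers x) = _ by
      rw [Nat.card_zpowers]
      exact ((Nat.dvd_prime_pow Nat.prime_two).1 (orderOf_dvd_of_pow_eq_one hk)).choose_spec.2)).exists_le_sylow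
  obtain ⟨c, hc⟩ := MulAction.exists_smul_eq G Q S
  have hcx : c * x * c⁻¹ ∈ (S : Subgroup G) := by
    rw [← hc]
    exact Subgroup.smul_mem_pointwise_smul x (MulAut.conj c) _ (hQ (mem_zpowers x))
  have := h.exp _ hcx
  rw [show c * x * c⁻¹ * (c * x * c⁻¹) = c * (x * x) * c⁻¹ by group, conj_eq_one_iff] at this
  exact this

theorem Ctx.conjS (h : Ctx p r S g) {i : G} (hi : i * i = 1) :
    ∃ c : G, c * i * c⁻¹ ∈ (S : Subgroup G) := by
  haveI := Fact.mk Nat.prime_two
  have hd : orderOf i ∣ 2 ^ 1 := orderOf_dvd_of_pow_eq_one (by rw [pow_one, sq]; exact hi)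
  obtain ⟨k, -, hk⟩ := (Nat.dvd_prime_pow Nat.prime_two).1 hd
  obtain ⟨Q, hQ⟩ := (IsPGroup.of_card (n := k) (show Nat.card (zpowers i) = 2 ^ k by
    rw [Nat.card_zpowers, hk])).exists_le_sylow
  obtain ⟨c, hc⟩ := MulAction.exists_smul_eq G Q S
  refine ⟨c, ?_⟩
  rw [← hc]
  exact Subgroup.smul_mem_pointwise_smul i (MulAut.conj c) _ (hQ (mem_zpowers i))

theorem Ctx.trans' (h : Ctx p r S g) {w y z : G} (hw : w ∈ normalizer ((S : Subgroup G) : Set G))
    (hwp : PEl p w) (hy : y ∈ (S : Subgroup G)) (hwy : w * y ≠ y * w) (hz : z ∈ (S : Subgroup G))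
    (hz1 : z ≠ 1) : ∃ k : ℕ, z = w ^ k * y * (w ^ k)⁻¹ :=
  (orbit_bound h.hp hw hwp hy hwy).2 h.cardS z hz hz1

/-- A `p`-element normalising `S` fixing an involution of `S` centralises `S`. -/
theorem Ctx.fix_all (h : Ctx p r S g) {w t : G} (hw : w ∈ normalizer ((S : Subgroup G) : Set G))
    (hwp : PEl p w) (ht : t ∈ (S : Subgroup G)) (ht1 : t ≠ 1) (hwt : w * t = t * w) :
    ∀ y ∈ (S : Subgroup G), w * y = y * w := by
  intro y hy
  by_contra hwy
  obtain ⟨k, hk⟩ := h.trans' hw hwp hy hwy ht ht1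
  apply hwy
  have hc : Commute (w ^ k) t := (show Commute w t from hwt).pow_left k
  have : t = y := by
    have h1 : y = (w ^ k)⁻¹ * t * w ^ k := by rw [hk]; group
    rw [h1, mul_assoc, ← hc.eq, inv_mul_cancel_left]
  rw [← this]
  exact hwt

theorem Ctx.conj_invol (h : Ctx p r S g) {z t : G} (hz : z ∈ (S : Subgroup G)) (hz1 : z ≠ 1)
    (ht : t ∈ (S : Subgroup G)) (ht1 : t ≠ 1) : ∃ k : ℕ, z = g ^ k * t * (g ^ k)⁻¹ := by
  obtain ⟨y, hy, hgy⟩ := h.gmove
  have : g * t ≠ t * g := fun e => hgy (h.fix_all h.gN h.gp ht ht1 e y hy)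
  exact h.trans' h.gN h.gp ht this hz hz1

theorem Ctx.normal_simple (h : Ctx p r S g) (N : Subgroup G) [N.Normal] (hN1 : N ≠ ⊥) (hN : N ≠ ⊤) :
    IsPGroup p N ∧ ¬ 2 ∣ Nat.card N := by
  haveI := Fact.mk h.hp
  haveI := Fact.mk Nat.prime_two
  have h2 : ¬ 2 ∣ Nat.card N := by
    intro h2
    obtain ⟨T⟩ : Nonempty (Sylow 2 N) := inferInstance
    have hri : r ∣ N.index := by
      have := h.rG
      rw [← N.card_mul_index] at this
      rcases h.hr.dvd_mul.1 this with e | e
      · exact absurd (h.small N hN h2 r h.hr e) (by simp [h.rp, h.r2])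
      · exact e
    haveI := Fact.mk h.hr
    obtain ⟨⟨y, hy⟩, hyo⟩ := exists_prime_orderOf_dvd_card' r (frattini_dvd N T hri)
    rw [Subgroup.orderOf_mk] at hyo
    refine no_norm h.hp Nat.prime_two h.hr h.r2 h.rp h.p2 h.pG h.mix (Or.inl ⟨rfl, rfl⟩)
      (T.2.map N.subtype) (fun e => ?_) hy hyo
    rw [Subgroup.map_eq_bot_iff_of_injective _ N.subtype_injective] at e
    exact T.ne_bot_of_dvd_card h2 e
  refine ⟨?_, h2⟩
  apply IsPGroup.of_card (n := (Nat.card N).primeFactorsList.length)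
  refine Nat.eq_prime_pow_of_unique_prime_dvd Nat.card_pos.ne' fun {d} hd hdN => ?_
  by_contra hdp
  haveI := Fact.mk hd
  have hd2 : d ≠ 2 := fun e => h2 (e ▸ hdN)
  obtain ⟨T⟩ : Nonempty (Sylow d N) := inferInstance
  have h2i : 2 ∣ N.index := by
    have := h.two_dvd
    rw [← N.card_mul_index] at this
    exact (Nat.prime_two.dvd_mul.1 this).resolve_left h2
  obtain ⟨⟨y, hy⟩, hyo⟩ := exists_prime_orderOf_dvd_card' 2 (frattini_dvd N T h2i)
  rw [Subgroup.orderOf_mk] at hyo
  refine no_norm h.hp Nat.prime_two hd hd2 hdp h.p2 h.pG h.mix (Or.inr ⟨rfl, rfl⟩)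
    (T.2.map N.subtype) (fun e => ?_) hy hyo
  rw [Subgroup.map_eq_bot_iff_of_injective _ N.subtype_injective] at e
  exact T.ne_bot_of_dvd_card hdN e

theorem Ctx.not_normal_sylow (h : Ctx p r S g) (P : Sylow p G) : ¬ (P : Subgroup G).Normal := by
  haveI := Fact.mk h.hp
  intro hn
  obtain ⟨K, hK⟩ := exists_right_complement'_of_coprime P.card_coprime_index
  have hcK : Nat.card K = (P : Subgroup G).index := by
    have h1 := hK.card_mul
    rw [← (P : Subgroup G).card_mul_index] at h1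
    exact Nat.eq_of_mul_eq_mul_left Nat.card_pos h1
  have hKp : ¬ p ∣ Nat.card K := hcK ▸ P.not_dvd_index
  have key : ∀ s : ℕ, s.Prime → s ≠ p → s ∣ Nat.card G → s ∣ Nat.card K := by
    intro s hs hsp hsG
    rw [← (P : Subgroup G).card_mul_index, ← hcK] at hsG
    refine (hs.dvd_mul.1 hsG).resolve_left fun e => ?_
    obtain ⟨n, hn⟩ := IsPGroup.iff_card.1 P.2
    rw [hn] at e
    exact hsp ((Nat.prime_dvd_prime_iff_eq hs h.hp).1 (hs.dvd_of_dvd_pow e))
  exact mixed_false h.hp Nat.prime_two h.hr h.r2 h.pG h.mix hKp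
    (key 2 Nat.prime_two h.p2.symm h.two_dvd) (key r h.hr h.rp h.rG)

theorem Ctx.commutator_top (h : Ctx p r S g) : commutator G = ⊤ := by
  haveI := Fact.mk h.hp
  by_contra hne
  obtain ⟨P⟩ : Nonempty (Sylow p G) := inferInstance
  refine h.not_normal_sylow P ?_
  have hle : commutator G ≤ (P : Subgroup G) := by
    rcases eq_or_ne (commutator G) ⊥ with e | e
    · rw [e]; exact bot_le
    · obtain ⟨hpg, -⟩ := h.normal_simple (commutator G) e hne
      exact (le_sup_left : commutator G ≤ commutator G ⊔ (P : Subgroup G)).trans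
        (P.is_maximal' (IsPGroup.to_sup_of_normal_left hpg P.2) le_sup_right).le
  exact Subgroup.Normal.of_commutator_le (G := G) hle

/-- An element of an abelian Sylow subgroup centralised by its normaliser is trivial. -/
theorem Ctx.fixed_eq_one (h : Ctx p r S g) (P : Sylow p G) {z : G} (hz : z ∈ (P : Subgroup G))
    (hzN : ∀ n ∈ normalizer ((P : Subgroup G) : Set G), n * z = z * n) : z = 1 := by
  haveI := Fact.mk h.hp
  haveI := h.hab P
  letI : CommGroup P := { (inferInstance : Group P) with mul_comm := fun a b => (h.hab P).is_comm.comm a b }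
  have key : ∀ (k : ℕ) (g₀ : G), g₀⁻¹ * z ^ k * g₀ ∈ (P : Subgroup G) →
      g₀⁻¹ * z ^ k * g₀ = z ^ k := by
    intro k g₀ hk
    obtain ⟨n, hn, e⟩ := P.conj_eq_normalizer_conj_of_mem (z ^ k) g₀ (pow_mem hz k) hk
    rw [e, mul_assoc, ← ((show Commute n z from hzN n hn).pow_right k).eq, inv_mul_cancel_left]
  set φ : G →* P := MonoidHom.transfer (MonoidHom.id P)
  have hker : φ z = 1 := by
    have h1 : commutator G ≤ φ.ker := Abelianization.commutator_subset_ker φ
    rw [h.commutator_top, top_le_iff] at h1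
    exact φ.mem_ker.1 (h1 ▸ mem_top z)
  rw [show φ z = _ from MonoidHom.transfer_eq_pow (MonoidHom.id P) z key] at hker
  exact (PEl.of_mem P.2 hz).eq_one h.hp (congrArg Subtype.val hker) P.not_dvd_index

theorem Ctx.simple (h : Ctx p r S g) : IsSimpleGroup G := by
  haveI := Fact.mk h.hp
  haveI : Nontrivial G := Finite.one_lt_card_iff_nontrivial.1
    (lt_of_lt_of_le h.hp.one_lt (Nat.le_of_dvd Nat.card_pos h.pG))
  refine ⟨fun N hN => ?_⟩
  by_contra hcon
  push Not at hcon
  obtain ⟨hN1, hNt⟩ := hcon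
  obtain ⟨hNp, -⟩ := h.normal_simple N hN1 hNt
  obtain ⟨P⟩ : Nonempty (Sylow p G) := inferInstance
  have hNP : ∀ Q : Sylow p G, N ≤ (Q : Subgroup G) := fun Q =>
    le_sup_left.trans (Q.is_maximal' (IsPGroup.to_sup_of_normal_left hNp Q.2) le_sup_right).le
  haveI := h.hab P
  have hPC : (P : Subgroup G) ≤ centralizer (N : Set G) := fun x hx => mem_centralizer_iff.2 fun y hy =>
    congrArg Subtype.val ((h.hab P).is_comm.comm ⟨y, hNP P hy⟩ ⟨x, hx⟩)
  have hCt : centralizer (N : Set G) = ⊤ := by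
    by_contra hne
    have hCb : centralizer (N : Set G) ≠ ⊥ := fun e => hN1 (le_bot_iff.1 ((hNP P).trans (hPC.trans e.le)))
    obtain ⟨hCp, -⟩ := h.normal_simple _ hCb hne
    exact h.not_normal_sylow P (P.is_maximal' hCp hPC ▸ inferInstance)
  refine hN1 ((eq_bot_iff_forall N).2 fun z hz => h.fixed_eq_one P (hNP P hz) fun n _ => ?_)
  exact (mem_centralizer_iff.1 (hCt ▸ mem_top n) z hz).symm

theorem Ctx.not_comm (h : Ctx p r S g) : ∃ a b : G, a * b ≠ b * a := by
  obtain ⟨y, -, hy⟩ := h.gmove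
  exact ⟨g, y, hy⟩

theorem Ctx.normalizer_ne_top (h : Ctx p r S g) {Y : Subgroup G} (hY1 : Y ≠ ⊥) (hY : Y ≠ ⊤) :
    normalizer (Y : Set G) ≠ ⊤ := fun e => by
  haveI := h.simple
  rcases (normalizer_eq_top_iff.1 e).eq_bot_or_eq_top with e | e
  exacts [hY1 e, hY e]

theorem Ctx.pgroup_ne_top (h : Ctx p r S g) {Y : Subgroup G} (hY : IsPGroup p Y) : Y ≠ ⊤ := by
  haveI := Fact.mk h.hp
  rintro rfl
  obtain ⟨n, hn⟩ := IsPGroup.iff_card.1 hY
  have := h.rG
  rw [← Subgroup.card_top, hn] at this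
  exact h.rp ((Nat.prime_dvd_prime_iff_eq h.hr h.hp).1 (h.hr.dvd_of_dvd_pow this))

theorem Ctx.centralizer_ne_top (h : Ctx p r S g) {t : G} (ht : t ≠ 1) :
    centralizer ({t} : Set G) ≠ ⊤ := fun e => by
  haveI := h.simple
  have hz : t ∈ center G := mem_center_iff.2 fun x => mem_centralizer_singleton_iff.1 (e ▸ mem_top x)
  rcases (inferInstance : (center G).Normal).eq_bot_or_eq_top with e' | e'
  · exact ht (by rwa [e', mem_bot] at hz)
  · obtain ⟨a, b, hab⟩ := h.not_comm
    exact hab ((mem_center_iff.1 (e' ▸ mem_top b)) a)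

/-- Orders in proper subgroups of even order. -/
theorem Ctx.card_dvd (h : Ctx p r S g) {H : Subgroup G} (hH : H ≠ ⊤) (h2 : 2 ∣ Nat.card H)
    (P : Sylow p G) : Nat.card H ∣ Nat.card S * Nat.card P := by
  haveI := Fact.mk h.hp
  haveI := Fact.mk Nat.prime_two
  rw [← Nat.factorization_le_iff_dvd Nat.card_pos.ne' (Nat.mul_ne_zero Nat.card_pos.ne' Nat.card_pos.ne')]
  intro s
  by_cases hs : s ∈ (Nat.card H).primeFactors
  swap
  · rw [← Nat.support_factorization, Finsupp.notMem_support_iff] at hs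
    rw [hs]; exact Nat.zero_le _
  have hle : (Nat.card H).factorization s ≤ (Nat.card G).factorization s :=
    (Nat.factorization_le_iff_dvd Nat.card_pos.ne' Nat.card_pos.ne').2 H.card_subgroup_dvd_card s
  refine hle.trans ?_
  rw [Nat.factorization_mul Nat.card_pos.ne' Nat.card_pos.ne', Finsupp.add_apply]
  rcases h.small H hH h2 s (Nat.prime_of_mem_primeFactors hs) (Nat.dvd_of_mem_primeFactors hs) with rfl | rfl
  · refine le_trans (le_of_eq ?_) (Nat.le_add_left _ _)
    rw [P.card_eq_multiplicity, h.hp.factorization_pow, Finsupp.single_eq_same]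
  · refine le_trans (le_of_eq ?_) (Nat.le_add_right _ _)
    rw [S.card_eq_multiplicity, Nat.prime_two.factorization_pow, Finsupp.single_eq_same]

theorem Ctx.two_dvd_of_mem (h : Ctx p r S g) {H : Subgroup G} {i : G} (hi : i ∈ H) (hii : i * i = 1)
    (hi1 : i ≠ 1) : 2 ∣ Nat.card H := by
  haveI := Fact.mk Nat.prime_two
  rw [← orderOf_eq_prime (x := i) (p := 2) (by rw [sq]; exact hii) hi1]
  exact orderOf_dvd_natCard H hi

theorem Ctx.two_dvd_of_le (h : Ctx p r S g) {H : Subgroup G} (hS : (S : Subgroup G) ≤ H) :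
    2 ∣ Nat.card H := by
  refine dvd_trans ?_ (card_dvd_of_le hS)
  rw [h.cardS]
  have := h.hp.eq_two_or_odd.resolve_left h.p2
  omega

/-- An element of a proper subgroup of even order splits into a `p`-part and an involution. -/
theorem Ctx.split (h : Ctx p r S g) {H : Subgroup G} (hH : H ≠ ⊤) (h2 : 2 ∣ Nat.card H) {x : G}
    (hx : x ∈ H) : ∃ m n : ℕ, m.Coprime n ∧ PEl p (x ^ m) ∧ x ^ n * x ^ n = 1 := by
  haveI := Fact.mk h.hp
  haveI := Fact.mk Nat.prime_two
  obtain ⟨P⟩ : Nonempty (Sylow p G) := inferInstance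
  have hd : x ^ (Nat.card S * Nat.card P) = 1 := orderOf_dvd_iff_pow_eq_one.1
    ((orderOf_dvd_natCard H hx).trans (h.card_dvd hH h2 P))
  refine ⟨Nat.card S, Nat.card P, ?_, ?_, ?_⟩
  · rw [S.card_eq_multiplicity, P.card_eq_multiplicity]
    exact ((Nat.coprime_primes Nat.prime_two h.hp).2 h.p2.symm).pow _ _
  · obtain ⟨n, hn⟩ := IsPGroup.iff_card.1 P.2
    exact ⟨n, by rw [← hn, ← pow_mul, hd]⟩
  · refine h.two_sq ⟨(Nat.card G).factorization 2, ?_⟩
    rw [← S.card_eq_multiplicity, ← pow_mul, mul_comm, hd]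

/-- The `p`-elements of a proper subgroup containing `S`, when they act trivially on `S`. -/
theorem Ctx.pCompl (h : Ctx p r S g) {H : Subgroup G} (hH : H ≠ ⊤) (hS : (S : Subgroup G) ≤ H)
    (hc : ∀ w ∈ H, PEl p w → w ∈ normalizer ((S : Subgroup G) : Set G) →
      ∀ y ∈ (S : Subgroup G), w * y = y * w) :
    ∃ D : Subgroup G, IsPGroup p D ∧ D ≤ H ∧ (∀ w ∈ H, PEl p w → w ∈ D) ∧
      ∀ w ∈ H, w ∈ normalizer (D : Set G) := by
  haveI := Fact.mk h.hp
  haveI := Fact.mk Nat.prime_two
  have hcomp : Cfsg.HasNormalPComplement 2 H := by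
    apply Transfer.hasNormalPComplement_of_normalizer_le_centralizer (S.subtype hS)
    intro w hw
    have hwS : ((w : G)) ∈ normalizer ((S : Subgroup G) : Set G) := by
      refine mem_normalizer_of_conj fun y hy => ?_
      have := conj_mem hw (show (⟨y, hS hy⟩ : H) ∈ ((S.subtype hS : Sylow 2 H) : Subgroup H) from hy)
      exact this
    obtain ⟨m, n, hmn, h1, h2⟩ := h.split hH (h.two_dvd_of_le hS) w.2
    have hall : ∀ y ∈ (S : Subgroup G), (w : G) * y = y * w := by
      intro y hy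
      refine mem_centralizer_singleton_iff.1 (mem_of_pow_mem hmn
        (mem_centralizer_singleton_iff.2 (hc _ (pow_mem w.2 m) h1 (pow_mem hwS m) y hy))
        (mem_centralizer_singleton_iff.2 ?_))
      refine h.commS ?_ hy
      have hz : IsPGroup 2 (zpowers ((w : G) ^ n)) := by
        intro z
        refine ⟨1, ?_⟩
        obtain ⟨i, hi⟩ := mem_zpowers_iff.1 z.2
        apply Subtype.ext
        rw [SubmonoidClass.coe_pow, pow_one, OneMemClass.coe_one, ← hi, sq, ← zpow_add,
          show i + i = 2 * i by ring, zpow_mul, zpow_ofNat, sq, h2, one_zpow]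
      exact (le_sup_left.trans (S.is_maximal' (IsPGroup.to_sup_of_normal_right' hz S.2
        (zpowers_le.2 (pow_mem hwS n))) le_sup_right).le) (mem_zpowers _)
    rw [mem_centralizer_iff]
    exact fun y hy => Subtype.ext (hall (y : G) hy).symm
  have hpel : ∀ w : H, (orderOf w).Coprime 2 → PEl p (w : G) := by
    intro w hw
    obtain ⟨m, n, -, -, h2⟩ := h.split hH (h.two_dvd_of_le hS) w.2
    have hd : orderOf w ∣ (Nat.card S) * Nat.card (Classical.arbitrary (Sylow p G)) :=
      (orderOf_dvd_natCard w).trans (h.card_dvd hH (h.two_dvd_of_le hS) _)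
    obtain ⟨k, hk⟩ := IsPGroup.iff_card.1 (Classical.arbitrary (Sylow p G)).2
    rw [S.card_eq_multiplicity, hk] at hd
    refine ⟨k, ?_⟩
    have := orderOf_dvd_iff_pow_eq_one.1 ((hw.pow_right _).dvd_of_dvd_mul_left hd)
    simpa using congrArg Subtype.val this
  refine ⟨(Cfsg.pResidual 2 H).map H.subtype, ?_, map_subtype_le _, ?_, ?_⟩
  · rintro ⟨_, w, hw, rfl⟩
    obtain ⟨k, hk⟩ := hpel w ((Transfer.mem_pResidual_iff hcomp).1 hw)
    exact ⟨k, Subtype.ext hk⟩
  · intro w hw hwp
    refine ⟨⟨w, hw⟩, (Transfer.mem_pResidual_iff hcomp).2 ?_, rfl⟩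
    obtain ⟨k, hk⟩ := hwp
    rw [Subgroup.orderOf_mk]
    exact Nat.Coprime.coprime_dvd_left (orderOf_dvd_of_pow_eq_one hk)
      (((Nat.coprime_primes h.hp Nat.prime_two).2 h.p2).pow_left k)
  · intro w hw
    refine mem_normalizer_of_conj ?_
    rintro _ ⟨a, ha, rfl⟩
    exact ⟨⟨w, hw⟩ * a * ⟨w, hw⟩⁻¹, Transfer.pResidual_normal.conj_mem a ha _, rfl⟩

theorem Ctx.centralizer_part (h : Ctx p r S g) {t : G} (ht : t ∈ (S : Subgroup G)) (ht1 : t ≠ 1) :
    ∃ D : Subgroup G, IsPGroup p D ∧ D ≤ centralizer {t} ∧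
      (∀ w ∈ centralizer ({t} : Set G), PEl p w → w ∈ D) ∧
      ∀ w ∈ centralizer ({t} : Set G), w ∈ normalizer (D : Set G) :=
  h.pCompl (h.centralizer_ne_top ht1) (fun _ hy => mem_centralizer_singleton_iff.2 (h.commS hy ht))
    fun _ hw hwp hwn => h.fix_all hwn hwp ht ht1 (mem_centralizer_singleton_iff.1 hw)

theorem sq_inj {p : ℕ} (hp : p.Prime) (hp2 : p ≠ 2) {a b : G} (ha : PEl p a) (hb : PEl p b)
    (e : a ^ 2 = b ^ 2) : a = b := by
  obtain ⟨j, hj⟩ := ha
  obtain ⟨k, hk⟩ := hb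
  set N := p ^ (j + k) with hN
  have h1 : a ^ N = 1 := by rw [hN, pow_add, pow_mul, hj, one_pow]
  have h2 : b ^ N = 1 := by rw [hN, pow_add, mul_comm, pow_mul, hk, one_pow]
  have ho : N = 2 * (N / 2) + 1 := by
    have : Odd N := (hp.odd_of_ne_two hp2).pow
    obtain ⟨c, hc⟩ := this
    omega
  calc a = a ^ (N + 1) := by rw [pow_succ, h1, one_mul]
    _ = (a ^ 2) ^ (N / 2 + 1) := by rw [← pow_mul]; congr 1; omega
    _ = b ^ (N + 1) := by rw [e, ← pow_mul]; congr 1; omega
    _ = b := by rw [pow_succ, h2, one_mul]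

/-- Elements of an abelian `p`-group containing a given one commute with it. -/
theorem Ctx.comm_of_pgroup (h : Ctx p r S g) {Y : Subgroup G} (hY : IsPGroup p Y) {a b : G}
    (ha : a ∈ Y) (hb : b ∈ Y) : a * b = b * a := by
  obtain ⟨Q, hQ⟩ := hY.exists_le_sylow
  exact congrArg Subtype.val ((h.hab Q).is_comm.comm ⟨a, hQ ha⟩ ⟨b, hQ hb⟩)

/-- A `p`-subgroup normalised but not centralised by `S` lies in a unique Sylow subgroup. -/
theorem Ctx.unique_sylow (h : Ctx p r S g) {Y : Subgroup G} (hY : IsPGroup p Y)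
    (hSY : (S : Subgroup G) ≤ normalizer (Y : Set G))
    (hnc : ∃ y ∈ Y, ∃ v ∈ (S : Subgroup G), v * y ≠ y * v) :
    (∀ P : Sylow p G, Y ≤ (P : Subgroup G) → (S : Subgroup G) ≤ normalizer ((P : Subgroup G) : Set G)) ∧
      ∀ P Q : Sylow p G, Y ≤ (P : Subgroup G) → Y ≤ (Q : Subgroup G) → P = Q := by
  haveI := Fact.mk h.hp
  haveI := Fact.mk Nat.prime_two
  obtain ⟨y0, hy0, v0, hv0, hne0⟩ := hnc
  have hY1 : Y ≠ ⊥ := fun e => hne0 (by rw [e, mem_bot] at hy0; rw [hy0, mul_one, one_mul])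
  have hX := h.normalizer_ne_top hY1 (h.pgroup_ne_top hY)
  have hc : ∀ w ∈ normalizer (Y : Set G), PEl p w → w ∈ normalizer ((S : Subgroup G) : Set G) →
      ∀ u ∈ (S : Subgroup G), w * u = u * w := by
    intro w hw hwp hwS u hu
    by_contra hwu
    have hZ : IsPGroup p (zpowers w) := by
      intro z
      obtain ⟨k, hk⟩ := hwp
      obtain ⟨i, hi⟩ := mem_zpowers_iff.1 z.2
      refine ⟨k, Subtype.ext ?_⟩
      rw [SubmonoidClass.coe_pow, OneMemClass.coe_one, ← hi, ← zpow_natCast, zpow_comm, zpow_natCast,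
        hk, one_zpow]
    have hwY : ∀ y ∈ Y, Commute w y := fun y hy => h.comm_of_pgroup
      (IsPGroup.to_sup_of_normal_right' hZ hY (zpowers_le.2 hw))
      (le_sup_left (a := zpowers w) (b := Y) (mem_zpowers w)) (le_sup_right (a := zpowers w) (b := Y) hy)
    -- commuting with one involution of `S` gives commuting with all
    have one_all : ∀ y ∈ Y, ∀ a ∈ (S : Subgroup G), a ≠ 1 → a * y = y * a →
        ∀ b ∈ (S : Subgroup G), b * y = y * b := by
      intro y hy a ha ha1 hay b hb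
      rcases eq_or_ne b 1 with rfl | hb1
      · rw [one_mul, mul_one]
      have hwa : w * a ≠ a * w := fun e => hwu (h.fix_all hwS hwp ha ha1 e u hu)
      obtain ⟨k, hk⟩ := h.trans' hwS hwp ha hwa hb hb1
      have c1 : Commute (w ^ k) y := (hwY y hy).pow_left k
      have : Commute (w ^ k * a * (w ^ k)⁻¹) y := (c1.mul_left hay).mul_left c1.inv_left
      rw [hk]; exact this.eq
    apply hne0
    rcases eq_or_ne v0 1 with rfl | hv01
    · rw [one_mul, mul_one]
    -- a second involution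
    obtain ⟨w0, hw0, hw01, hw0v⟩ : ∃ a ∈ (S : Subgroup G), a ≠ 1 ∧ a ≠ v0 := by
      by_contra hcon
      push Not at hcon
      have hsub : ((S : Subgroup G) : Set G) ⊆ {1, v0} := fun a ha => by
        by_cases ha1 : a = 1
        · exact Or.inl ha1
        · exact Or.inr (hcon a ha ha1)
      have h1 := Set.ncard_le_ncard hsub
      rw [Set.ncard_pair hv01.symm, ← Nat.card_coe_set_eq] at h1
      have h2 : Nat.card (S : Subgroup G) ≤ 2 := h1
      rw [h.cardS] at h2
      have := h.hp.two_le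
      omega
    set f : G → G := fun a => a * y0 * a with hf
    have hfY : ∀ a ∈ (S : Subgroup G), f a ∈ Y := fun a ha => by
      have := conj_mem (hSY ha) hy0
      rwa [h.inv_self ha] at this
    have sym : ∀ a ∈ (S : Subgroup G), a ≠ 1 → ∀ b ∈ (S : Subgroup G),
        f b * f (b * a) = y0 * f a := by
      intro a ha ha1 b hb
      have hc1 : a * (y0 * f a) = (y0 * f a) * a := by
        have e := h.comm_of_pgroup hY hy0 (hfY a ha)
        calc a * (y0 * f a) = (f a * y0) * a := by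
              simp only [hf]
              rw [show a * y0 * a * y0 * a = a * (y0 * (a * y0 * a)) from by group]
          _ = _ := by rw [← e]
      have hc2 := one_all _ (mul_mem hy0 (hfY a ha)) a ha ha1 hc1 b hb
      calc f b * f (b * a) = b * y0 * b * (b * a * y0 * (b * a)) := rfl
        _ = b * y0 * (b * b) * a * y0 * b * a := by simp only [mul_assoc]
        _ = b * y0 * a * y0 * (a * b) := by rw [h.exp b hb, mul_one, h.commS ha hb]; simp only [mul_assoc]
        _ = b * (y0 * f a) * b := by simp only [hf, mul_assoc]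
        _ = y0 * f a := by rw [hc2, mul_assoc, h.exp b hb, mul_one]
    -- `v0 = w0 * (w0 * v0)`
    set v1 := w0 * v0 with hv1
    have hv1S : v1 ∈ (S : Subgroup G) := mul_mem hw0 hv0
    have hv11 : v1 ≠ 1 := fun e => hw0v (by rw [← h.inv_self hv0]; exact eq_inv_of_mul_eq_one_left e)
    have e1 := sym w0 hw0 hw01 v1 hv1S
    have e2 := sym v1 hv1S hv11 w0 hw0
    have hprod : v1 * w0 = v0 := by
      rw [hv1, h.commS hw0 hv0, mul_assoc, h.exp w0 hw0, mul_one]
    have hprod' : w0 * v1 = v0 := by rw [hv1, ← mul_assoc, h.exp w0 hw0, one_mul]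
    rw [hprod] at e1
    rw [hprod'] at e2
    -- `e1 : B C = A D`, `e2 : D C = A B`
    set A := y0
    set B := f v1
    set C := f v0
    set D := f w0
    have cm : ∀ {a b : G}, a ∈ Y → b ∈ Y → a * b = b * a := fun ha hb => h.comm_of_pgroup hY ha hb
    have mB := hfY v1 hv1S
    have mC := hfY v0 hv0
    have mD := hfY w0 hw0
    have hsq : C ^ 2 = A ^ 2 := by
      have e3 : (B * C) * (D * C) = (A * D) * (A * B) := by rw [e1, e2]
      have eCD : C * D = D * C := cm mC mD
      have l : (B * C) * (D * C) = (B * D) * C ^ 2 := by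
        rw [sq, mul_assoc B C, ← mul_assoc C D, eCD]; simp only [mul_assoc]
      have r : (A * D) * (A * B) = (B * D) * A ^ 2 := by
        calc (A * D) * (A * B) = (A * D) * (B * A) := by rw [cm hy0 mB]
          _ = A * (D * B) * A := by simp only [mul_assoc]
          _ = (D * B) * A * A := by rw [cm hy0 (mul_mem mD mB)]
          _ = _ := by rw [cm mD mB, sq, mul_assoc]
      rw [l, r] at e3
      exact mul_left_cancel e3
    have := sq_inj h.hp h.p2 (PEl.of_mem hY mC) (PEl.of_mem hY hy0) hsq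
    calc v0 * A = (v0 * A * v0) * v0 := by rw [mul_assoc _ v0 v0, h.exp v0 hv0, mul_one]
      _ = A * v0 := congrArg (· * v0) this
  obtain ⟨D, hD, hDle, hDmem, hDn⟩ := h.pCompl hX hSY hc
  have key : ∀ P : Sylow p G, Y ≤ (P : Subgroup G) → (P : Subgroup G) = D := by
    intro P hYP
    refine (P.is_maximal' hD ?_).symm
    intro x hx
    refine hDmem x (mem_normalizer_of_conj fun y hy => ?_) (PEl.of_mem P.2 hx)
    rw [h.comm_of_pgroup P.2 hx (hYP hy), mul_inv_cancel_right]
    exact hy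
  refine ⟨fun P hP x hx => ?_, fun P Q hP hQ => Sylow.ext ((key P hP).trans (key Q hQ).symm)⟩
  rw [key P hP]
  exact hDn x (hSY hx)

/-- An element of order `p` inverted by an involution. -/
theorem Ctx.real_product (h : Ctx p r S g) {t u : G} (ht : t * t = 1) (hu : u * u = 1)
    (hne : t * u ≠ u * t) : ∃ m, (t * u) ^ m ≠ 1 ∧ ((t * u) ^ m) ^ p = 1 := by
  haveI := Fact.mk h.hp
  set x := t * u with hx
  have hti : t⁻¹ = t := inv_eq_of_mul_eq_one_right ht
  have hui : u⁻¹ = u := inv_eq_of_mul_eq_one_right hu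
  have hinv : t * x * t⁻¹ = x⁻¹ := by
    rw [hx, mul_inv_rev, hti, hui]
    calc t * (t * u) * t = (t * t) * u * t := by group
      _ = u * t := by rw [ht, one_mul]
  have ht1 : t ≠ 1 := fun e => hne (by rw [hx, e, one_mul, mul_one])
  have hto : orderOf t = 2 := orderOf_eq_prime (by rw [sq]; exact ht) ht1
  have hs : ∀ s : ℕ, s.Prime → s ∣ orderOf x → s = p ∨ s = 2 := by
    intro s hs hsd
    by_contra hcon
    push Not at hcon
    haveI := Fact.mk hs
    set z := x ^ (orderOf x / s)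
    have hzo : orderOf z = s := orderOf_pow_orderOf_div (orderOf_pos x).ne' hsd
    refine no_norm h.hp Nat.prime_two hs hcon.2 hcon.1 h.p2 h.pG h.mix (Or.inr ⟨rfl, rfl⟩)
      (IsPGroup.of_card (n := 1) (by rw [pow_one, Nat.card_zpowers, hzo]))
      (fun e => hs.ne_one (by rw [← hzo, zpowers_eq_bot.1 e, orderOf_one]))
      (mem_normalizer_of_conj fun y hy => ?_) hto
    obtain ⟨i, rfl⟩ := mem_zpowers_iff.1 hy
    rw [← conj_zpow, ← conj_pow, hinv, inv_pow, inv_zpow]
    exact inv_mem (zpow_mem (mem_zpowers z) i)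
  by_cases hpd : p ∣ orderOf x
  · refine ⟨orderOf x / p, fun e => ?_, ?_⟩
    · have := orderOf_pow_orderOf_div (orderOf_pos x).ne' hpd
      rw [e, orderOf_one] at this
      exact h.hp.ne_one this.symm
    · rw [← pow_mul, Nat.div_mul_cancel hpd, pow_orderOf_eq_one]
  exfalso
  have h2 : PEl 2 x := by
    refine ⟨(orderOf x).primeFactorsList.length, ?_⟩
    rw [← Nat.eq_prime_pow_of_unique_prime_dvd (orderOf_pos x).ne' (fun {d} hd hdd =>
      ((hs d hd hdd).resolve_left fun e => hpd (e ▸ hdd)))]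
    exact pow_orderOf_eq_one x
  have := h.two_sq h2
  rw [← eq_inv_iff_mul_eq_one, hx, mul_inv_rev, hui, hti] at this
  exact hne this

/-- Normalisers of Sylow `p`-subgroups have even order. -/
theorem Ctx.normalizer_even (h : Ctx p r S g) (P : Sylow p G) :
    2 ∣ Nat.card (normalizer ((P : Subgroup G) : Set G)) := by
  haveI := Fact.mk h.hp
  haveI := Fact.mk Nat.prime_two
  haveI := h.simple
  obtain ⟨t, u, ht, hu, hne⟩ : ∃ t u : G, t * t = 1 ∧ u * u = 1 ∧ t * u ≠ u * t := by
    by_contra hcon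
    push Not at hcon
    obtain ⟨y, hy, hgy⟩ := h.gmove
    have hy1 : y ≠ 1 := fun e => hgy (by rw [e, mul_one, one_mul])
    have hsub : normalClosure ({y} : Set G) ≤ centralizer ({x : G | x * x = 1}) := by
      haveI : (centralizer ({x : G | x * x = 1})).Normal := by
        refine ⟨fun c hc a => mem_centralizer_iff.2 fun x hx => ?_⟩
        have h1 : (a⁻¹ * x * a) * (a⁻¹ * x * a) = 1 := by
          rw [show a⁻¹ * x * a * (a⁻¹ * x * a) = a⁻¹ * (x * x) * a by group, hx]; group
        have h2 := mem_centralizer_iff.1 hc _ h1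
        calc x * (a * c * a⁻¹) = a * ((a⁻¹ * x * a) * c) * a⁻¹ := by group
          _ = a * (c * (a⁻¹ * x * a)) * a⁻¹ := by rw [h2]
          _ = _ := by group
      exact normalClosure_le_normal (Set.singleton_subset_iff.2
        (mem_centralizer_iff.2 fun x hx => hcon x y hx (h.exp y hy)))
    have htop : normalClosure ({y} : Set G) = ⊤ := by
      refine (normalClosure_normal.eq_bot_or_eq_top).resolve_left fun e => hy1 ?_
      have := subset_normalClosure (Set.mem_singleton y)
      rw [e] at this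
      exact this
    exact hgy (mem_centralizer_iff.1 (hsub (htop ▸ mem_top g)) y (h.exp y hy)).symm
  obtain ⟨m, hm1, hmp⟩ := h.real_product ht hu hne
  set z := (t * u) ^ m with hz
  have hinv : t * z * t⁻¹ = z⁻¹ := by
    rw [hz, ← conj_pow, ← inv_pow, mul_inv_rev, inv_eq_of_mul_eq_one_right hu,
      inv_eq_of_mul_eq_one_right ht]
    congr 1
    calc t * (t * u) * t = (t * t) * u * t := by group
      _ = u * t := by rw [ht, one_mul]
  obtain ⟨P1, hP1⟩ := (IsPGroup.of_card (n := 1) (show Nat.card (zpowers z) = p ^ 1 by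
    rw [Nat.card_zpowers, pow_one, orderOf_eq_prime hmp hm1])).exists_le_sylow
  have hzP : z ∈ (P1 : Subgroup G) := hP1 (mem_zpowers z)
  haveI := h.hab P1
  obtain ⟨n, hn, e⟩ := P1.conj_eq_normalizer_conj_of_mem z t⁻¹ hzP
    (by rw [inv_inv, hinv]; exact inv_mem hzP)
  rw [inv_inv, hinv] at e
  have hcard : Nat.card (normalizer ((P : Subgroup G) : Set G)) =
      Nat.card (normalizer ((P1 : Subgroup G) : Set G)) := by
    have hi : (normalizer ((P : Subgroup G) : Set G)).index =
        (normalizer ((P1 : Subgroup G) : Set G)).index := P.card_eq_index_normalizer.symm.trans P1.card_eq_index_normalizer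
    refine Nat.eq_of_mul_eq_mul_right (Nat.pos_of_ne_zero (index_ne_zero_of_finite (H := normalizer ((P1 : Subgroup G) : Set G)))) ?_
    rw [card_mul_index, ← hi, card_mul_index]
  rw [hcard]
  refine dvd_trans ?_ (orderOf_dvd_natCard _ hn)
  by_contra hodd
  have hk : ∀ k : ℕ, (n ^ k)⁻¹ * z * n ^ k = if Even k then z else z⁻¹ := by
    intro k
    induction k with
    | zero => simp
    | succ k ih =>
      have e' : n⁻¹ * z⁻¹ * n = z := by
        rw [show n⁻¹ * z⁻¹ * n = (n⁻¹ * z * n)⁻¹ by group, ← e, inv_inv]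
      rw [pow_succ, show (n ^ k * n)⁻¹ * z * (n ^ k * n) = n⁻¹ * ((n ^ k)⁻¹ * z * n ^ k) * n by group, ih]
      by_cases hev : Even k
      · rw [if_pos hev, if_neg (by simpa [Nat.even_add_one] using hev), ← e]
      · rw [if_neg hev, if_pos (Nat.even_add_one.2 hev), e']
  have h1 := hk (orderOf n)
  rw [pow_orderOf_eq_one, inv_one, one_mul, mul_one,
    if_neg (fun hev => hodd hev.two_dvd)] at h1
  have hzp : PEl p z := ⟨1, by simpa using hmp⟩
  exact hm1 (hzp.eq_one h.hp (m := 2)
    (by rw [sq]; nth_rewrite 2 [h1]; exact mul_inv_cancel z)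
    fun hd => h.p2 ((Nat.prime_dvd_prime_iff_eq h.hp Nat.prime_two).1 hd))

theorem Ctx.normalizer_proper (h : Ctx p r S g) (P : Sylow p G) :
    normalizer ((P : Subgroup G) : Set G) ≠ ⊤ := by
  haveI := Fact.mk h.hp
  exact h.normalizer_ne_top (P.ne_bot_of_dvd_card h.pG) (h.pgroup_ne_top P.2)

theorem Ctx.mem_of_normalizer (h : Ctx p r S g) (P : Sylow p G) {w : G}
    (hw : w ∈ normalizer ((P : Subgroup G) : Set G)) (hwp : PEl p w) : w ∈ (P : Subgroup G) := by
  haveI := Fact.mk h.hp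
  have hZ : IsPGroup p (zpowers w) := by
    intro z
    obtain ⟨k, hk⟩ := hwp
    obtain ⟨i, hi⟩ := mem_zpowers_iff.1 z.2
    refine ⟨k, Subtype.ext ?_⟩
    rw [SubmonoidClass.coe_pow, OneMemClass.coe_one, ← hi, ← zpow_natCast, zpow_comm, zpow_natCast,
      hk, one_zpow]
  exact (le_sup_left.trans (P.is_maximal' (IsPGroup.to_sup_of_normal_right' hZ P.2
    (zpowers_le.2 hw)) le_sup_right).le) (mem_zpowers w)

/-- A Sylow normaliser is generated by `P` and a Sylow `2`-subgroup. -/
theorem Ctx.normalizer_le_sup (h : Ctx p r S g) (P : Sylow p G) {T : Subgroup G}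
    (hT : ¬ 2 ∣ T.relIndex (normalizer ((P : Subgroup G) : Set G))) :
    normalizer ((P : Subgroup G) : Set G) ≤ (P : Subgroup G) ⊔ T := by
  haveI := Fact.mk h.hp
  rw [← relIndex_eq_one]
  set N := normalizer ((P : Subgroup G) : Set G)
  set d := ((P : Subgroup G) ⊔ T).relIndex N
  by_contra hd
  obtain ⟨s, hs, hsd⟩ := Nat.exists_prime_and_dvd hd
  have hdN : d ∣ Nat.card N := index_dvd_card _
  rcases h.small N (h.normalizer_proper P) (h.normalizer_even P) s hs (hsd.trans hdN) with rfl | rfl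
  · exact P.not_dvd_index (hsd.trans ((relIndex_dvd_of_le_left N le_sup_left).trans
      (relIndex_dvd_index_of_le le_normalizer)))
  · exact hT (hsd.trans (relIndex_dvd_of_le_left N le_sup_right))

/-- Centralising `P` and a Sylow `2`-subgroup of its normaliser. -/
theorem Ctx.eq_one_of_sup (h : Ctx p r S g) (P : Sylow p G) {T : Subgroup G}
    (hT : ¬ 2 ∣ T.relIndex (normalizer ((P : Subgroup G) : Set G))) {z : G}
    (hz : z ∈ (P : Subgroup G)) (hzT : ∀ x ∈ T, x * z = z * x) : z = 1 := by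
  refine h.fixed_eq_one P hz fun n hn => ?_
  have hle : (P : Subgroup G) ⊔ T ≤ centralizer ({z} : Set G) :=
    sup_le (fun x hx => mem_centralizer_singleton_iff.2 (h.comm_of_pgroup P.2 hx hz))
      fun x hx => mem_centralizer_singleton_iff.2 (hzT x hx)
  exact mem_centralizer_singleton_iff.1 (hle (h.normalizer_le_sup P hT hn))

theorem Ctx.not_two_dvd_relIndex (h : Ctx p r S g) (P : Sylow p G)
    (hSP : (S : Subgroup G) ≤ normalizer ((P : Subgroup G) : Set G)) :
    ¬ 2 ∣ (S : Subgroup G).relIndex (normalizer ((P : Subgroup G) : Set G)) := fun hd => by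
  haveI := Fact.mk Nat.prime_two
  exact S.not_dvd_index (hd.trans (relIndex_dvd_index_of_le hSP))

/-- An involution without fixed points on `P` inverts it. -/
theorem Ctx.inverts (h : Ctx p r S g) (P : Sylow p G) {i : G} (hi : i * i = 1)
    (hiN : i ∈ normalizer ((P : Subgroup G) : Set G))
    (hfree : ∀ y ∈ (P : Subgroup G), i * y = y * i → y = 1) :
    ∀ z ∈ (P : Subgroup G), i * z * i = z⁻¹ := by
  intro z hz
  have hii : i⁻¹ = i := inv_eq_of_mul_eq_one_right hi
  have hzi : i * z * i ∈ (P : Subgroup G) := by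
    have := conj_mem hiN hz
    rwa [hii] at this
  refine eq_inv_of_mul_eq_one_right (hfree _ (mul_mem hz hzi) ?_)
  have hc := h.comm_of_pgroup P.2 hz hzi
  calc i * (z * (i * z * i)) = (i * z * i) * z * i := by group
    _ = z * (i * z * i) * i := by rw [← hc]

theorem Ctx.false_alpha (h : Ctx p r S g) {t z : G} (ht : t ∈ (S : Subgroup G)) (ht1 : t ≠ 1)
    (hzp : PEl p z) (hzt : z * t = t * z) (hv : ∃ v ∈ (S : Subgroup G), v * z ≠ z * v) : False := by
  classical
  haveI := Fact.mk h.hp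
  haveI := Fact.mk Nat.prime_two
  obtain ⟨D, hD, -, hDmem, hDn⟩ := h.centralizer_part ht ht1
  have hSC : (S : Subgroup G) ≤ centralizer ({t} : Set G) := fun x hx =>
    mem_centralizer_singleton_iff.2 (h.commS hx ht)
  obtain ⟨v0, hv0, hne0⟩ := hv
  obtain ⟨P, hDP⟩ := hD.exists_le_sylow
  have hSP : (S : Subgroup G) ≤ normalizer ((P : Subgroup G) : Set G) :=
    (h.unique_sylow hD (fun x hx => hDn x (hSC hx))
      ⟨z, hDmem z (mem_centralizer_singleton_iff.2 hzt) hzp, v0, hv0, hne0⟩).1 P hDP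
  have hD1 : ∀ w, PEl p w → (∀ s ∈ (S : Subgroup G), s * w = w * s) → w = 1 := fun w hwp hw =>
    h.eq_one_of_sup P (h.not_two_dvd_relIndex P hSP)
      (hDP (hDmem w (mem_centralizer_singleton_iff.2 (hw t ht).symm) hwp)) hw
  have hfree : ∀ v ∈ (S : Subgroup G), v ≠ 1 → v ≠ t → ∀ w ∈ (P : Subgroup G), v * w = w * v → w = 1 := by
    intro v hv hv1 hvt w hw hvw
    by_contra hw1
    obtain ⟨k, hk⟩ := h.conj_invol hv hv1 ht ht1
    have hwp := PEl.of_mem P.2 hw
    obtain ⟨s0, hs0, hsw⟩ : ∃ s ∈ (S : Subgroup G), s * w ≠ w * s := by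
      by_contra hcon
      push Not at hcon
      exact hw1 (hD1 w hwp hcon)
    set Y := (P : Subgroup G) ⊓ centralizer ({v} : Set G)
    have hY : IsPGroup p Y := P.2.to_le inf_le_left
    have hSY : (S : Subgroup G) ≤ normalizer (Y : Set G) := fun x hx => by
      refine mem_normalizer_of_conj fun y hy => ⟨conj_mem (hSP hx) hy.1, ?_⟩
      show x * y * x⁻¹ ∈ centralizer ({v} : Set G)
      have hy2 : Commute y v := mem_centralizer_singleton_iff.1 hy.2
      have hxv : Commute x v := h.commS hx hv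
      exact mem_centralizer_singleton_iff.2 ((hxv.mul_left hy2).mul_left hxv.inv_left).eq
    have hYQ : Y ≤ ((g ^ k) • P : Sylow p G) := by
      intro y hy
      have hy2 : Commute y v := mem_centralizer_singleton_iff.1 hy.2
      have hm : (g ^ k)⁻¹ * y * g ^ k ∈ (P : Subgroup G) := by
        refine hDP (hDmem _ (mem_centralizer_singleton_iff.2 ?_) ?_)
        · calc (g ^ k)⁻¹ * y * g ^ k * t = (g ^ k)⁻¹ * (y * v) * g ^ k := by rw [hk]; group
            _ = (g ^ k)⁻¹ * (v * y) * g ^ k := by rw [hy2.eq]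
            _ = t * ((g ^ k)⁻¹ * y * g ^ k) := by rw [hk]; group
        · have := (PEl.of_mem P.2 hy.1).conj (g ^ k)⁻¹
          rwa [inv_inv] at this
      rw [Sylow.coe_subgroup_smul, Subgroup.mem_pointwise_smul_iff_inv_smul_mem]
      rw [← map_inv, MulAut.smul_def, MulAut.conj_apply, inv_inv]
      exact hm
    have heq : P = (g ^ k) • P := (h.unique_sylow hY hSY
      ⟨w, ⟨hw, mem_centralizer_singleton_iff.2 hvw.symm⟩, s0, hs0, hsw⟩).2 P _ inf_le_left hYQ
    have hgP : g ^ k ∈ (P : Subgroup G) :=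
      h.mem_of_normalizer P (Sylow.smul_eq_iff_mem_normalizer.1 heq.symm) (h.gp.pow k)
    apply hvt
    have hc : (g ^ k) * t * (g ^ k)⁻¹ * t⁻¹ = 1 := by
      have hS' : (g ^ k) * t * (g ^ k)⁻¹ * t⁻¹ ∈ (S : Subgroup G) :=
        mul_mem (conj_mem (pow_mem h.gN k) ht) (inv_mem ht)
      have hP' : (g ^ k) * t * (g ^ k)⁻¹ * t⁻¹ ∈ (P : Subgroup G) := by
        rw [mul_assoc, mul_assoc, ← mul_assoc t]
        exact mul_mem hgP (conj_mem (hSP ht) (inv_mem hgP))
      exact (PEl.of_mem P.2 hP').eq_one h.hp (m := 2) (by rw [sq]; exact h.exp _ hS')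
        (fun hd => h.p2 ((Nat.prime_dvd_prime_iff_eq h.hp Nat.prime_two).1 hd))
    rw [hk]
    exact mul_inv_eq_one.1 hc
  have hinv : ∀ v ∈ (S : Subgroup G), v ≠ 1 → v ≠ t → ∀ y ∈ (P : Subgroup G), v * y * v = y⁻¹ :=
    fun v hv hv1 hvt => h.inverts P (h.exp v hv) (hSP hv) (hfree v hv hv1 hvt)
  have hP1 : ∃ y ∈ (P : Subgroup G), y ≠ 1 :=
    (bot_or_exists_ne_one _).resolve_left (P.ne_bot_of_dvd_card h.pG)
  obtain ⟨y1, hy1, hy11⟩ := hP1
  have hodd : ∀ y ∈ (P : Subgroup G), y * y = 1 → y = 1 := fun y hy e =>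
    (PEl.of_mem P.2 hy).eq_one h.hp (m := 2) (by rw [sq]; exact e)
      (fun hd => h.p2 ((Nat.prime_dvd_prime_iff_eq h.hp Nat.prime_two).1 hd))
  have hboth : ∀ v w : G, v ∈ (S : Subgroup G) → w ∈ (S : Subgroup G) → v ≠ 1 → v ≠ t → w ≠ 1 →
      w ≠ t → ∀ y ∈ (P : Subgroup G), (v * w) * y * (v * w) = y := by
    intro v w hv hw hv1 hvt hw1 hwt y hy
    calc (v * w) * y * (v * w) = (v * w) * y * (w * v) := by rw [h.commS hv hw]
      _ = v * (w * y * w) * v := by group
      _ = v * y⁻¹ * v := by rw [hinv w hw hw1 hwt y hy]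
      _ = y := by rw [hinv v hv hv1 hvt _ (inv_mem hy), inv_inv]
  obtain ⟨u, hu, hu1, hut⟩ : ∃ u ∈ (S : Subgroup G), u ≠ 1 ∧ u ≠ t := by
    by_contra hcon
    push Not at hcon
    have hsub : ((S : Subgroup G) : Set G) ⊆ {1, t} := fun a ha => by
      by_cases ha1 : a = 1
      · exact Or.inl ha1
      · exact Or.inr (hcon a ha ha1)
    have h1 := Set.ncard_le_ncard hsub
    rw [Set.ncard_pair ht1.symm, ← Nat.card_coe_set_eq] at h1
    have h2 : Nat.card (S : Subgroup G) ≤ 2 := h1
    rw [h.cardS] at h2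
    have := h.hp.two_le
    omega
  have hp3 : p = 3 := by
    have hsub : ((S : Subgroup G) : Set G) ⊆ {1, t, u, u * t} := fun v hv => by
      by_contra hcon
      simp only [Set.mem_insert_iff, Set.mem_singleton_iff, not_or] at hcon
      obtain ⟨hv1, hvt, hvu, hvut⟩ := hcon
      have huv1 : u * v ≠ 1 := fun e => hvu (by rw [← h.inv_self hu]; exact eq_inv_of_mul_eq_one_right e)
      have huvt : u * v ≠ t := fun e => hvut (by rw [← e, ← mul_assoc, h.exp u hu, one_mul])
      have e1 := hinv _ (mul_mem hu hv) huv1 huvt y1 hy1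
      rw [hboth u v hu hv hu1 hut hv1 hvt y1 hy1] at e1
      exact hy11 (hodd y1 hy1 (eq_inv_iff_mul_eq_one.1 e1))
    have h1 := (Set.ncard_le_ncard hsub).trans ((Set.ncard_insert_le _ _).trans
      (Nat.succ_le_succ ((Set.ncard_insert_le _ _).trans (Nat.succ_le_succ
        ((Set.ncard_insert_le _ _).trans (Nat.succ_le_succ (Set.ncard_singleton (u * t)).le))))))
    rw [← Nat.card_coe_set_eq] at h1
    have h2 : Nat.card (S : Subgroup G) ≤ 4 := h1
    rw [h.cardS] at h2
    have := h.hp.two_le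
    have := h.p2
    omega
  subst hp3
  have htfix : ∀ y ∈ (P : Subgroup G), t * y = y * t := by
    intro y hy
    have hut' : u * t ≠ 1 := fun e => hut (by rw [← h.inv_self ht]; exact eq_inv_of_mul_eq_one_left e)
    have hut'' : u * t ≠ t := fun e => hu1 (mul_eq_right.1 e)
    have e := hboth u (u * t) hu (mul_mem hu ht) hu1 hut hut' hut'' y hy
    rw [show u * (u * t) = t by rw [← mul_assoc, h.exp u hu, one_mul]] at e
    calc t * y = (t * y * t) * t := by rw [mul_assoc _ t t, h.exp t ht, mul_one]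
      _ = y * t := by rw [e]
  set N := normalizer ((P : Subgroup G) : Set G) with hNdef
  set C := centralizer ((P : Subgroup G) : Set G) with hCdef
  have hS4 : Nat.card S = 4 := h.cardS
  have hcop : (Nat.card S).Coprime (Nat.card P) := by
    rw [S.card_eq_multiplicity, P.card_eq_multiplicity]
    exact ((Nat.coprime_primes Nat.prime_two h.hp).2 (by norm_num)).pow _ _
  have hN : Nat.card N = 4 * Nat.card P := by
    refine Nat.dvd_antisymm (hS4 ▸ h.card_dvd (h.normalizer_proper P) (h.normalizer_even P) P) ?_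
    exact hS4 ▸ hcop.mul_dvd_of_dvd_of_dvd (card_dvd_of_le hSP) (card_dvd_of_le le_normalizer)
  have hCN : C ≤ N := centralizer_le_normalizer _
  have htC : t ∈ C := mem_centralizer_iff.2 fun y hy => (htfix y hy).symm
  have huC : u ∉ C := fun hc => by
    have e := hinv u hu hu1 hut y1 hy1
    rw [← mem_centralizer_iff.1 hc y1 hy1, mul_assoc, h.exp u hu, mul_one] at e
    exact hy11 (hodd y1 hy1 (eq_inv_iff_mul_eq_one.1 e))
  have hPC : (P : Subgroup G) ≤ C := fun x hx => mem_centralizer_iff.2 fun y hy => h.comm_of_pgroup P.2 hy hx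
  have hC : Nat.card C = 2 * Nat.card P := by
    obtain ⟨k, hk⟩ := card_dvd_of_le hPC
    have hq : 0 < Nat.card P := Nat.card_pos
    have hk4 : k ∣ 4 := by
      have := card_dvd_of_le hCN
      rw [hN, hk, mul_comm 4] at this
      exact Nat.dvd_of_mul_dvd_mul_left hq this
    have h2 : 2 ∣ Nat.card C := h.two_dvd_of_mem htC (h.exp t ht) ht1
    have hk1 : k ≠ 1 := fun e => by
      rw [hk, e, mul_one] at h2
      obtain ⟨n, hn⟩ := IsPGroup.iff_card.1 P.2
      rw [hn] at h2
      exact absurd (Nat.prime_two.dvd_of_dvd_pow h2) (by norm_num)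
    have hk4' : k ≠ 4 := fun e => huC ((Subgroup.eq_of_le_of_card_ge hCN
      (by rw [hN, hk, e, mul_comm])).symm ▸ hSP hu)
    obtain ⟨j, hj, rfl⟩ := (Nat.dvd_prime_pow Nat.prime_two).1 (show k ∣ 2 ^ 2 from hk4)
    interval_cases j
    · simp at hk1
    · rw [hk]; ring
    · simp at hk4'
  have hidx : ((P : Subgroup G).subgroupOf C).index = 2 := by
    have h1 := ((P : Subgroup G).subgroupOf C).card_mul_index
    rw [Nat.card_congr (Subgroup.subgroupOfEquivOfLe hPC).toEquiv, hC, mul_comm 2] at h1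
    exact Nat.eq_of_mul_eq_mul_left Nat.card_pos h1
  have hxt : ∀ x ∈ C, x * x = 1 → x ≠ 1 → x = t := by
    intro x hx hxx hx1
    have h1 : x ∉ (P : Subgroup G) := fun hm => hx1 (hodd x hm hxx)
    have h2 : t ∉ (P : Subgroup G) := fun hm => ht1 (hodd t hm (h.exp t ht))
    have hm : x * t ∈ (P : Subgroup G) := by
      have := (Subgroup.mul_mem_iff_of_index_two hidx (a := (⟨x, hx⟩ : C)) (b := ⟨t, htC⟩))
      simp only [mem_subgroupOf] at this
      exact this.2 (iff_of_false h1 h2)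
    have htx : t * x = x * t := by
      have := htfix _ hm
      rw [← mul_assoc, mul_assoc x t t, h.exp t ht, mul_one] at this
      calc t * x = (t * x * t) * t := by rw [mul_assoc _ t t, h.exp t ht, mul_one]
        _ = x * t := by rw [this]
    have := hodd _ hm (by rw [mul_assoc, ← mul_assoc t, htx, mul_assoc x t t, h.exp t ht, mul_one, hxx])
    rw [← h.inv_self ht]
    exact eq_inv_of_mul_eq_one_left this
  have hTI : Cfsg.IsTISubset (C : Set G) := by
    intro c hc x hx hcx
    by_contra hx1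
    suffices c ∈ N by
      apply hc
      refine mem_normalizer_of_conj fun w hw => mem_centralizer_iff.2 fun y hy => ?_
      have h1 := mem_centralizer_iff.1 hw _ ((mem_normalizer_iff''.1 this y).1 hy)
      calc y * (c * w * c⁻¹) = c * ((c⁻¹ * y * c) * w) * c⁻¹ := by group
        _ = c * (w * (c⁻¹ * y * c)) * c⁻¹ := by rw [h1]
        _ = _ := by group
    have hsqP : ∀ a ∈ C, a * a ∈ (P : Subgroup G) := fun a ha => by
      have := Subgroup.mul_self_mem_of_index_two hidx (⟨a, ha⟩ : C)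
      simpa [mem_subgroupOf] using this
    by_cases hxx : x * x = 1
    · have e1 := hxt x hx hxx hx1
      have e2 := hxt _ hcx (by rw [show c * x * c⁻¹ * (c * x * c⁻¹) = c * (x * x) * c⁻¹ by group, hxx]; group)
        (fun e => hx1 (conj_eq_one_iff.1 e))
      rw [e1] at e2
      have hct : c ∈ centralizer ({t} : Set G) := mem_centralizer_singleton_iff.2 (by
        calc c * t = c * t * c⁻¹ * c := by group
          _ = t * c := by rw [e2])
      have hDP' : (P : Subgroup G) = D :=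
        (P.is_maximal' hD fun y hy => hDmem y (mem_centralizer_singleton_iff.2 (htfix y hy).symm)
          (PEl.of_mem P.2 hy)).symm
      rw [hNdef, hDP']
      exact hDn c hct
    · set y := x * x
      have hy : y ∈ (P : Subgroup G) := hsqP x hx
      have hcy : c * y * c⁻¹ ∈ (P : Subgroup G) := by
        have := hsqP _ hcx
        rwa [show c * x * c⁻¹ * (c * x * c⁻¹) = c * (x * x) * c⁻¹ by group] at this
      have hY : IsPGroup 3 (zpowers y) := P.2.to_le (zpowers_le.2 hy)
      have hSY : (S : Subgroup G) ≤ normalizer ((zpowers y : Subgroup G) : Set G) := by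
        intro s hs
        refine mem_normalizer_of_conj fun a ha => ?_
        obtain ⟨i, rfl⟩ := mem_zpowers_iff.1 ha
        rw [← conj_zpow]
        by_cases hst : s = t
        · rw [hst, htfix y hy, mul_inv_cancel_right]
          exact zpow_mem (mem_zpowers y) i
        by_cases hs1 : s = 1
        · rw [hs1, one_mul, inv_one, mul_one]
          exact zpow_mem (mem_zpowers y) i
        rw [h.inv_self hs, hinv s hs hs1 hst y hy]
        exact zpow_mem (inv_mem (mem_zpowers y)) i
      have hnc : u * y ≠ y * u := fun e => hxx (hfree u hu hu1 hut y hy e)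
      have heq : P = c⁻¹ • P := (h.unique_sylow hY hSY ⟨y, mem_zpowers y, u, hu, hnc⟩).2 P _
        (zpowers_le.2 hy) (zpowers_le.2 (by
          rw [Sylow.coe_subgroup_smul, Subgroup.mem_pointwise_smul_iff_inv_smul_mem, ← map_inv,
            inv_inv, MulAut.smul_def, MulAut.conj_apply]
          exact hcy))
      exact inv_mem_iff.1 (Sylow.smul_eq_iff_mem_normalizer.1 heq.symm)
  exact S4018.result P (h.hab P) hN hC hTI (fun H hH h2 => hS4 ▸ h.card_dvd hH h2 P) h.simple

theorem Ctx.centralizes_of_beta (h : Ctx p r S g)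
    (hB : ∀ t ∈ (S : Subgroup G), t ≠ 1 → ∀ w, PEl p w → w * t = t * w →
      ∀ v ∈ (S : Subgroup G), v * w = w * v)
    (P : Sylow p G) {i z : G} (hi : i * i = 1) (hi1 : i ≠ 1)
    (hiN : i ∈ normalizer ((P : Subgroup G) : Set G)) (hz : z ∈ (P : Subgroup G))
    (hiz : i * z = z * i) : z = 1 := by
  haveI := Fact.mk h.hp
  haveI := Fact.mk Nat.prime_two
  set N := normalizer ((P : Subgroup G) : Set G)
  have hord : orderOf (⟨i, hiN⟩ : N) = 2 := by
    rw [Subgroup.orderOf_mk]; exact orderOf_eq_prime (by rw [sq]; exact hi) hi1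
  obtain ⟨T0, hT0⟩ := (IsPGroup.of_card (n := 1) (show Nat.card (zpowers (⟨i, hiN⟩ : N)) = 2 ^ 1 by
    rw [Nat.card_zpowers, hord, pow_one])).exists_le_sylow
  refine h.eq_one_of_sup P (T := (T0 : Subgroup N).map N.subtype) ?_ hz ?_
  · have : ((T0 : Subgroup N).map N.subtype).relIndex N = (T0 : Subgroup N).index := by
      rw [relIndex, subgroupOf, comap_map_eq_self_of_injective N.subtype_injective]
    rw [this]
    exact T0.not_dvd_index
  · intro x hx
    obtain ⟨Q, hQ⟩ := (T0.2.map N.subtype).exists_le_sylow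
    obtain ⟨c, hc⟩ := MulAction.exists_smul_eq G Q S
    have hcS : ∀ a ∈ (T0 : Subgroup N).map N.subtype, c * a * c⁻¹ ∈ (S : Subgroup G) := fun a ha => by
      rw [← hc]
      exact Subgroup.smul_mem_pointwise_smul a (MulAut.conj c) _ (hQ ha)
    have hiT : i ∈ (T0 : Subgroup N).map N.subtype := ⟨⟨i, hiN⟩, hT0 (mem_zpowers _), rfl⟩
    have := hB _ (hcS i hiT) (fun e => hi1 (conj_eq_one_iff.1 e)) _ ((PEl.of_mem P.2 hz).conj c)
      (by
        calc c * z * c⁻¹ * (c * i * c⁻¹) = c * (z * i) * c⁻¹ := by group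
          _ = _ := by rw [← hiz]; group) _ (hcS x hx)
    calc x * z = c⁻¹ * (c * x * c⁻¹ * (c * z * c⁻¹)) * c := by group
      _ = c⁻¹ * (c * z * c⁻¹ * (c * x * c⁻¹)) * c := by rw [this]
      _ = z * x := by group

theorem Ctx.trivial_of_beta (h : Ctx p r S g)
    (hB : ∀ t ∈ (S : Subgroup G), t ≠ 1 → ∀ w, PEl p w → w * t = t * w →
      ∀ v ∈ (S : Subgroup G), v * w = w * v)
    {w : G} (hwp : PEl p w) (hw : ∀ v ∈ (S : Subgroup G), v * w = w * v) : w = 1 := by
  haveI := Fact.mk h.hp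
  haveI := Fact.mk Nat.prime_two
  by_contra hw1
  have hW : IsPGroup p (zpowers w) := by
    intro z
    obtain ⟨k, hk⟩ := hwp
    obtain ⟨i, hi⟩ := mem_zpowers_iff.1 z.2
    refine ⟨k, Subtype.ext ?_⟩
    rw [SubmonoidClass.coe_pow, OneMemClass.coe_one, ← hi, ← zpow_natCast, zpow_comm, zpow_natCast,
      hk, one_zpow]
  obtain ⟨P, hP⟩ := hW.exists_le_sylow
  obtain ⟨⟨i, hiN⟩, hio⟩ := exists_prime_orderOf_dvd_card' 2 (h.normalizer_even P)
  rw [Subgroup.orderOf_mk] at hio
  have hi : i * i = 1 := by rw [← sq, ← hio]; exact pow_orderOf_eq_one i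
  have hi1 : i ≠ 1 := fun e => by simp [e] at hio
  have hwP : w ∈ (P : Subgroup G) := hP (mem_zpowers w)
  have hfree := fun y hy e => h.centralizes_of_beta hB P (z := y) hi hi1 hiN hy e
  have hwi := h.inverts P hi hiN hfree w hwP
  set X := normalizer ((zpowers w : Subgroup G) : Set G) with hXdef
  have hiX : i ∈ X := by
    refine mem_normalizer_of_conj fun a ha => ?_
    obtain ⟨j, rfl⟩ := mem_zpowers_iff.1 ha
    rw [← conj_zpow, inv_eq_of_mul_eq_one_right hi, hwi]
    exact zpow_mem (inv_mem (mem_zpowers w)) j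
  have hSX : (S : Subgroup G) ≤ X := fun x hx => by
    refine mem_normalizer_of_conj fun a ha => ?_
    obtain ⟨j, rfl⟩ := mem_zpowers_iff.1 ha
    rw [← conj_zpow, hw x hx, mul_inv_cancel_right]
    exact zpow_mem (mem_zpowers w) j
  obtain ⟨Q, hQ⟩ := (IsPGroup.of_card (n := 1) (show Nat.card (zpowers (⟨i, hiX⟩ : X)) = 2 ^ 1 by
    rw [Nat.card_zpowers, Subgroup.orderOf_mk, hio, pow_one])).exists_le_sylow
  obtain ⟨k, hk⟩ := MulAction.exists_smul_eq X Q (S.subtype hSX)
  have hkS : (k : G) * i * (k : G)⁻¹ ∈ (S : Subgroup G) := by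
    have := Subgroup.smul_mem_pointwise_smul (⟨i, hiX⟩ : X) (MulAut.conj k) _ (hQ (mem_zpowers _))
    rw [← Sylow.coe_subgroup_smul, hk] at this
    exact this
  obtain ⟨j, hj⟩ := mem_zpowers_iff.1 (conj_mem k.2 (mem_zpowers w))
  have hc : Commute ((k : G) * i * (k : G)⁻¹) ((k : G) * w * (k : G)⁻¹) := by
    rw [← hj]
    exact (show Commute _ w from hw _ hkS).zpow_right j
  refine hw1 (hfree w hwP ?_)
  calc i * w = (k : G)⁻¹ * (((k : G) * i * (k : G)⁻¹) * ((k : G) * w * (k : G)⁻¹)) * k := by group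
    _ = (k : G)⁻¹ * (((k : G) * w * (k : G)⁻¹) * ((k : G) * i * (k : G)⁻¹)) * k := by rw [hc.eq]
    _ = w * i := by group

theorem Ctx.false_beta (h : Ctx p r S g)
    (hB : ∀ t ∈ (S : Subgroup G), t ≠ 1 → ∀ w, PEl p w → w * t = t * w →
      ∀ v ∈ (S : Subgroup G), v * w = w * v) : False := by
  classical
  haveI := Fact.mk h.hp
  haveI := Fact.mk Nat.prime_two
  haveI := Fintype.ofFinite G
  haveI := Fintype.ofFinite (Sylow p G)
  have hp_odd : ¬ p ∣ 2 := fun hd => h.p2 ((Nat.prime_dvd_prime_iff_eq h.hp Nat.prime_two).1 hd)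
  -- no `p`-element commutes with an involution
  have hfree : ∀ i w : G, i * i = 1 → i ≠ 1 → PEl p w → i * w = w * i → w = 1 := by
    intro i w hi hi1 hwp e
    obtain ⟨c, hc⟩ := h.conjS hi
    have hcw : Commute (c * w * c⁻¹) (c * i * c⁻¹) := (show Commute w i from e.symm).map (MulAut.conj c)
    exact conj_eq_one_iff.1 (h.trivial_of_beta hB (hwp.conj c)
      (hB _ hc (fun e' => hi1 (conj_eq_one_iff.1 e')) _ (hwp.conj c) hcw.eq))
  obtain ⟨t, ht, ht1⟩ : ∃ t ∈ (S : Subgroup G), t ≠ 1 := by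
    obtain ⟨y, hy, hgy⟩ := h.gmove
    exact ⟨y, hy, fun e => hgy (by rw [e, mul_one, one_mul])⟩
  have htt := h.exp t ht
  -- the centraliser of an involution
  have hCt : centralizer ({t} : Set G) = (S : Subgroup G) := by
    refine S.is_maximal' (fun x => ⟨1, Subtype.ext ?_⟩) fun x hx => mem_centralizer_singleton_iff.2 (h.commS hx ht)
    obtain ⟨m, n, hmn, h1, h2⟩ := h.split (h.centralizer_ne_top ht1)
      (h.two_dvd_of_mem (mem_centralizer_singleton_iff.2 rfl) htt ht1) x.2
    have hc : Commute (x : G) t := mem_centralizer_singleton_iff.1 x.2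
    have hm : (x : G) ^ m = 1 := hfree t _ htt ht1 h1 ((hc.pow_left m).symm).eq
    have h2' : (x : G) ^ (n * 2) = 1 := by rw [pow_mul, sq, h2]
    rw [SubmonoidClass.coe_pow, pow_one, OneMemClass.coe_one]
    exact eq_one_of_coprime_pow (g := (x : G) ^ 2) (m := m) (n := n)
      (by rw [← pow_mul, mul_comm, pow_mul, hm, one_pow]) (by rw [← pow_mul, mul_comm]; exact h2') hmn
  set I := Finset.univ.filter fun i : G => i * i = 1 ∧ i ≠ 1 with hI
  have hImem : ∀ i, i ∈ I ↔ i * i = 1 ∧ i ≠ 1 := fun i => by simp [hI]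
  have hconj : ∀ i ∈ I, ∃ c : G, c * t * c⁻¹ = i := by
    intro i hi
    rw [hImem] at hi
    obtain ⟨c, hc⟩ := h.conjS hi.1
    obtain ⟨k, hk⟩ := h.conj_invol hc (fun e => hi.2 (conj_eq_one_iff.1 e)) ht ht1
    refine ⟨c⁻¹ * g ^ k, ?_⟩
    calc c⁻¹ * g ^ k * t * (c⁻¹ * g ^ k)⁻¹ = c⁻¹ * (g ^ k * t * (g ^ k)⁻¹) * c := by group
      _ = i := by rw [← hk]; group
  have hcardI : Nat.card G = I.card * Nat.card S := by
    rw [Nat.card_eq_fintype_card, ← Finset.card_univ, Finset.card_eq_sum_card_fiberwise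
      (f := fun x : G => x * t * x⁻¹) (t := I) (fun x _ => by
        simp only [Finset.mem_coe, hImem]
        exact ⟨by rw [show x * t * x⁻¹ * (x * t * x⁻¹) = x * (t * t) * x⁻¹ by group, htt]; group,
          fun e => ht1 (conj_eq_one_iff.1 e)⟩),
      Finset.sum_congr rfl (g := fun _ => Nat.card S) (fun i hi => ?_), Finset.sum_const, smul_eq_mul]
    obtain ⟨c, rfl⟩ := hconj i hi
    rw [← hCt, Nat.card_eq_fintype_card, Fintype.card_subtype]
    refine Finset.card_equiv (Equiv.mulLeft c⁻¹) fun x => ?_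
    simp only [Finset.mem_filter, Finset.mem_univ, true_and, Equiv.coe_mulLeft, mem_centralizer_singleton_iff]
    constructor
    · intro e
      calc c⁻¹ * x * t = c⁻¹ * (x * t * x⁻¹) * x := by group
        _ = c⁻¹ * (c * t * c⁻¹) * x := by rw [e]
        _ = _ := by group
    · intro e
      calc x * t * x⁻¹ = c * (c⁻¹ * x * t) * x⁻¹ := by group
        _ = c * (t * (c⁻¹ * x)) * x⁻¹ := by rw [e]
        _ = _ := by group
  have hpn : p ∣ I.card := by
    have := h.pG
    rw [hcardI, h.cardS] at this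
    rcases h.hp.dvd_mul.1 this with e | e
    · exact e
    · exfalso
      exact h.hp.not_dvd_one ((Nat.dvd_add_right dvd_rfl).1 e)
  -- Sylow normalisers
  have hcases : ∀ (P : Sylow p G), ∀ x ∈ normalizer ((P : Subgroup G) : Set G),
      x ∈ (P : Subgroup G) ∨ (x * x = 1 ∧ x ≠ 1) := by
    intro P x hx
    obtain ⟨m, n, hmn, h1, h2⟩ := h.split (h.normalizer_proper P) (h.normalizer_even P) hx
    have hxm : x ^ m ∈ (P : Subgroup G) := h.mem_of_normalizer P (pow_mem hx m) h1
    by_cases hn : x ^ n = 1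
    · exact Or.inl (mem_of_pow_mem hmn hxm (hn ▸ one_mem _))
    right
    have hm : x ^ m = 1 := hfree _ _ h2 hn h1 (Commute.pow_pow_self x n m).eq
    refine ⟨?_, fun e => hn (by rw [e, one_pow])⟩
    rw [← sq]
    exact eq_one_of_coprime_pow (g := x ^ 2) (m := m) (n := n)
      (by rw [← pow_mul, mul_comm, pow_mul, hm, one_pow])
      (by rw [← pow_mul, mul_comm, pow_mul, sq, h2]) hmn
  set q := Nat.card (Classical.arbitrary (Sylow p G)) with hq
  have hPq : ∀ P : Sylow p G, Nat.card P = q := fun P => by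
    rw [hq, P.card_eq_multiplicity, (Classical.arbitrary (Sylow p G)).card_eq_multiplicity]
  have hinvol : ∀ P : Sylow p G, ∀ i, i * i = 1 → i ≠ 1 → i ∈ normalizer ((P : Subgroup G) : Set G) →
      ∀ y ∈ (P : Subgroup G), i * y * i = y⁻¹ := fun P i hi hi1 hiN =>
    h.inverts P hi hiN fun y hy e => hfree i y hi hi1 (PEl.of_mem P.2 hy) e
  have hIN : ∀ P : Sylow p G,
      (I.filter fun i => i ∈ normalizer ((P : Subgroup G) : Set G)).card = q := by
    intro P
    obtain ⟨⟨i, hiN⟩, hio⟩ := exists_prime_orderOf_dvd_card' 2 (h.normalizer_even P)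
    rw [Subgroup.orderOf_mk] at hio
    have hi : i * i = 1 := by rw [← sq, ← hio]; exact pow_orderOf_eq_one i
    have hi1 : i ≠ 1 := fun e => by simp [e] at hio
    rw [← hPq P, Nat.card_eq_fintype_card, Fintype.card_subtype]
    refine Finset.card_equiv (Equiv.mulLeft i) fun x => ?_
    simp only [Finset.mem_filter, Finset.mem_univ, true_and, hImem, Equiv.coe_mulLeft]
    constructor
    · rintro ⟨⟨hx, hx1⟩, hxN⟩
      rcases hcases P (i * x) (mul_mem hiN hxN) with e | ⟨e, e1⟩
      · exact e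
      · exfalso
        obtain ⟨y, hy, hy1⟩ := (bot_or_exists_ne_one _).resolve_left (P.ne_bot_of_dvd_card h.pG)
        have a := hinvol P (i * x) e e1 (mul_mem hiN hxN) y hy
        have hc : i * x * y * (i * x)⁻¹ = y := by
          rw [mul_inv_rev, inv_eq_of_mul_eq_one_right hx, inv_eq_of_mul_eq_one_right hi]
          calc i * x * y * (x * i) = i * (x * y * x) * i := by group
            _ = i * y⁻¹ * i := by rw [hinvol P x hx hx1 hxN y hy]
            _ = y := by rw [hinvol P i hi hi1 hiN _ (inv_mem hy), inv_inv]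
        rw [inv_eq_of_mul_eq_one_right e, a] at hc
        exact hy1 ((PEl.of_mem P.2 hy).eq_one h.hp (m := 2)
          (by rw [sq]; exact inv_eq_iff_mul_eq_one.1 hc) hp_odd)
    · intro hx
      have hxe : x = i * (i * x) := by rw [← mul_assoc, hi, one_mul]
      have hxN : x ∈ normalizer ((P : Subgroup G) : Set G) := hxe ▸ mul_mem hiN (le_normalizer hx)
      have hxP : x ∉ (P : Subgroup G) := fun hxP => hi1 ((PEl.of_mem P.2 (show i ∈ (P : Subgroup G) by
        have := mul_mem hx (inv_mem hxP)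
        rwa [mul_inv_cancel_right] at this)).eq_one h.hp (m := 2) (by rw [sq]; exact hi) hp_odd)
      exact ⟨(hcases P x hxN).resolve_left hxP, hxN⟩
  have hNcard : ∀ P : Sylow p G, Nat.card (normalizer ((P : Subgroup G) : Set G)) = 2 * q := by
    intro P
    have hdisj : Disjoint (Finset.univ.filter fun x => x ∈ (P : Subgroup G))
        (I.filter fun i => i ∈ normalizer ((P : Subgroup G) : Set G)) := by
      rw [Finset.disjoint_left]
      intro x hx hx'
      simp only [Finset.mem_filter, Finset.mem_univ, true_and, hImem] at hx hx'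
      exact hx'.1.2 ((PEl.of_mem P.2 hx).eq_one h.hp (m := 2) (by rw [sq]; exact hx'.1.1) hp_odd)
    have hunion : (Finset.univ.filter fun x => x ∈ normalizer ((P : Subgroup G) : Set G)) =
        (Finset.univ.filter fun x => x ∈ (P : Subgroup G)) ∪
        (I.filter fun i => i ∈ normalizer ((P : Subgroup G) : Set G)) := by
      ext x
      simp only [Finset.mem_filter, Finset.mem_univ, true_and, Finset.mem_union, hImem]
      exact ⟨fun hx => (hcases P x hx).imp_right fun e => ⟨e, hx⟩,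
        fun hx => hx.elim (fun hx => le_normalizer hx) fun hx => hx.2⟩
    rw [Nat.card_eq_fintype_card, Fintype.card_subtype, hunion, Finset.card_union_of_disjoint hdisj, hIN,
      ← Fintype.card_subtype, ← Nat.card_eq_fintype_card, hPq]
    ring
  set F := Finset.univ.filter fun P : Sylow p G => t ∈ normalizer ((P : Subgroup G) : Set G) with hF
  have hdouble : Fintype.card (Sylow p G) * q = I.card * F.card := by
    have hsum : ∑ P : Sylow p G, (I.filter fun i => i ∈ normalizer ((P : Subgroup G) : Set G)).card =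
        ∑ i ∈ I, (Finset.univ.filter fun P : Sylow p G => i ∈ normalizer ((P : Subgroup G) : Set G)).card := by
      simp only [Finset.card_filter]
      exact Finset.sum_comm
    rw [Finset.sum_congr rfl (fun P _ => hIN P), Finset.sum_const, Finset.card_univ, smul_eq_mul,
      Finset.sum_congr rfl (g := fun _ => F.card) (fun i hi => ?_), Finset.sum_const, smul_eq_mul] at hsum
    · exact hsum
    obtain ⟨c, rfl⟩ := hconj i hi
    refine (Finset.card_equiv (MulAction.toPerm c) fun P => ?_).symm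
    simp only [hF, Finset.mem_filter, Finset.mem_univ, true_and, MulAction.toPerm_apply]
    have hiff : ∀ (w : G) (Q : Sylow p G), w ∈ normalizer ((Q : Subgroup G) : Set G) ↔ w • Q = Q :=
      fun w Q => Sylow.smul_eq_iff_mem_normalizer.symm
    rw [hiff, hiff, mul_smul, mul_smul, inv_smul_smul, smul_left_cancel_iff]
  have hm : 2 * F.card = p + 1 := by
    have h1 : Nat.card G = Fintype.card (Sylow p G) * (2 * q) := by
      rw [← Nat.card_eq_fintype_card, (Classical.arbitrary (Sylow p G)).card_eq_index_normalizer,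
        ← hNcard (Classical.arbitrary (Sylow p G))]
      exact (index_mul_card _).symm
    rw [hcardI, h.cardS, ← mul_assoc, mul_comm _ 2, mul_assoc, hdouble] at h1
    have hI0 : 0 < I.card := Finset.card_pos.2 ⟨t, (hImem t).2 ⟨htt, ht1⟩⟩
    exact (Nat.eq_of_mul_eq_mul_left hI0 (h1.trans (by ring))).symm
  -- involutions outside `S`
  have hCy : ∀ y : G, PEl p y → y ≠ 1 → t * y * t⁻¹ = y⁻¹ →
      IsPGroup p (centralizer ({y} : Set G)) := by
    intro y hyp hy1 hinv x
    have hX : t ∈ normalizer ((zpowers y : Subgroup G) : Set G) := by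
      refine mem_normalizer_of_conj fun a ha => ?_
      obtain ⟨j, rfl⟩ := mem_zpowers_iff.1 ha
      rw [← conj_zpow, hinv]
      exact zpow_mem (inv_mem (mem_zpowers y)) j
    have hW : IsPGroup p (zpowers y) := by
      intro z
      obtain ⟨k, hk⟩ := hyp
      obtain ⟨i, hi⟩ := mem_zpowers_iff.1 z.2
      refine ⟨k, Subtype.ext ?_⟩
      rw [SubmonoidClass.coe_pow, OneMemClass.coe_one, ← hi, ← zpow_natCast, zpow_comm, zpow_natCast,
        hk, one_zpow]
    have hxc : Commute (x : G) y := mem_centralizer_singleton_iff.1 x.2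
    have hxN : (x : G) ∈ normalizer ((zpowers y : Subgroup G) : Set G) := by
      refine mem_normalizer_of_conj fun a ha => ?_
      obtain ⟨j, rfl⟩ := mem_zpowers_iff.1 ha
      rw [(hxc.zpow_right j).eq, mul_inv_cancel_right]
      exact zpow_mem (mem_zpowers y) j
    obtain ⟨m, n, hmn, ⟨k, h1⟩, h2⟩ := h.split
      (h.normalizer_ne_top (fun e => hy1 (zpowers_eq_bot.1 e)) (h.pgroup_ne_top hW))
      (h.two_dvd_of_mem hX htt ht1) hxN
    have hxn : (x : G) ^ n = 1 := by
      by_contra hne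
      exact hy1 (hfree _ y h2 hne hyp (hxc.pow_left n).eq)
    refine ⟨k, Subtype.ext ?_⟩
    rw [SubmonoidClass.coe_pow, OneMemClass.coe_one]
    exact eq_one_of_coprime_pow (g := (x : G) ^ p ^ k) (m := m) (n := n)
      (by rw [← pow_mul, mul_comm, pow_mul, h1])
      (by rw [← pow_mul, mul_comm, pow_mul, hxn, one_pow]) hmn
  let Pairs := Σ P : {P : Sylow p G // t ∈ normalizer ((P : Subgroup G) : Set G)},
    {y : (P.1 : Subgroup G) // y ≠ 1}
  let Out := {i : G // (i * i = 1 ∧ i ≠ 1) ∧ i ∉ (S : Subgroup G)}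
  have hfun : ∀ a : Pairs, ((t * ((a.2.1 : G))) * (t * ((a.2.1 : G))) = 1 ∧ t * ((a.2.1 : G)) ≠ 1) ∧
      t * ((a.2.1 : G)) ∉ (S : Subgroup G) := by
    intro a
    obtain ⟨⟨P, hP⟩, ⟨⟨y, hy⟩, hy1⟩⟩ := a
    have hy1' : y ≠ 1 := fun e => hy1 (Subtype.ext e)
    refine ⟨⟨?_, fun e => ?_⟩, fun e => ?_⟩
    · calc t * y * (t * y) = (t * y * t) * y := by group
        _ = 1 := by rw [hinvol P t htt ht1 hP y hy, inv_mul_cancel]
    · exact ht1 ((PEl.of_mem P.2 ((eq_inv_of_mul_eq_one_left e) ▸ inv_mem hy :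
        t ∈ (P : Subgroup G))).eq_one h.hp (m := 2) (by rw [sq]; exact htt) hp_odd)
    · have hyS : y ∈ (S : Subgroup G) := by
        have := mul_mem (inv_mem ht) e
        rwa [inv_mul_cancel_left] at this
      exact hy1' ((PEl.of_mem P.2 hy).eq_one h.hp (m := 2) (by rw [sq]; exact h.exp y hyS) hp_odd)
  let f : Pairs → Out := fun a => ⟨t * (a.2.1 : G), hfun a⟩
  have hconjt : ∀ (P : Sylow p G), t ∈ normalizer ((P : Subgroup G) : Set G) → ∀ y ∈ (P : Subgroup G),
      t * y * t⁻¹ = y⁻¹ := fun P hP y hy => by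
    rw [inv_eq_of_mul_eq_one_right htt]; exact hinvol P t htt ht1 hP y hy
  have hPC : ∀ (P : Sylow p G), t ∈ normalizer ((P : Subgroup G) : Set G) → ∀ y ∈ (P : Subgroup G),
      y ≠ 1 → centralizer ({y} : Set G) = P := fun P hP y hy hy1 =>
    P.is_maximal' (hCy y (PEl.of_mem P.2 hy) hy1 (hconjt P hP y hy))
      fun x hx => mem_centralizer_singleton_iff.2 (h.comm_of_pgroup P.2 hx hy)
  have hf : Function.Bijective f := by
    constructor
    · rintro ⟨⟨P, hP⟩, ⟨⟨y, hy⟩, hy1⟩⟩ ⟨⟨Q, hQ⟩, ⟨⟨z, hz⟩, hz1⟩⟩ e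
      have eyz : y = z := mul_left_cancel (congrArg Subtype.val e)
      subst eyz
      have hy1' : y ≠ 1 := fun e => hy1 (Subtype.ext e)
      obtain rfl : P = Q := Sylow.ext ((hPC P hP y hy hy1').symm.trans (hPC Q hQ y hz hy1'))
      rfl
    · rintro ⟨i, ⟨hi, hi1⟩, hiS⟩
      have hne : t * i ≠ i * t := fun e => hiS (hCt ▸ mem_centralizer_singleton_iff.2 e.symm)
      obtain ⟨m, hm1, hmp⟩ := h.real_product htt hi hne
      set z := (t * i) ^ m with hz
      have hzp : PEl p z := ⟨1, by rw [pow_one]; exact hmp⟩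
      have hinv : t * z * t⁻¹ = z⁻¹ := by
        rw [hz, ← conj_pow, ← inv_pow, mul_inv_rev, inv_eq_of_mul_eq_one_right hi,
          inv_eq_of_mul_eq_one_right htt]
        congr 1
        calc t * (t * i) * t = (t * t) * i * t := by group
          _ = i * t := by rw [htt, one_mul]
      have hC := hCy z hzp hm1 hinv
      obtain ⟨P, hP⟩ := hC.exists_le_sylow
      have hzP : z ∈ (P : Subgroup G) := hP (mem_centralizer_singleton_iff.2 rfl)
      have hPz : centralizer ({z} : Set G) = P :=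
        P.is_maximal' hC fun x hx => mem_centralizer_singleton_iff.2 (h.comm_of_pgroup P.2 hx hzP)
      have htP : t ∈ normalizer ((P : Subgroup G) : Set G) := by
        refine mem_normalizer_of_conj fun y hy => ?_
        rw [← hPz] at hy ⊢
        have hc : Commute y z := mem_centralizer_singleton_iff.1 hy
        have := hc.map (MulAut.conj t)
        simp only [MulAut.conj_apply, hinv] at this
        exact mem_centralizer_singleton_iff.2 (by simpa using this.inv_right.eq)
      have htiP : t * i ∈ (P : Subgroup G) :=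
        hPz ▸ mem_centralizer_singleton_iff.2 (by rw [hz]; exact (Commute.self_pow (t * i) m).eq)
      refine ⟨⟨⟨P, htP⟩, ⟨⟨t * i, htiP⟩, fun e => hne ?_⟩⟩, Subtype.ext ?_⟩
      · have e' : t * i = 1 := congrArg Subtype.val e
        rw [e', ← inv_eq_of_mul_eq_one_right e', inv_mul_cancel]
      · show t * (t * i) = i
        rw [← mul_assoc, htt, one_mul]
  have hcount := Nat.card_congr (Equiv.ofBijective f hf)
  have hlhs : Nat.card Pairs = F.card * (q - 1) := by
    rw [Nat.card_sigma, Finset.sum_congr rfl (g := fun _ => q - 1) (fun P _ => ?_), Finset.sum_const,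
      Finset.card_univ, Fintype.card_subtype, smul_eq_mul, hF]
    rw [Nat.card_eq_fintype_card, Fintype.card_subtype, Finset.filter_ne', Finset.card_erase_of_mem
      (Finset.mem_univ _), Finset.card_univ, ← Nat.card_eq_fintype_card, hPq]
  have hrhs : Nat.card Out + p = I.card := by
    have h1 := Finset.card_filter_add_card_filter_not (s := I) (fun i => i ∈ (S : Subgroup G))
    have h2 : (I.filter fun i => i ∉ (S : Subgroup G)).card = Nat.card Out := by
      rw [Nat.card_eq_fintype_card, Fintype.card_subtype]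
      congr 1
      ext i
      simp [hI]
    have h3 : (I.filter fun i => i ∈ (S : Subgroup G)).card = p := by
      have e : (I.filter fun i => i ∈ (S : Subgroup G)) =
          (Finset.univ.filter fun i => i ∈ (S : Subgroup G)).erase 1 := by
        ext i
        simp only [Finset.mem_filter, Finset.mem_erase, Finset.mem_univ, true_and, hImem]
        exact ⟨fun ⟨⟨_, a⟩, b⟩ => ⟨a, b⟩, fun ⟨a, b⟩ => ⟨⟨h.exp i b, a⟩, b⟩⟩
      rw [e, Finset.card_erase_of_mem (by simp), ← Fintype.card_subtype, ← Nat.card_eq_fintype_card,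
        h.cardS]
      omega
    omega
  rw [← hcount, hlhs] at hrhs
  have hpq : p ∣ q := (Classical.arbitrary (Sylow p G)).dvd_card_of_dvd_card h.pG
  have hq1 : 1 ≤ q := Nat.card_pos
  have hd1 : p ∣ F.card * (q - 1) := by
    have := Nat.dvd_sub hpn (dvd_refl p)
    rwa [show I.card - p = F.card * (q - 1) by omega] at this
  rcases h.hp.dvd_mul.1 hd1 with e | e
  · have : p ∣ p + 1 := hm ▸ e.mul_left 2
    exact h.hp.not_dvd_one ((Nat.dvd_add_right dvd_rfl).1 this)
  · have := Nat.dvd_sub hpq e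
    rw [show q - (q - 1) = 1 by omega] at this
    exact h.hp.not_dvd_one this

theorem Ctx.false (h : Ctx p r S g) : False := by
  by_cases hB : ∀ t ∈ (S : Subgroup G), t ≠ 1 → ∀ w, PEl p w → w * t = t * w →
      ∀ v ∈ (S : Subgroup G), v * w = w * v
  · exact h.false_beta hB
  · push Not at hB
    obtain ⟨t, ht, ht1, w, hwp, hwt, v, hv, hne⟩ := hB
    exact h.false_alpha ht ht1 hwp hwt ⟨v, hv, hne⟩

theorem main : ∀ (n : ℕ) {G : Type u} [Group G] [Finite G] {p q : ℕ}, Nat.card G = n → p.Prime →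
    q.Prime → p ≠ q → p ≠ 2 → p ∣ Nat.card G → q ∣ Nat.card G →
    (∀ H : Subgroup G, H ≠ ⊤ → ¬ IsPGroup q H → q ∣ Nat.card H → p ∣ Nat.card H) →
    (q ^ (Nat.card G).factorization q - 1 < p ∨
      (p = q ^ (Nat.card G).factorization q - 1 ∧ ∀ P : Sylow p G, IsMulCommutative P)) →
    ∀ r : ℕ, r.Prime → r ∣ Nat.card G → r = p ∨ r = q := by
  intro n
  induction n using Nat.strong_induction_on with
  | _ n ih =>
    intro G _ _ p q hn hp hq hpq hp2 hpG hqG hmix hlarge r hr hrG
    by_contra hcon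
    push Not at hcon
    obtain ⟨hrp, hrq⟩ := hcon
    haveI := Fact.mk hp
    haveI := Fact.mk hq
    subst hn
    have hsmall : ∀ H : Subgroup G, H ≠ ⊤ → q ∣ Nat.card H → ∀ s : ℕ, s.Prime → s ∣ Nat.card H →
        s = p ∨ s = q := by
      intro H hH hqH s hs hsH
      by_cases hHq : IsPGroup q H
      · obtain ⟨k, hk⟩ := IsPGroup.iff_card.1 hHq
        rw [hk] at hsH
        exact Or.inr ((Nat.prime_dvd_prime_iff_eq hs hq).1 (hs.dvd_of_dvd_pow hsH))
      have hpH := hmix H hH hHq hqH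
      have hlt : Nat.card H < Nat.card G := lt_of_le_of_ne
        (Nat.le_of_dvd Nat.card_pos H.card_subgroup_dvd_card) fun e => hH (eq_top_of_card_eq H e)
      refine ih _ hlt rfl hp hq hpq hp2 hpH hqH ?_ ?_ s hs hsH
      · intro K hK hKq hqK
        have e : Nat.card (K.map H.subtype) = Nat.card K := card_map_of_injective H.subtype_injective
        rw [← e]
        refine hmix _ (fun e' => hH ?_) (fun hk => hKq ?_) (by rw [e]; exact hqK)
        · exact top_le_iff.1 (e' ▸ map_subtype_le K)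
        · exact hk.of_equiv (K.equivMapOfInjective _ H.subtype_injective).symm
      · have hle : q ^ (Nat.card H).factorization q ≤ q ^ (Nat.card G).factorization q :=
          Nat.pow_le_pow_right hq.pos
            ((Nat.factorization_le_iff_dvd Nat.card_pos.ne' Nat.card_pos.ne').2 H.card_subgroup_dvd_card q)
        rcases hlarge with hl | ⟨hl, hab⟩
        · left; omega
        · rcases lt_or_eq_of_le hle with h' | h'
          · left; have := Nat.one_le_pow ((Nat.card H).factorization q) q hq.pos; omega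
          · refine Or.inr ⟨by rw [h']; exact hl, fun Q => ⟨⟨fun a b => ?_⟩⟩⟩
            obtain ⟨P, hP⟩ := (Q.2.map H.subtype).exists_le_sylow
            haveI := hab P
            have := (hab P).is_comm.comm ⟨((a : H) : G), hP ⟨(a : H), a.2, rfl⟩⟩
              ⟨((b : H) : G), hP ⟨(b : H), b.2, rfl⟩⟩
            exact Subtype.ext (Subtype.ext (congrArg Subtype.val this :))
    by_cases hcen : ∀ R : Subgroup G, IsPGroup q R → ∀ w ∈ normalizer (R : Set G), PEl p w →
        ∀ y ∈ R, w * y = y * w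
    · exact case_centralize hp hq hr hrq hrp hpq hpG hqG hrG hmix hsmall hcen
    push Not at hcen
    obtain ⟨R, hR, w, hw, hwp, y, hy, hwy⟩ := hcen
    obtain ⟨hb, -⟩ := orbit_bound hp hw hwp hy hwy
    set N := q ^ (Nat.card G).factorization q with hN
    obtain ⟨S, hRS⟩ := hR.exists_le_sylow
    have hRN : Nat.card R ≤ N := by
      rw [hN, ← S.card_eq_multiplicity]
      exact Nat.le_of_dvd Nat.card_pos (card_dvd_of_le hRS)
    obtain ⟨hpN, hab⟩ : p = N - 1 ∧ ∀ P : Sylow p G, IsMulCommutative P := by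
      rcases hlarge with hl | hl
      · omega
      · exact hl
    have hq2 : q = 2 := by
      by_contra hne
      have ho : Odd N := (hq.odd_of_ne_two hne).pow
      have hp' : Odd p := hp.odd_of_ne_two hp2
      obtain ⟨a, ha⟩ := ho
      obtain ⟨b, hb'⟩ := hp'
      omega
    subst hq2
    have hSR : R = (S : Subgroup G) :=
      Subgroup.eq_of_le_of_card_ge hRS (by rw [S.card_eq_multiplicity, ← hN]; omega)
    subst hSR
    have hcardS : Nat.card S = p + 1 := by
      have : Nat.card S = N := S.card_eq_multiplicity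
      omega
    have horb := (orbit_bound hp hw hwp hy hwy).2 hcardS
    have hexp : ∀ x ∈ (S : Subgroup G), x * x = 1 := by
      have h2 : 2 ∣ Nat.card S := by
        rw [hcardS]; have := hp.eq_two_or_odd.resolve_left hp2; omega
      obtain ⟨⟨x0, hx0⟩, hxo⟩ := exists_prime_orderOf_dvd_card' 2 h2
      rw [Subgroup.orderOf_mk] at hxo
      have hx01 : x0 ≠ 1 := fun e => by simp [e] at hxo
      obtain ⟨k0, hk0⟩ := horb x0 hx0 hx01
      have hy2 : y * y = 1 := by
        have : x0 ^ 2 = 1 := hxo ▸ pow_orderOf_eq_one x0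
        rw [hk0, conj_pow, conj_eq_one_iff, sq] at this
        exact this
      intro x hx
      rcases eq_or_ne x 1 with rfl | hx1
      · rw [one_mul]
      obtain ⟨k, hk⟩ := horb x hx hx1
      rw [hk, ← sq, conj_pow, sq, hy2, mul_one, mul_inv_cancel]
    exact Ctx.false (r := r) (g := w) (S := S)
      ⟨hp, hp2, hr, hrp, hrq, hpG, hrG, hmix, hsmall, hab, hcardS, hexp, hw, hwp, ⟨y, hy, hwy⟩⟩

end Cfsg.Agent.FGS3.MixedPrime
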