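import Cfsg.Agent.Transfer.Burnside
import Mathlib.GroupTheory.Sylow
import Mathlib.GroupTheory.SchurZassenhaus
import Mathlib.Tactic

/-!
Elementary lemmas for groups in which every mixed subgroup has order divisible by `p`: elements of
prime power order, products with normalised subgroups, and orbits of `p`-elements.
-/

set_option autoImplicit false
set_option linter.style.haveILetI false

namespace Cfsg.Agent.FGS3.MixedPrime

open Subgroup

variable {G : Type*} [Group G]

/-- `g` has `p`-power order. -/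
def PEl (p : ℕ) (g : G) : Prop := ∃ k, g ^ p ^ k = 1

theorem PEl.of_mem {p : ℕ} {P : Subgroup G} (hP : IsPGroup p P) {g : G} (hg : g ∈ P) : PEl p g := by
  obtain ⟨k, hk⟩ := hP ⟨g, hg⟩
  exact ⟨k, by simpa using congrArg Subtype.val hk⟩

theorem PEl.pow {p : ℕ} {g : G} (h : PEl p g) (m : ℕ) : PEl p (g ^ m) := by
  obtain ⟨k, hk⟩ := h
  exact ⟨k, by rw [← pow_mul, mul_comm, pow_mul, hk, one_pow]⟩

theorem PEl.inv {p : ℕ} {g : G} (h : PEl p g) : PEl p g⁻¹ := by
  obtain ⟨k, hk⟩ := h
  exact ⟨k, by rw [inv_pow, hk, inv_one]⟩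

theorem PEl.conj {p : ℕ} {g : G} (h : PEl p g) (c : G) : PEl p (c * g * c⁻¹) := by
  obtain ⟨k, hk⟩ := h
  exact ⟨k, by rw [conj_pow, hk, mul_one, mul_inv_cancel]⟩

theorem eq_one_of_coprime_pow {g : G} {m n : ℕ} (hm : g ^ m = 1) (hn : g ^ n = 1)
    (hc : m.Coprime n) : g = 1 := by
  have h1 : g ^ m.gcd n = 1 := pow_gcd_eq_one.2 ⟨hm, hn⟩
  rwa [hc.gcd_eq_one, pow_one] at h1

theorem PEl.eq_one {p : ℕ} (hp : p.Prime) {g : G} (h : PEl p g) {m : ℕ} (hm : g ^ m = 1)
    (hpm : ¬ p ∣ m) : g = 1 := by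
  obtain ⟨k, hk⟩ := h
  exact eq_one_of_coprime_pow hk hm (((hp.coprime_iff_not_dvd).2 hpm).pow_left k)

theorem mem_of_pow_mem {K : Subgroup G} {g : G} {m n : ℕ} (hc : m.Coprime n) (hm : g ^ m ∈ K)
    (hn : g ^ n ∈ K) : g ∈ K := by
  have h := Nat.gcd_eq_gcd_ab m n
  rw [hc.gcd_eq_one, Nat.cast_one] at h
  rw [← zpow_one g, h, zpow_add, zpow_mul, zpow_mul, zpow_natCast, zpow_natCast]
  exact K.mul_mem (K.zpow_mem hm _) (K.zpow_mem hn _)

theorem mem_normalizer_of_conj [Finite G] {R : Subgroup G} {x : G}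
    (h : ∀ y ∈ R, x * y * x⁻¹ ∈ R) : x ∈ normalizer (R : Set G) := by
  rw [mem_normalizer_iff_map_conj_eq]
  refine Subgroup.eq_of_le_of_card_ge ?_ ?_
  · rintro _ ⟨y, hy, rfl⟩
    exact h y hy
  · exact (Subgroup.card_map_of_injective (MulAut.conj x).injective).ge

theorem conj_mem {R : Subgroup G} {x y : G} (hx : x ∈ normalizer (R : Set G)) (hy : y ∈ R) :
    x * y * x⁻¹ ∈ R :=
  (mem_normalizer_iff.1 hx y).1 hy

/-- The product of an `s`-group and a normalising element of order `t`. -/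
theorem sup_no_p [Finite G] {p s t : ℕ} (hp : p.Prime) (hps : p ≠ s) (hpt : p ≠ t) (hs : s.Prime)
    (ht : t.Prime) {R : Subgroup G} (hR : IsPGroup s R) {x : G}
    (hx : x ∈ normalizer (R : Set G)) (hxt : orderOf x = t) :
    ¬ p ∣ Nat.card (zpowers x ⊔ R : Subgroup G) := by
  haveI := Fact.mk hp
  intro hd
  set K := zpowers x ⊔ R with hK
  have hKN : K ≤ normalizer (R : Set G) := sup_le (zpowers_le.2 hx) le_normalizer
  haveI : (R.subgroupOf K).Normal := (normal_subgroupOf_iff_le_normalizer le_sup_right).2 hKN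
  obtain ⟨⟨y, hy⟩, hyo⟩ := exists_prime_orderOf_dvd_card' (G := K) p hd
  have hyp : y ^ p = 1 := by
    have := pow_orderOf_eq_one (⟨y, hy⟩ : K)
    rw [hyo] at this
    simpa using congrArg Subtype.val this
  have hmem : (⟨y, hy⟩ : K) ∈ (zpowers x).subgroupOf K ⊔ R.subgroupOf K := by
    rw [← subgroupOf_sup le_sup_left le_sup_right, subgroupOf_self]
    exact mem_top _
  obtain ⟨a, ha, b, hb, e⟩ := mem_sup_of_normal_right.1 hmem
  have hyt : y ^ t ∈ R := by
    have h1 : ((⟨y, hy⟩ : K) : K ⧸ R.subgroupOf K) ^ t = 1 := by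
      rw [← e, QuotientGroup.mk_mul, (QuotientGroup.eq_one_iff b).2 hb, mul_one,
        ← QuotientGroup.mk_pow]
      have : a ^ t = 1 := by
        rw [mem_subgroupOf] at ha
        obtain ⟨i, hi⟩ := mem_zpowers_iff.1 ha
        apply Subtype.ext
        rw [SubmonoidClass.coe_pow, OneMemClass.coe_one, ← hi, ← zpow_natCast, zpow_comm,
          zpow_natCast, ← hxt, pow_orderOf_eq_one, one_zpow]
      rw [this, QuotientGroup.mk_one]
    rw [← QuotientGroup.mk_pow, QuotientGroup.eq_one_iff, mem_subgroupOf,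
      SubmonoidClass.coe_pow] at h1
    exact h1
  have h1 : y ^ t = 1 := (PEl.of_mem hR hyt).eq_one hs
    (show (y ^ t) ^ p = 1 by rw [← pow_mul, mul_comm, pow_mul, hyp, one_pow])
    (fun h => hps ((Nat.prime_dvd_prime_iff_eq hs hp).1 h).symm)
  have h2 : y = 1 := eq_one_of_coprime_pow hyp h1 ((Nat.coprime_primes hp ht).2 hpt)
  subst h2
  rw [show (⟨1, hy⟩ : K) = 1 from rfl, orderOf_one] at hyo
  exact hp.ne_one hyo.symm

/-- Frattini argument, counting version. -/
theorem frattini_dvd [Finite G] (N : Subgroup G) [N.Normal] {s : ℕ} [Fact s.Prime] (T : Sylow s N)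
    {t : ℕ} (ht : t ∣ N.index) :
    t ∣ Nat.card (normalizer ((T : Subgroup N).map N.subtype : Set G)) := by
  have h := Sylow.normalizer_sup_eq_top T
  set M := normalizer ((T : Subgroup N).map N.subtype : Set G) with hM
  have hsurj : Function.Surjective ((QuotientGroup.mk' N).comp M.subtype) := by
    intro z
    obtain ⟨w, rfl⟩ := QuotientGroup.mk'_surjective N z
    have hw : w ∈ M ⊔ N := h ▸ mem_top w
    obtain ⟨m, hm, n, hn, rfl⟩ := mem_sup_of_normal_right.1 hw
    refine ⟨⟨m, hm⟩, ?_⟩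
    show ((m : G) : G ⧸ N) = ((m * n : G) : G ⧸ N)
    rw [QuotientGroup.mk_mul, (QuotientGroup.eq_one_iff n).2 hn, mul_one]
  exact (N.index_eq_card ▸ ht).trans (card_dvd_of_surjective _ hsurj)

/-- The orbit of a non-commuting element under a `p`-element. -/
theorem orbit_p {p : ℕ} (hp : p.Prime) {g y : G} (hg : PEl p g) (hgy : g * y ≠ y * g) :
    ∃ h : G, (∃ k : ℕ, h = g ^ k) ∧
      Function.Injective (fun i : Fin p => h ^ (i : ℕ) * y * (h ^ (i : ℕ))⁻¹) := by
  classical
  obtain ⟨k, hk⟩ := hg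
  have hex : ∃ k, Commute (g ^ p ^ k) y := ⟨k, by rw [hk]; exact Commute.one_left y⟩
  obtain ⟨m, hm⟩ : ∃ m, Nat.find hex = m + 1 := by
    rcases Nat.eq_zero_or_pos (Nat.find hex) with e | e
    · have := Nat.find_spec hex
      rw [e, pow_zero, pow_one] at this
      exact absurd this.eq hgy
    · exact ⟨_, (Nat.sub_add_cancel e).symm⟩
  refine ⟨g ^ p ^ m, ⟨_, rfl⟩, ?_⟩
  set h := g ^ p ^ m with hh
  have h1 : ¬ Commute h y := Nat.find_min hex (by omega)
  have h2 : Commute (h ^ p) y := by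
    have := Nat.find_spec hex
    rwa [hm, pow_succ, pow_mul] at this
  have key : ∀ i j : ℕ, i < j → j < p →
      h ^ i * y * (h ^ i)⁻¹ ≠ h ^ j * y * (h ^ j)⁻¹ := by
    intro i j hij hj e
    obtain ⟨d, rfl⟩ := Nat.exists_eq_add_of_le hij.le
    have hd : h ^ d ∈ centralizer ({y} : Set G) := by
      rw [mem_centralizer_singleton_iff]
      have e' : y = h ^ d * y * (h ^ d)⁻¹ := by
        apply mul_left_cancel (a := h ^ i)
        apply mul_right_cancel (b := (h ^ i)⁻¹)
        rw [e, pow_add]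
        group
      calc h ^ d * y = h ^ d * y * (h ^ d)⁻¹ * h ^ d := by group
        _ = y * h ^ d := by rw [← e']
    have hcop : d.Coprime p := (hp.coprime_iff_not_dvd.2 fun hdvd => by
      have := Nat.le_of_dvd (by omega) hdvd
      omega).symm
    exact h1 (mem_centralizer_singleton_iff.1
      (mem_of_pow_mem hcop hd (mem_centralizer_singleton_iff.2 h2.eq)))
  intro i j hij
  apply Fin.ext
  by_contra hne
  rcases lt_or_gt_of_ne hne with h3 | h3
  · exact key i j h3 j.isLt hij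
  · exact key j i h3 i.isLt hij.symm

/-- A `p`-element moving an element of a subgroup it normalises. -/
theorem orbit_bound [Finite G] {p : ℕ} (hp : p.Prime) {R : Subgroup G} {g y : G}
    (hgR : g ∈ normalizer (R : Set G)) (hg : PEl p g) (hy : y ∈ R) (hgy : g * y ≠ y * g) :
    p + 1 ≤ Nat.card R ∧
      (Nat.card R = p + 1 → ∀ z ∈ R, z ≠ 1 → ∃ k : ℕ, z = g ^ k * y * (g ^ k)⁻¹) := by
  classical
  obtain ⟨h, ⟨k, rfl⟩, hinj⟩ := orbit_p hp hg hgy
  haveI := Fintype.ofFinite R
  have hy1 : y ≠ 1 := fun e => hgy (by rw [e, mul_one, one_mul])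
  let f : Fin p → R := fun i =>
    ⟨(g ^ k) ^ (i : ℕ) * y * ((g ^ k) ^ (i : ℕ))⁻¹, conj_mem (pow_mem (pow_mem hgR k) _) hy⟩
  have hf : Function.Injective f := fun i j e => hinj (congrArg Subtype.val e)
  have hne : (1 : R) ∉ Finset.univ.image f := by
    simp only [Finset.mem_image, Finset.mem_univ, true_and, not_exists]
    intro i hi
    exact hy1 (conj_eq_one_iff.1 (congrArg Subtype.val hi))
  have hcard : (insert (1 : R) (Finset.univ.image f)).card = p + 1 := by
    rw [Finset.card_insert_of_notMem hne, Finset.card_image_of_injective _ hf, Finset.card_univ,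
      Fintype.card_fin]
  refine ⟨?_, fun hR z hz hz1 => ?_⟩
  · rw [← hcard, Nat.card_eq_fintype_card]
    exact Finset.card_le_univ _
  · have huniv : insert (1 : R) (Finset.univ.image f) = Finset.univ := by
      apply Finset.eq_univ_of_card
      rw [hcard, ← hR, Nat.card_eq_fintype_card]
    have := huniv ▸ Finset.mem_univ (⟨z, hz⟩ : R)
    simp only [Finset.mem_insert, Finset.mem_image, Finset.mem_univ, true_and] at this
    rcases this with e | ⟨i, hi⟩
    · exact absurd (congrArg Subtype.val e) hz1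
    · exact ⟨k * i, by rw [pow_mul]; exact (congrArg Subtype.val hi).symm⟩

end Cfsg.Agent.FGS3.MixedPrime
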