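import Cfsg.Prelude.Def_OddOrderLocal
import Cfsg.Agent.FGS3.PGroupBasic
import Cfsg.Agent.Coprime.Generation
import Mathlib

/-!
# TI-subgroups that are Hall in their normalizer, separable case
-/

set_option autoImplicit false

namespace Cfsg.Agent.FGS3.TIHall

variable {G : Type*} [Group G] [Finite G]

theorem card_sup_dvd_mul (K L : Subgroup G) [K.Normal] :
    Nat.card ↥(K ⊔ L) ∣ Nat.card K * Nat.card L := by
  have h1 := Subgroup.relIndex_mul_relIndex ⊥ K (K ⊔ L) bot_le le_sup_left
  rw [Subgroup.relIndex_bot_left, Subgroup.relIndex_bot_left, sup_comm K L,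
    Subgroup.relIndex_sup_right] at h1
  rw [sup_comm K L, ← h1]
  refine mul_dvd_mul dvd_rfl ?_
  rw [Subgroup.relIndex]
  exact Subgroup.index_dvd_card _

/-- The largest normal subgroup of order prime to `n` has order prime to `n`. -/
theorem coprime_sSup {n : ℕ} {O : Subgroup G}
    (hO : O = sSup {K : Subgroup G | K.Normal ∧ (Nat.card K).Coprime n}) :
    O.Normal ∧ (Nat.card O).Coprime n := by
  classical
  obtain ⟨M, hM, hMmax⟩ := (Set.toFinite {K : Subgroup G | K.Normal ∧ (Nat.card K).Coprime n}).exists_maximal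
    ⟨⊥, inferInstance, by simp⟩
  suffices h : O = M by rw [h]; exact hM
  rw [hO]
  refine le_antisymm (sSup_le fun K hK => ?_) (le_sSup hM)
  haveI := hK.1
  haveI := hM.1
  have hmem : K ⊔ M ∈ {K : Subgroup G | K.Normal ∧ (Nat.card K).Coprime n} :=
    ⟨inferInstance, Nat.Coprime.coprime_dvd_left (card_sup_dvd_mul K M) (hK.2.mul_left hM.2)⟩
  exact le_trans le_sup_left (hMmax hmem le_sup_right)

theorem mem_normalizer_of_conj {H : Subgroup G} (hTI : Cfsg.IsTISubset (H : Set G)) {g x : G}
    (hx : x ∈ H) (hx1 : x ≠ 1) (hgx : g * x * g⁻¹ ∈ H) :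
    g ∈ Subgroup.normalizer (H : Set G) := by
  by_contra h
  exact hx1 (hTI g h x hx hgx)

/-- A TI-subgroup that is Hall in its normalizer is Hall. -/
theorem coprime_index {H : Subgroup G} (hTI : Cfsg.IsTISubset (H : Set G))
    (hHall : (Nat.card H).Coprime (H.subgroupOf (Subgroup.normalizer (H : Set G))).index) :
    (Nat.card H).Coprime H.index := by
  refine Nat.coprime_of_dvd fun r hr hrH hri => ?_
  haveI := Fact.mk hr
  set N := Subgroup.normalizer (H : Set G) with hN
  obtain ⟨R₀⟩ : Nonempty (Sylow r H) := inferInstance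
  set R := (R₀ : Subgroup H).map H.subtype with hR
  have hRH : R ≤ H := Subgroup.map_subtype_le _
  have hRp : IsPGroup r R := R₀.isPGroup'.map _
  obtain ⟨P, hRP⟩ := hRp.exists_le_sylow
  have hne : R ≠ ⊥ := by
    intro e
    exact R₀.ne_bot_of_dvd_card hrH
      ((Subgroup.map_eq_bot_iff_of_injective _ H.subtype_injective).mp e)
  have hRi : ¬ r ∣ R.relIndex H := by
    rw [Subgroup.relIndex, show R.subgroupOf H = (R₀ : Subgroup H) from
      Subgroup.comap_map_eq_self_of_injective H.subtype_injective _]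
    exact R₀.not_dvd_index
  have hlt : R < (P : Subgroup G) := by
    refine lt_of_le_of_ne hRP fun e => ?_
    have h1 := P.not_dvd_index
    rw [← e, ← Subgroup.relIndex_mul_index hRH] at h1
    exact h1 (dvd_mul_of_dvd_right hri _)
  set X := (P : Subgroup G) ⊓ Subgroup.normalizer (R : Set G) with hX
  have hRX : R < X := lt_inf_normalizer P.isPGroup' hlt
  obtain ⟨x, hxR, hx1⟩ := R.bot_or_exists_ne_one.resolve_left hne
  have hXN : X ≤ N := fun g hg => mem_normalizer_of_conj hTI (hRH hxR) hx1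
    (hRH ((Subgroup.mem_normalizer_iff.mp hg.2 x).mp hxR))
  have hXp : IsPGroup r X := P.isPGroup'.to_le inf_le_left
  have h3 : ¬ r ∣ R.relIndex N := by
    rw [← Subgroup.relIndex_mul_relIndex R H N hRH Subgroup.le_normalizer]
    intro h
    rcases hr.dvd_mul.mp h with h | h
    · exact hRi h
    · exact Nat.not_coprime_of_dvd_of_dvd hr.one_lt hrH h hHall
  have h4 : R.relIndex X ∣ R.relIndex N :=
    ⟨_, (Subgroup.relIndex_mul_relIndex R X N hRX.le hXN).symm⟩
  obtain ⟨k, hk⟩ := IsPGroup.iff_card.mp hXp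
  obtain ⟨j, -, hj⟩ := (Nat.dvd_prime_pow hr).mp
    (hk ▸ Subgroup.index_dvd_card (R.subgroupOf X) : (R.subgroupOf X).index ∣ r ^ k)
  rcases j with _ | j
  · rw [pow_zero] at hj
    exact hRX.not_ge (Subgroup.relIndex_eq_one.mp hj)
  · exact h3 ((show r ∣ R.relIndex X from by rw [Subgroup.relIndex, hj]; exact dvd_pow_self r (Nat.succ_ne_zero j)).trans h4)

/-- Structure of a group separable for the primes of a TI-subgroup that is Hall in its normalizer. -/
theorem struct {H : Subgroup G} (hTI : Cfsg.IsTISubset (H : Set G)) (hnn : ¬ H.Normal)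
    (hHall : (Nat.card H).Coprime (H.subgroupOf (Subgroup.normalizer (H : Set G))).index)
    (hsep : ∃ (n : ℕ) (M : Fin (n + 1) → Subgroup G), M 0 = ⊥ ∧ M (Fin.last n) = ⊤ ∧ Monotone M ∧ (∀ i, (M i).Normal) ∧
      ∀ i : Fin n, (∀ q : ℕ, q.Prime → q ∣ (M i.castSucc).relIndex (M i.succ) → q ∣ Nat.card H) ∨
        ((M i.castSucc).relIndex (M i.succ)).Coprime (Nat.card H))
    {O : Subgroup G} (hO : O = sSup {K : Subgroup G | K.Normal ∧ (Nat.card K).Coprime (Nat.card H)}) :
    O ⊔ Subgroup.normalizer (H : Set G) = ⊤ ∧ (O ⊔ H).Normal ∧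
      O ⊓ Subgroup.normalizer (H : Set G) ≤ Subgroup.centralizer (H : Set G) ∧
      (∀ h ∈ H, h ≠ 1 → O ⊓ Subgroup.centralizer {h} ≤ Subgroup.normalizer (H : Set G)) ∧
      ¬ O ≤ Subgroup.normalizer (H : Set G) := by
  classical
  obtain ⟨hOn, hOc⟩ := coprime_sSup hO
  haveI := hOn
  set N := Subgroup.normalizer (H : Set G) with hN
  have hHne : H ≠ ⊥ := fun e => hnn (e ▸ inferInstance)
  obtain ⟨n, M, hM0, hMt, hMm, hMn, hMf⟩ := hsep
  obtain ⟨i, hi1, hi2⟩ : ∃ i : Fin n, M i.castSucc ≤ O ∧ ¬ M i.succ ≤ O := by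
    by_contra hcon
    push Not at hcon
    have hall : ∀ i : Fin (n + 1), M i ≤ O := by
      intro i
      induction i using Fin.induction with
      | zero => rw [hM0]; exact bot_le
      | succ i ih => exact hcon i ih
    have hOt : O = ⊤ := top_le_iff.mp (hMt ▸ hall (Fin.last n))
    rw [hOt, Subgroup.card_top] at hOc
    exact hHne (Subgroup.eq_bot_of_card_eq H
      (Nat.eq_one_of_dvd_coprimes hOc (Subgroup.card_subgroup_dvd_card H) dvd_rfl))
  haveI := hMn i.succ
  haveI := hMn i.castSucc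
  set K := M i.succ ⊔ O with hKd
  have hOK : O ≤ K := le_sup_right
  have hKdvd : O.relIndex K ∣ (M i.castSucc).relIndex (M i.succ) := by
    rw [hKd, Subgroup.relIndex_sup_right]
    exact Subgroup.relIndex_dvd_of_le_left _ hi1
  have hKcard : Nat.card K = Nat.card O * O.relIndex K := by
    have := Subgroup.relIndex_mul_relIndex ⊥ O K bot_le hOK
    rwa [Subgroup.relIndex_bot_left, Subgroup.relIndex_bot_left, eq_comm] at this
  have hpi : ∀ q : ℕ, q.Prime → q ∣ O.relIndex K → q ∣ Nat.card H := by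
    rcases hMf i with hf | hf
    · exact fun q hq hd => hf q hq (hd.trans hKdvd)
    · exfalso
      have hKc : (Nat.card K).Coprime (Nat.card H) := by
        rw [hKcard]; exact hOc.mul_left (hf.coprime_dvd_left hKdvd)
      refine hi2 (le_sup_left.trans (hO ▸ le_sSup ⟨inferInstance, hKc⟩ : K ≤ O))
  have hHH := coprime_index hTI hHall
  have hki : (O.relIndex K).Coprime H.index := Nat.coprime_of_dvd fun q hq h1 h2 =>
    Nat.not_coprime_of_dvd_of_dvd hq.one_lt (hpi q hq h1) h2 hHH
  have hk : O.relIndex K ∣ Nat.card H := by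
    refine hki.dvd_of_dvd_mul_right ?_
    rw [Subgroup.card_mul_index]
    exact (hKcard ▸ dvd_mul_left _ _ : O.relIndex K ∣ Nat.card K).trans
      (Subgroup.card_subgroup_dvd_card K)
  set X := K ⊓ H with hX
  have hXidx : (X.relIndex K).Coprime (Nat.card H) := by
    have h1 : X.relIndex K = H.relIndex (H ⊔ K) := by
      rw [hX, inf_comm, Subgroup.inf_relIndex_right]
      haveI : K.Normal := inferInstance
      have h2 := Subgroup.relIndex_mul_relIndex H (H ⊔ K) ⊤ le_sup_left le_top
      have h3 : Nat.card ↥(H ⊔ K) * Nat.card ↥(H ⊓ K) = Nat.card H * Nat.card K := by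
        have e1 := Subgroup.relIndex_mul_relIndex ⊥ K (H ⊔ K) bot_le le_sup_right
        rw [Subgroup.relIndex_bot_left, Subgroup.relIndex_bot_left, Subgroup.relIndex_sup_right] at e1
        have e2 := Subgroup.relIndex_mul_relIndex ⊥ (H ⊓ K) H bot_le inf_le_left
        rw [Subgroup.relIndex_bot_left, Subgroup.relIndex_bot_left, inf_comm H K,
          Subgroup.inf_relIndex_right] at e2
        rw [← e1, ← e2, inf_comm H K]; ring
      have e3 := Subgroup.relIndex_mul_relIndex ⊥ (H ⊓ K) K bot_le inf_le_right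
      rw [Subgroup.relIndex_bot_left, Subgroup.relIndex_bot_left, Subgroup.inf_relIndex_right] at e3
      have e4 := Subgroup.relIndex_mul_relIndex ⊥ H (H ⊔ K) bot_le le_sup_left
      rw [Subgroup.relIndex_bot_left, Subgroup.relIndex_bot_left] at e4
      rw [← e4, ← e3] at h3
      have h5 : 0 < Nat.card H * Nat.card ↥(H ⊓ K) := Nat.mul_pos Nat.card_pos Nat.card_pos
      refine Nat.eq_of_mul_eq_mul_left h5 ?_
      linarith
    rw [h1]
    refine Nat.Coprime.coprime_dvd_left ?_ hHH.symm
    rw [← Subgroup.relIndex_mul_index (H := H) (K := H ⊔ K) le_sup_left]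
    exact dvd_mul_right _ _
  have hkX : O.relIndex K ∣ Nat.card X := by
    refine (hXidx.symm.coprime_dvd_left hk).dvd_of_dvd_mul_right ?_
    have := Subgroup.relIndex_mul_relIndex ⊥ X K bot_le inf_le_left
    rw [Subgroup.relIndex_bot_left, Subgroup.relIndex_bot_left] at this
    rw [this, hKcard]
    exact dvd_mul_left _ _
  have hXne : X ≠ ⊥ := by
    intro e
    rw [e, Subgroup.card_bot, Nat.dvd_one, Subgroup.relIndex_eq_one] at hkX
    exact hi2 (le_sup_left.trans hkX)
  obtain ⟨r, hr, hrX⟩ := Nat.exists_prime_and_dvd ((Subgroup.one_lt_card_iff_ne_bot X).mpr hXne).ne'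
  haveI := Fact.mk hr
  have hrH : r ∣ Nat.card H := hrX.trans (Subgroup.card_dvd_of_le inf_le_right)
  obtain ⟨R₀⟩ : Nonempty (Sylow r X) := inferInstance
  set R := (R₀ : Subgroup X).map X.subtype with hR
  have hRX : R ≤ X := Subgroup.map_subtype_le _
  obtain ⟨y, hyR, hy1⟩ := R.bot_or_exists_ne_one.resolve_left fun e =>
    R₀.ne_bot_of_dvd_card hrX ((Subgroup.map_eq_bot_iff_of_injective _ X.subtype_injective).mp e)
  have hRKi : ¬ r ∣ R.relIndex K := by
    rw [← Subgroup.relIndex_mul_relIndex R X K hRX inf_le_left]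
    intro h
    rcases hr.dvd_mul.mp h with h | h
    · rw [Subgroup.relIndex, show R.subgroupOf X = (R₀ : Subgroup X) from
        Subgroup.comap_map_eq_self_of_injective X.subtype_injective _] at h
      exact R₀.not_dvd_index h
    · exact Nat.not_coprime_of_dvd_of_dvd hr.one_lt h hrH hXidx
  have hOX : K ≤ O ⊔ X := by
    refine Subgroup.relIndex_eq_one.mp (Nat.eq_one_of_dvd_coprimes
      (?_ : (X.relIndex K).Coprime (O.relIndex K)) (Subgroup.relIndex_dvd_of_le_left K le_sup_right)
      (Subgroup.relIndex_dvd_of_le_left K le_sup_left))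
    exact hXidx.coprime_dvd_right hk
  have hfrat : ∀ g : G, g ∈ O ⊔ N := by
    intro g
    have hRK : R ≤ K := hRX.trans inf_le_left
    have hgK : K.map (MulAut.conj g).toMonoidHom = K :=
      Subgroup.mem_normalizer_iff_map_conj_eq.mp (by rw [Subgroup.normalizer_eq_top]; trivial)
    have hgRK : R.map (MulAut.conj g).toMonoidHom ≤ K := hgK ▸ Subgroup.map_mono hRK
    have hgRi : ¬ r ∣ (R.map (MulAut.conj g).toMonoidHom).relIndex K := by
      have := Subgroup.relIndex_map_map_of_injective R K (f := (MulAut.conj g).toMonoidHom)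
        (MulAut.conj g).injective
      rw [hgK] at this
      rwa [this]
    obtain ⟨c, hc, hc'⟩ := Coprime.exists_conj_of_sylow (q := r)
      (hP := (R₀.2.map X.subtype).map (MulAut.conj g).toMonoidHom) (hQ := R₀.2.map X.subtype)
      hgRK hRK hgRi hRKi
    have h1 : c * (g * y * g⁻¹) * c⁻¹ ∈ R := by
      rw [← hR] at hc'
      refine hc'.le ?_
      exact Subgroup.mem_map_of_mem _ (Subgroup.mem_map_of_mem _ hyR)
    obtain ⟨o, ho, z, hz, rfl⟩ := Subgroup.mem_sup_of_normal_left.mp (hOX hc)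
    have h2 : (o⁻¹ * ((o * z) * (g * y * g⁻¹) * (o * z)⁻¹) * o) = (z * g) * y * (z * g)⁻¹ := by group
    have h3 : z * g ∈ O ⊔ N := by
      have h4 : o * z * g ∈ N := by
        refine mem_normalizer_of_conj hTI (hRX hyR).2 hy1 ?_
        have e : o * z * g * y * (o * z * g)⁻¹ = o * z * (g * y * g⁻¹) * (o * z)⁻¹ := by group
        rw [e]
        exact (hRX h1).2
      have := Subgroup.mul_mem_sup (O.inv_mem ho) h4
      simpa [mul_assoc] using this
    have h5 := Subgroup.mul_mem _ (Subgroup.inv_mem _ ((le_sup_right : N ≤ O ⊔ N)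
      (Subgroup.le_normalizer hz.2))) h3
    simpa using h5
  have hsup : O ⊔ N = ⊤ := eq_top_iff.mpr fun g _ => hfrat g
  have hdis : O ⊓ H = ⊥ := Subgroup.eq_bot_of_card_eq _ (Nat.eq_one_of_dvd_coprimes hOc
    (Subgroup.card_dvd_of_le inf_le_left) (Subgroup.card_dvd_of_le inf_le_right))
  refine ⟨hsup, ?_, ?_, ?_, ?_⟩
  · rw [← Subgroup.normalizer_eq_top_iff, eq_top_iff, ← hsup]
    refine sup_le (le_sup_left.trans Subgroup.le_normalizer) ?_
    exact (le_inf (le_top.trans (Subgroup.normalizer_eq_top O).ge) le_rfl).trans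
      (Subgroup.normalizer_inf_normalizer_le_normalizer_sup _ _)
  · intro o ho
    rw [Subgroup.mem_centralizer_iff]
    intro h hh
    have h1 : o * h * o⁻¹ * h⁻¹ ∈ O ⊓ H := by
      refine ⟨?_, H.mul_mem ((Subgroup.mem_normalizer_iff.mp ho.2 h).mp hh) (H.inv_mem hh)⟩
      have := O.mul_mem ho.1 (hOn.conj_mem _ (O.inv_mem ho.1) h)
      simpa [mul_assoc] using this
    rw [hdis, Subgroup.mem_bot, mul_inv_eq_one, mul_inv_eq_iff_eq_mul] at h1
    exact h1.symm
  · intro h hh h1 o ho
    refine mem_normalizer_of_conj hTI hh h1 ?_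
    rw [Subgroup.mem_centralizer_singleton_iff.mp ho.2, mul_inv_cancel_right]
    exact hh
  · intro hle
    rw [sup_eq_right.mpr hle] at hsup
    exact hnn (Subgroup.normalizer_eq_top_iff.mp hsup)

/-- Every abelian subgroup of `H` is cyclic. -/
theorem abelian_isCyclic {H O : Subgroup G} [O.Normal] (hOc : (Nat.card O).Coprime (Nat.card H))
    (hfix : ∀ h ∈ H, h ≠ 1 → O ⊓ Subgroup.centralizer {h} ≤ Subgroup.normalizer (H : Set G))
    (hnot : ¬ O ≤ Subgroup.normalizer (H : Set G)) {A : Subgroup G} [IsMulCommutative A]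
    (hA : A ≤ H) : IsCyclic A := by
  by_contra hc
  refine hnot ?_
  rw [← Coprime.eq_centralizerJoin hc (le_top.trans (Subgroup.normalizer_eq_top O).ge)
    (hOc.symm.coprime_dvd_left (Subgroup.card_dvd_of_le hA))]
  exact iSup_le fun e => hfix _ (hA e.2.1) e.2.2

end Cfsg.Agent.FGS3.TIHall
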