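import Mathlib
import Cfsg.Agent.Screen.TwoGroupNormal

/-!
2-groups without normal four-groups: a variant of `Screen.exists_cyclic_index_two` recording that
the subgroup of index two is cyclic.
-/

set_option autoImplicit false

namespace Cfsg.Agent.FGS3

open Cfsg.Agent.Screen

/-- A 2-group whose normal elementary abelian subgroups are cyclic and which has a non-central
involution has a cyclic subgroup of index two (the proof of `Screen.exists_cyclic_index_two`). -/
theorem exists_cyclic_index_two {P : Type*} [Group P] [Finite P] (hP : IsPGroup 2 P) {z : P}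
    (hz : orderOf z = 2) (hzc : ∀ s : P, s * z = z * s)
    (huniq : ∀ c : P, orderOf c = 2 → (∀ s : P, s * c = c * s) → c = z)
    (hno : ∀ w : P, orderOf w = 2 → w ≠ z → ∃ s : P, s * w * s⁻¹ ≠ w ∧ s * w * s⁻¹ ≠ w * z)
    {x : P} (hx : orderOf x = 2) (hxz : x ≠ z) :
    ∃ A : Subgroup P, A.index = 2 ∧ IsCyclic A := by
  haveI : Fact (Nat.Prime 2) := ⟨Nat.prime_two⟩
  obtain ⟨A, ⟨hAn, hAc⟩, hAmax⟩ := Set.Finite.exists_maximal (Set.toFinite
    {A : Subgroup P | A.Normal ∧ ∀ a ∈ A, ∀ b ∈ A, a * b = b * a})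
    ⟨⊥, inferInstance, by simp⟩
  haveI := hAn
  have zz : z * z = 1 := by rw [← pow_two, ← hz, pow_orderOf_eq_one]
  have hz1 : z ≠ 1 := fun e => by rw [e, orderOf_one] at hz; omega
  have hE : ∀ a ∈ A, orderOf a = 2 → a = z := by
    intro a ha ha2
    by_contra haz
    let E : Subgroup P :=
      { carrier := {e | e ∈ A ∧ e * e = 1}
        one_mem' := ⟨A.one_mem, one_mul 1⟩
        mul_mem' := fun {e f} he hf => ⟨A.mul_mem he.1 hf.1, by
          rw [mul_mul_mul_comm_of hAc he.1 hf.1, he.2, hf.2, one_mul]⟩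
        inv_mem' := fun {e} he => ⟨A.inv_mem he.1, by rw [← mul_inv_rev, he.2, inv_one]⟩ }
    haveI : E.Normal := ⟨fun e he g => ⟨hAn.conj_mem e he.1 g, by
      rw [show g * e * g⁻¹ * (g * e * g⁻¹) = g * (e * e) * g⁻¹ by group, he.2]; group⟩⟩
    haveI : (Subgroup.zpowers z).Normal := ⟨fun e he g => by
      obtain ⟨i, rfl⟩ := Subgroup.mem_zpowers_iff.1 he
      rw [← conj_zpow, hzc g, mul_inv_cancel_right]
      exact Subgroup.zpow_mem _ (Subgroup.mem_zpowers z) i⟩
    have hmem : ∀ e ∈ Subgroup.zpowers z, e = 1 ∨ e = z := by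
      intro e he
      obtain ⟨i, rfl⟩ := Subgroup.mem_zpowers_iff.1 he
      rcases Int.even_or_odd i with ⟨l, rfl⟩ | ⟨l, rfl⟩
      · left; rw [← two_mul, zpow_mul, zpow_two, zz, one_zpow]
      · right; rw [zpow_add, zpow_mul, zpow_two, zz, one_zpow, one_mul, zpow_one]
    have ha' : a ∈ E := ⟨ha, by rw [← pow_two, ← ha2, pow_orderOf_eq_one]⟩
    obtain ⟨w, hw, hwz, hws⟩ := exists_central_mod hP E (Subgroup.zpowers z) (fun hle => by
      rcases hmem a (hle ha') with e | e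
      · rw [e, orderOf_one] at ha2; omega
      · exact haz e)
    have hw2 : orderOf w = 2 := orderOf_eq_prime (by rw [pow_two]; exact hw.2)
      (fun e => hwz (by rw [e]; exact Subgroup.one_mem _))
    obtain ⟨s, hs1, hs2⟩ := hno w hw2 (fun e => hwz (by rw [e]; exact Subgroup.mem_zpowers z))
    rcases hmem _ (hws s) with e | e
    · exact hs1 (mul_inv_eq_one.1 e)
    · exact hs2 (by rw [mul_inv_eq_iff_eq_mul.1 e, hzc w])
  have hxA : x ∉ A := fun h => hxz (hE x h hx)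
  -- `A` is cyclic
  obtain ⟨⟨a, haA⟩, hamax⟩ := Finite.exists_max (fun b : A => orderOf (b : P))
  simp only at hamax
  have hz_in : ∀ b ∈ A, b ≠ 1 → z ∈ A := by
    intro b hb hb1
    obtain ⟨n, hn⟩ := (IsPGroup.iff_orderOf.1 hP) b
    have hn0 : n ≠ 0 := by rintro rfl; exact hb1 (orderOf_eq_one_iff.1 (by simpa using hn))
    have h2 : orderOf (b ^ 2 ^ (n - 1)) = 2 := by
      rw [orderOf_pow, hn, Nat.gcd_eq_right (pow_dvd_pow 2 (by omega)), Nat.pow_div (by omega) (by norm_num),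
        show n - (n - 1) = 1 by omega, pow_one]
    exact hE _ (A.pow_mem hb _) h2 ▸ A.pow_mem hb _
  have hcyc : ∀ b ∈ A, b ∈ Subgroup.zpowers a := by
    by_contra hcon
    push Not at hcon
    obtain ⟨b₀, hb₀, hb₀a⟩ := hcon
    obtain ⟨N, hN⟩ := (IsPGroup.iff_orderOf.1 hP) b₀
    have hex : ∃ t, b₀ ^ 2 ^ t ∈ Subgroup.zpowers a :=
      ⟨N, by rw [← hN, pow_orderOf_eq_one]; exact Subgroup.one_mem _⟩
    obtain ⟨t, ht, htmin⟩ : ∃ t, b₀ ^ 2 ^ t ∈ Subgroup.zpowers a ∧
        ∀ t' < t, b₀ ^ 2 ^ t' ∉ Subgroup.zpowers a := ⟨Nat.find hex, Nat.find_spec hex, fun _ => Nat.find_min hex⟩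
    rcases t with _ | t
    · exact hb₀a (by simpa using ht)
    set b := b₀ ^ 2 ^ t with hb
    have hba : b ∉ Subgroup.zpowers a := htmin t (by omega)
    have hbA : b ∈ A := A.pow_mem hb₀ _
    have hb2 : b * b ∈ Subgroup.zpowers a := by rw [hb, ← pow_add, ← two_mul, ← pow_succ']; exact ht
    have ha1 : a ≠ 1 := by
      intro e
      refine hba ?_
      have h1 : orderOf b ≤ orderOf a := hamax ⟨b, hbA⟩
      rw [e, orderOf_one] at h1
      have h2 := orderOf_pos b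
      rw [orderOf_eq_one_iff.1 (show orderOf b = 1 by omega)]
      exact Subgroup.one_mem _
    obtain ⟨n, hn⟩ := (IsPGroup.iff_orderOf.1 hP) a
    have hn0 : n ≠ 0 := by rintro rfl; exact ha1 (orderOf_eq_one_iff.1 (by simpa using hn))
    obtain ⟨j, hj⟩ := Subgroup.mem_zpowers_iff.1 hb2
    rcases Int.even_or_odd j with ⟨l, hl⟩ | ⟨l, hl⟩
    · set c := b * a ^ (-l) with hc
      have hcA : c ∈ A := A.mul_mem hbA (A.zpow_mem haA _)
      have hcc : c * c = 1 := by
        rw [hc, mul_mul_mul_comm_of hAc hbA (A.zpow_mem haA _), ← zpow_add, ← hj, ← zpow_add, hl]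
        rw [show l + l + (-l + -l) = 0 by ring, zpow_zero]
      have hc1 : c ≠ 1 := by
        intro e
        refine hba ?_
        rw [eq_inv_of_mul_eq_one_left e, ← zpow_neg, neg_neg]
        exact Subgroup.zpow_mem _ (Subgroup.mem_zpowers a) l
      have hcz := hE c hcA (orderOf_eq_prime (by rw [pow_two]; exact hcc) hc1)
      have h2n : orderOf (a ^ 2 ^ (n - 1)) = 2 := by
        rw [orderOf_pow, hn, Nat.gcd_eq_right (pow_dvd_pow 2 (by omega)), Nat.pow_div (by omega) (by norm_num),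
          show n - (n - 1) = 1 by omega, pow_one]
      have hza := hE _ (A.pow_mem haA _) h2n
      refine hba ?_
      have hb' : b = c * a ^ l := by rw [hc, mul_assoc, ← zpow_add, neg_add_cancel, zpow_zero, mul_one]
      rw [hb', hcz, ← hza]
      exact Subgroup.mul_mem _ (Subgroup.pow_mem _ (Subgroup.mem_zpowers a) _)
        (Subgroup.zpow_mem _ (Subgroup.mem_zpowers a) l)
    · have h1 : orderOf b ≤ orderOf a := hamax ⟨b, hbA⟩
      obtain ⟨i, hi⟩ := (IsPGroup.iff_orderOf.1 hP) b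
      rw [hi, hn] at h1
      have hin : i ≤ n := (Nat.pow_le_pow_iff_right (by norm_num)).1 h1
      have h2 : b ^ (2 ^ n : ℤ) = 1 := by
        have h2' : b ^ (2 ^ n : ℕ) = 1 := orderOf_dvd_iff_pow_eq_one.1 (hi ▸ pow_dvd_pow 2 hin)
        exact_mod_cast h2'
      obtain ⟨n', rfl⟩ : ∃ n', n = n' + 1 := ⟨n - 1, by omega⟩
      rw [pow_succ, mul_comm, zpow_mul, zpow_two, ← hj, ← zpow_mul, ← orderOf_dvd_iff_zpow_eq_one,
        hn, hl] at h2
      push_cast at h2
      rw [pow_succ, mul_comm ((2 * l + 1) : ℤ) _] at h2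
      have h3 : (2 : ℤ) ∣ 2 * l + 1 := (mul_dvd_mul_iff_left (pow_ne_zero n' (by norm_num))).1 h2
      omega
  obtain ⟨n, hn⟩ := (IsPGroup.iff_orderOf.1 hP) a
  have hpow : ∀ i : ℤ, a ^ i = 1 ↔ (2 : ℤ) ^ n ∣ i := fun i => by
    rw [← orderOf_dvd_iff_zpow_eq_one, hn]; push_cast; exact Iff.rfl
  -- self-centralizing
  have hCA : ∀ s : P, s * a = a * s → s ∈ A := by
    intro s hs
    set C := Subgroup.centralizer (A : Set P) with hC
    have hsC : s ∈ C := by
      rw [hC, Subgroup.mem_centralizer_iff]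
      intro b hb
      obtain ⟨i, rfl⟩ := Subgroup.mem_zpowers_iff.1 (hcyc b hb)
      exact ((show Commute s a from hs).zpow_right i).eq.symm
    by_contra hsA
    haveI : C.Normal := by rw [hC]; infer_instance
    obtain ⟨c, hc, hcA, hcs⟩ := exists_central_mod hP C A (fun h => hsA (h hsC))
    let B : Subgroup P := A ⊔ Subgroup.zpowers c
    have hAB : A ≤ B := le_sup_left
    have hcB : c ∈ B := Subgroup.mem_sup_right (Subgroup.mem_zpowers c)
    have hBn : B.Normal := ⟨fun b hb g => by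
      have hle : B.map (MulAut.conj g).toMonoidHom ≤ B := by
        rw [Subgroup.map_sup, MonoidHom.map_zpowers]
        refine sup_le ?_ ((Subgroup.zpowers_le).2 ?_)
        · rintro _ ⟨y, hy, rfl⟩
          exact hAB (hAn.conj_mem y hy g)
        · show g * c * g⁻¹ ∈ B
          have : g * c * g⁻¹ = g * c * g⁻¹ * c⁻¹ * c := by rw [inv_mul_cancel_right]
          rw [this]
          exact B.mul_mem (hAB (hcs g)) hcB
      exact hle (Subgroup.mem_map.2 ⟨b, hb, rfl⟩)⟩
    have hBc : ∀ u ∈ B, ∀ v ∈ B, u * v = v * u := by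
      have hle : B ≤ Subgroup.centralizer (B : Set P) := by
        refine sup_le ?_ ((Subgroup.zpowers_le).2 ?_)
        · intro y hy
          rw [Subgroup.mem_centralizer_iff]
          have : B ≤ Subgroup.centralizer ({y} : Set P) := sup_le
            (fun u hu => Subgroup.mem_centralizer_singleton_iff.2 (hAc u hu y hy))
            ((Subgroup.zpowers_le).2 (Subgroup.mem_centralizer_singleton_iff.2
              ((Subgroup.mem_centralizer_iff.1 hc y hy).symm)))
          exact fun u hu => Subgroup.mem_centralizer_singleton_iff.1 (this hu)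
        · rw [Subgroup.mem_centralizer_iff]
          have : B ≤ Subgroup.centralizer ({c} : Set P) := sup_le
            (fun u hu => Subgroup.mem_centralizer_singleton_iff.2 (Subgroup.mem_centralizer_iff.1 hc u hu))
            ((Subgroup.zpowers_le).2 (Subgroup.mem_centralizer_singleton_iff.2 rfl))
          exact fun u hu => Subgroup.mem_centralizer_singleton_iff.1 (this hu)
      exact fun u hu v hv => (Subgroup.mem_centralizer_iff.1 (hle hu) v hv).symm
    exact hcA (hAmax ⟨hBn, hBc⟩ hAB hcB)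
  -- conjugation exponents
  have hexp : ∀ s : P, ∃ k : ℤ, s * a * s⁻¹ = a ^ k := fun s => by
    obtain ⟨k, hk⟩ := Subgroup.mem_zpowers_iff.1 (hcyc _ (hAn.conj_mem a haA s))
    exact ⟨k, hk.symm⟩
  have hcomp : ∀ {s t : P} {k l : ℤ}, s * a * s⁻¹ = a ^ k → t * a * t⁻¹ = a ^ l →
      s * t * a * (s * t)⁻¹ = a ^ (k * l) := by
    intro s t k l hk hl
    calc s * t * a * (s * t)⁻¹ = s * (t * a * t⁻¹) * s⁻¹ := by group
      _ = a ^ (k * l) := by rw [hl, ← conj_zpow, hk, ← zpow_mul]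
  have hmod : ∀ {k l : ℤ}, k ≡ l [ZMOD (2 : ℤ) ^ n] → a ^ k = a ^ l := by
    intro k l hkl
    have hz' := (hpow (l - k)).2 (Int.modEq_iff_dvd.1 hkl)
    rw [zpow_sub, mul_inv_eq_one] at hz'
    exact hz'.symm
  have hmod' : ∀ {k l : ℤ}, a ^ k = a ^ l → k ≡ l [ZMOD (2 : ℤ) ^ n] := by
    intro k l hkl
    exact Int.modEq_iff_dvd.2 ((hpow (l - k)).1 (by rw [zpow_sub, ← hkl, mul_inv_cancel]))
  -- no element acts as `1 + 2 ^ (n - 1)`
  have hu : ∀ b : P, 3 ≤ n → b * a * b⁻¹ ≠ a ^ (1 + (2 : ℤ) ^ (n - 1)) := by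
    intro b hn3 hb
    obtain ⟨m, rfl⟩ : ∃ m, n = m + 3 := ⟨n - 3, by omega⟩
    rw [show m + 3 - 1 = m + 2 by omega] at hb
    set u : ℤ := 1 + (2 : ℤ) ^ (m + 2) with hu_def
    have huu : u * u ≡ 1 [ZMOD (2 : ℤ) ^ (m + 3)] :=
      (Int.modEq_iff_dvd.2 ⟨1 + (2 : ℤ) ^ (m + 1), by rw [hu_def]; ring⟩).symm
    have hbb : b * b ∈ A := hCA _ (by
      have h := hcomp hb hb
      rw [hmod huu, zpow_one, mul_inv_eq_iff_eq_mul] at h
      exact h)
    obtain ⟨c, hc⟩ := Subgroup.mem_zpowers_iff.1 (hcyc _ hbb)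
    have hcu : a ^ (c * u) = a ^ c := by
      have h1 : b * a ^ c * b⁻¹ = a ^ (u * c) := by rw [← conj_zpow, hb, ← zpow_mul]
      rw [hc, show b * (b * b) * b⁻¹ = b * b by group, ← hc, mul_comm] at h1
      exact h1.symm
    obtain ⟨e, he⟩ := (Int.modEq_iff_dvd.1 (hmod' hcu).symm)
    have hceven : c = 2 * e := by
      have h1 : c * (2 : ℤ) ^ (m + 2) = 2 * e * (2 : ℤ) ^ (m + 2) := by
        calc c * (2 : ℤ) ^ (m + 2) = c * u - c := by rw [hu_def]; ring
          _ = 2 * e * (2 : ℤ) ^ (m + 2) := by rw [he]; ring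
      exact mul_right_cancel₀ (pow_ne_zero _ (by norm_num)) h1
    obtain ⟨p, q, hpq⟩ : IsCoprime (1 + (2 : ℤ) ^ (m + 1)) ((2 : ℤ) ^ (m + 2)) :=
      IsCoprime.pow_right ⟨1, -((2 : ℤ) ^ m), by ring⟩
    set i := -e * p with hi
    set w := b * a ^ i with hw
    have hwA : w ∉ A := by
      intro h
      have hbA : b ∈ A := by
        have := A.mul_mem h (A.zpow_mem haA (-i))
        rwa [hw, mul_assoc, ← zpow_add, add_neg_cancel, zpow_zero, mul_one] at this
      rw [hAc b hbA a haA, mul_inv_cancel_right] at hb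
      have h2 := hmod' (show a ^ (1 : ℤ) = a ^ u by rw [zpow_one]; exact hb)
      obtain ⟨e2, he2⟩ := Int.modEq_iff_dvd.1 h2
      have h3 : (2 : ℤ) ^ (m + 2) * 1 = (2 : ℤ) ^ (m + 2) * (2 * e2) := by
        calc (2 : ℤ) ^ (m + 2) * 1 = u - 1 := by rw [hu_def]; ring
          _ = (2 : ℤ) ^ (m + 2) * (2 * e2) := by rw [he2]; ring
      have h4 := mul_left_cancel₀ (pow_ne_zero _ (by norm_num)) h3
      omega
    have hww : w * w = 1 := by
      rw [hw, mul_zpow_of_conj hb i, ← hc, ← zpow_add, ← zpow_add, hpow]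
      exact ⟨e * q, by rw [hceven, hi, hu_def]; linear_combination (2 * e) * hpq.symm⟩
    have hw1 : w ≠ 1 := fun h => hwA (h ▸ A.one_mem)
    have hw2 : orderOf w = 2 := orderOf_eq_prime (by rw [pow_two]; exact hww) hw1
    have hwact : w * a * w⁻¹ = a ^ u := by
      calc w * a * w⁻¹ = b * (a ^ i * a * (a ^ i)⁻¹) * b⁻¹ := by rw [hw]; group
        _ = a ^ u := by rw [(Commute.zpow_self a i).eq, mul_inv_cancel_right, hb]
    obtain ⟨s, hs1, hs2⟩ := hno w hw2 (fun h => by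
      have h5 : w ∈ A := by
        refine hCA w ?_
        rw [h]; exact (hzc a).symm
      exact hwA h5)
    set w' := s * w * s⁻¹ with hw'
    obtain ⟨k, hk⟩ := hexp s
    obtain ⟨k', hk'⟩ := hexp s⁻¹
    have hw'act : w' * a * w'⁻¹ = a ^ u := by
      calc w' * a * w'⁻¹ = s * (w * (s⁻¹ * a * s⁻¹⁻¹) * w⁻¹) * s⁻¹ := by rw [hw']; group
        _ = a ^ u := by
          rw [hk', ← conj_zpow, hwact, ← zpow_mul, mul_comm u k', zpow_mul, ← conj_zpow]
          congr 1
          rw [← hk']; group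
    have hl : w⁻¹ * w' ∈ A := hCA _ (by
      have h1 : w' * a * w'⁻¹ = w * a * w⁻¹ := hw'act.trans hwact.symm
      have h2 := congrArg (fun t => w⁻¹ * t * w') h1
      simpa [mul_assoc] using h2)
    obtain ⟨l, hl'⟩ := Subgroup.mem_zpowers_iff.1 (hcyc _ hl)
    have hw'eq : w' = w * a ^ l := by rw [hl', mul_inv_cancel_left]
    have hw'2 : w' * w' = 1 := by
      rw [hw', show s * w * s⁻¹ * (s * w * s⁻¹) = s * (w * w) * s⁻¹ by group, hww]; group
    rw [hw'eq, mul_zpow_of_conj hwact l, hww, mul_one, ← zpow_add, hpow] at hw'2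
    obtain ⟨f, hf⟩ := hw'2
    obtain ⟨f', rfl⟩ : (2 : ℤ) ^ (m + 2) ∣ l := by
      refine (IsCoprime.pow_left (⟨-((2 : ℤ) ^ m), 1, by ring⟩ :
        IsCoprime (2 : ℤ) (1 + (2 : ℤ) ^ (m + 1)))).dvd_of_dvd_mul_left ⟨f, ?_⟩
      have : 2 * ((1 + (2 : ℤ) ^ (m + 1)) * l) = 2 * ((2 : ℤ) ^ (m + 2) * f) := by
        calc 2 * ((1 + (2 : ℤ) ^ (m + 1)) * l) = u * l + l := by rw [hu_def]; ring
          _ = 2 * ((2 : ℤ) ^ (m + 2) * f) := by rw [hf]; ring
      exact mul_left_cancel₀ (by norm_num) this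
    rcases Int.even_or_odd f' with ⟨g, rfl⟩ | ⟨g, rfl⟩
    · refine hs1 ?_
      show w' = w
      rw [hw'eq, (hpow _).2 ⟨g, by ring⟩, mul_one]
    · refine hs2 ?_
      show w' = w * z
      rw [hw'eq]
      congr 1
      refine hE _ (A.zpow_mem haA _) (orderOf_eq_prime ?_ ?_)
      · rw [pow_two, ← zpow_add, hpow]
        exact ⟨2 * g + 1, by ring⟩
      · rw [Ne, hpow]
        rintro ⟨g', hg'⟩
        have h3 : (2 : ℤ) ^ (m + 2) * (2 * g + 1) = (2 : ℤ) ^ (m + 2) * (2 * g') := by rw [hg']; ring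
        have h4 := mul_left_cancel₀ (pow_ne_zero _ (by norm_num)) h3
        omega
  -- every exponent is odd; those congruent to 1 modulo 4 are trivial
  have hplus : ∀ (s : P) (k : ℤ), s * a * s⁻¹ = a ^ k → k ≡ 1 [ZMOD 4] → s ∈ A := by
    intro s k hk hk4
    obtain ⟨j, hj⟩ := (IsPGroup.iff_orderOf.1 hP) s
    have hpowk : ∀ i : ℕ, s ^ i * a * (s ^ i)⁻¹ = a ^ (k ^ i) := by
      intro i
      induction i with
      | zero => simp
      | succ i ih => rw [pow_succ, pow_succ]; exact hcomp ih hk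
    have h1 := hpowk (2 ^ j)
    rw [← hj, pow_orderOf_eq_one, one_mul, inv_one, mul_one, hj] at h1
    rcases odd_pow_cases n k hk4 j (hmod' (show a ^ (k ^ 2 ^ j) = a ^ (1 : ℤ) by rw [zpow_one]; exact h1.symm))
      with h | ⟨i, hn3, hi⟩
    · refine hCA s ?_
      rw [hmod h, zpow_one, mul_inv_eq_iff_eq_mul] at hk
      exact hk
    · exact absurd ((hpowk (2 ^ i)).trans (hmod hi)) (hu _ hn3)
  have hAne : a ≠ 1 := by
    intro e
    obtain ⟨c, -, hcA, -⟩ := exists_central_mod hP ⊤ A (fun hle => hxA (hle (Subgroup.mem_top x)))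
    exact hcA (hCA c (by rw [e, mul_one, one_mul]))
  have hn1 : n ≠ 0 := by rintro rfl; exact hAne (orderOf_eq_one_iff.1 (by simpa using hn))
  have hodd : ∀ (s : P) (k : ℤ), s * a * s⁻¹ = a ^ k → Odd k := by
    intro s k hk
    obtain ⟨k', hk'⟩ := hexp s⁻¹
    have h := hcomp hk' hk
    rw [inv_mul_cancel, one_mul, inv_one, mul_one] at h
    obtain ⟨d, hd⟩ := Int.modEq_iff_dvd.1 (hmod' (show a ^ (k' * k) = a ^ (1 : ℤ) by rw [zpow_one]; exact h.symm))
    obtain ⟨n', rfl⟩ : ∃ n', n = n' + 1 := ⟨n - 1, by omega⟩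
    rw [pow_succ] at hd
    refine (Int.not_even_iff_odd).1 fun ⟨r, hr⟩ => ?_
    have : (1 : ℤ) = 2 * (k' * r + (2 : ℤ) ^ n' * d) := by rw [hr] at hd; linarith
    omega
  refine ⟨A, Subgroup.index_eq_two_iff.2 ⟨x, fun b => ?_⟩, ⟨⟨⟨a, haA⟩, fun b => ?_⟩⟩⟩
  swap
  · obtain ⟨i, hi⟩ := Subgroup.mem_zpowers_iff.1 (hcyc _ b.2)
    exact ⟨i, Subtype.ext (by simpa using hi)⟩
  by_cases hb : b ∈ A
  · exact Or.inr ⟨hb, fun h => hxA ((Subgroup.mul_mem_cancel_left A hb).1 h)⟩
  · refine Or.inl ⟨?_, hb⟩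
    obtain ⟨k, hk⟩ := hexp b
    obtain ⟨l, hl⟩ := hexp x
    have four : ∀ (s : P) (k : ℤ), s * a * s⁻¹ = a ^ k → s ∉ A → k % 4 = 3 := by
      intro s k hk hs
      have h1 := Int.odd_iff.1 (hodd s k hk)
      have h2 : ¬ k % 4 = 1 := fun h => hs (hplus s k hk (by rw [Int.ModEq, h]; rfl))
      omega
    refine hplus (b * x) (k * l) (hcomp hk hl) ?_
    rw [Int.ModEq, Int.mul_emod, four b k hk hb, four x l hl hxA]
    rfl

end Cfsg.Agent.FGS3
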