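import Mathlib
import Cfsg.Agent.FGS3.TwoClassSizes

/-!
A normal subgroup with two `G`-class sizes which contains a non-central Sylow subgroup is
nilpotent.
-/

namespace Cfsg.Agent.FGS3.TwoSizesNormal

open Subgroup TwoClassSizes
open scoped Pointwise

section Fpf

variable {T V : Type*} [CommGroup T] [CommGroup V] [MulDistribMulAction V T] {r : ℕ}
  [Fact r.Prime]

/-- An elementary abelian group of rank two cannot act with fixed points in `Z₀` only, unless
`r`-th powers lie in `Z₀`. -/
theorem pow_mem_of_rank_two (Z₀ : Subgroup T) (hexp : ∀ v : V, v ^ r = 1)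
    (hfix : ∀ v : V, v ≠ 1 → ∀ t : T, v • t = t → t ∈ Z₀) {g h : V}
    (hg : g ≠ 1) (hh : h ∉ zpowers g) (t : T) : t ^ r ∈ Z₀ := by
  classical
  have hh1 : h ≠ 1 := fun h1 => hh (h1 ▸ one_mem _)
  have hadd : ∀ (v : V) (i j : ZMod r), v ^ (i + j).val = v ^ i.val * v ^ j.val := by
    intro v i j
    rw [← pow_add, ZMod.val_add, ← pow_eq_pow_mod _ (hexp v)]
  have hone : ∀ v : V, v ^ (1 : ZMod r).val = v := fun v => by rw [ZMod.val_one, pow_one]
  let f : ZMod r → ZMod r → T := fun i j => (g ^ i.val * h ^ j.val) • t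
  have hshift : ∀ a b i j, (g ^ (a : ZMod r).val * h ^ (b : ZMod r).val) • f i j = f (a + i) (b + j) := by
    intro a b i j
    show _ • (_ • t) = _ • t
    rw [smul_smul, hadd g, hadd h, mul_mul_mul_comm]
  have hall : ∏ i, ∏ j, f i j ∈ Z₀ := by
    refine hfix h hh1 _ ?_
    rw [Finset.smul_prod']
    refine Finset.prod_congr rfl fun i _ => ?_
    rw [Finset.smul_prod']
    refine Fintype.prod_equiv (Equiv.addLeft (1 : ZMod r)) _ _ fun j => ?_
    have := hshift 0 1 i j
    rwa [ZMod.val_zero, pow_zero, one_mul, hone, zero_add] at this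
  have hinf : ∏ j, f 0 j ∈ Z₀ := by
    refine hfix h hh1 _ ?_
    rw [Finset.smul_prod']
    refine Fintype.prod_equiv (Equiv.addLeft (1 : ZMod r)) _ _ fun j => ?_
    have := hshift 0 1 0 j
    rwa [ZMod.val_zero, pow_zero, one_mul, hone, zero_add] at this
  have hline : ∀ k, ∏ i, f i (i * k) ∈ Z₀ := by
    intro k
    have hv : g * h ^ (k : ZMod r).val ≠ 1 := by
      intro h1
      by_cases hk : k = 0
      · subst hk
        rw [ZMod.val_zero, pow_zero, mul_one] at h1
        exact hg h1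
      · apply hh
        have hmem : h ^ k.val ∈ zpowers g := by
          rw [eq_inv_of_mul_eq_one_right h1]
          exact inv_mem (mem_zpowers g)
        have h2 : h ^ (k.val * k⁻¹.val) ∈ zpowers g := by
          rw [pow_mul]; exact pow_mem hmem _
        rwa [pow_eq_pow_mod _ (hexp h), ← ZMod.val_mul, mul_inv_cancel₀ hk, hone] at h2
    refine hfix _ hv _ ?_
    rw [Finset.smul_prod']
    refine Fintype.prod_equiv (Equiv.addLeft (1 : ZMod r)) _ _ fun i => ?_
    have := hshift 1 k i (i * k)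
    rw [hone] at this
    rw [this]
    show f (1 + i) (k + i * k) = f (1 + i) ((1 + i) * k)
    rw [add_mul, one_mul]
  have hkey : (∏ k, ∏ i, f i (i * k)) * ∏ j, f 0 j = t ^ r * ∏ i, ∏ j, f i j := by
    rw [Finset.prod_comm, ← Finset.mul_prod_erase _ _ (Finset.mem_univ (0 : ZMod r)),
      ← Finset.mul_prod_erase (Finset.univ : Finset (ZMod r)) (fun i => ∏ j, f i j)
        (Finset.mem_univ (0 : ZMod r))]
    have h0 : ∏ k : ZMod r, f 0 (0 * k) = t ^ r := by
      simp [f]
    have herase : ∏ i ∈ (Finset.univ.erase (0 : ZMod r)), ∏ k, f i (i * k) =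
        ∏ i ∈ (Finset.univ.erase (0 : ZMod r)), ∏ j, f i j :=
      Finset.prod_congr rfl fun i hi =>
        Fintype.prod_equiv (Equiv.mulLeft₀ i (Finset.ne_of_mem_erase hi)) _ _ fun k => rfl
    rw [h0, herase]
    ac_rfl
  have hmem : (∏ k, ∏ i, f i (i * k)) * ∏ j, f 0 j ∈ Z₀ :=
    mul_mem (prod_mem fun k _ => hline k) hinf
  rw [hkey] at hmem
  simpa using mul_mem hmem (inv_mem hall)

end Fpf

variable {G : Type*} [Group G] [Finite G]

/-- An element lies in a subgroup as soon as all its prime-power parts do. -/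
lemma mem_of_parts (H : Subgroup G) {g : G}
    (h : ∀ q, q.Prime → g ^ (orderOf g / q ^ (orderOf g).factorization q) ∈ H) : g ∈ H := by
  classical
  have hex : ∃ k, 0 < k ∧ g ^ k ∈ H :=
    ⟨orderOf g, orderOf_pos g, (pow_orderOf_eq_one g).symm ▸ one_mem _⟩
  obtain ⟨hd0, hdmem⟩ := Nat.find_spec hex
  set d := Nat.find hex with hd
  have hdvd : ∀ k, g ^ k ∈ H → d ∣ k := by
    intro k hk
    have hmod : g ^ (k % d) ∈ H := by
      have : g ^ k = (g ^ d) ^ (k / d) * g ^ (k % d) := by rw [← pow_mul, ← pow_add, Nat.div_add_mod]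
      rw [this] at hk
      exact (Subgroup.mul_mem_cancel_left _ (pow_mem hdmem _)).mp hk
    by_contra hnd
    have h1 : 0 < k % d := Nat.pos_of_ne_zero fun h0 => hnd (Nat.dvd_of_mod_eq_zero h0)
    exact Nat.find_min hex (m := k % d) (hd ▸ Nat.mod_lt _ hd0) ⟨h1, hmod⟩
  by_cases hd1 : d = 1
  · simpa [hd1] using hdmem
  obtain ⟨q, hq, hqd⟩ := Nat.exists_prime_and_dvd hd1
  exact absurd (hqd.trans (hdvd _ (h q hq))) (Nat.not_dvd_ordCompl hq (orderOf_pos g).ne')

lemma part_order (g : G) (q : ℕ) :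
    orderOf (g ^ (orderOf g / q ^ (orderOf g).factorization q)) =
      q ^ (orderOf g).factorization q :=
  orderOf_pow_orderOf_div (orderOf_pos g).ne' (Nat.ordProj_dvd _ _)

variable {r : ℕ} [hr : Fact r.Prime]

lemma orderOf_eq_pow_of_mem {P : Subgroup G} (hP : IsPGroup r P) {u : G} (hu : u ∈ P) :
    ∃ i, orderOf u = r ^ i := by
  obtain ⟨i, hi⟩ := IsPGroup.iff_orderOf.mp hP ⟨u, hu⟩
  exact ⟨i, by rw [← hi, Subgroup.orderOf_mk]⟩

lemma isPGroup_zpowers {u : G} {i : ℕ} (hu : orderOf u = r ^ i) : IsPGroup r (zpowers u) :=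
  IsPGroup.of_card (n := i) (by rw [Nat.card_zpowers, hu])

lemma eq_one_of_coprime_orders {q i j : ℕ} (hq : q.Prime) (hqr : q ≠ r) {z : G}
    (h1 : z ^ q ^ i = 1) (h2 : z ^ r ^ j = 1) : z = 1 :=
  orderOf_eq_one_iff.mp (Nat.eq_one_of_dvd_coprimes
    (Nat.Coprime.pow i j ((Nat.coprime_primes hq hr.out).mpr hqr))
    (orderOf_dvd_of_pow_eq_one h1) (orderOf_dvd_of_pow_eq_one h2))

/-- A coset invariant under a coprime element contains a fixed point. -/
lemma exists_fixed_in_coset {X : Subgroup G} (hX : IsPGroup r X) {l g : G} {q i : ℕ}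
    (hq : q.Prime) (hqr : q ≠ r) (hl : orderOf l = q ^ i) (hlX : ∀ u ∈ X, l * u * l⁻¹ ∈ X)
    (hg : g⁻¹ * (l * g * l⁻¹) ∈ X) : ∃ u ∈ X, Commute l (g * u) := by
  haveI := Fact.mk hq
  let Ω : Type _ := {v : G // g⁻¹ * v ∈ X}
  let σ : Equiv.Perm Ω :=
    { toFun := fun v => ⟨l * v.1 * l⁻¹, by
        have := mul_mem hg (hlX _ v.2)
        convert this using 1
        group⟩
      invFun := fun v => ⟨l⁻¹ * v.1 * l, by
        have h1 : ∀ k : ℕ, ∀ u ∈ X, l ^ k * u * (l ^ k)⁻¹ ∈ X := by
          intro k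
          induction k with
          | zero => intro u hu; simpa using hu
          | succ k ih =>
            intro u hu
            have h2 := hlX _ (ih u hu)
            have h3 : l * (l ^ k * u * (l ^ k)⁻¹) * l⁻¹ = l ^ (k + 1) * u * (l ^ (k + 1))⁻¹ := by
              rw [pow_succ']; group
            rwa [h3] at h2
        obtain ⟨k, hk⟩ : l⁻¹ ∈ Submonoid.powers l :=
          mem_powers_iff_mem_zpowers.mpr (inv_mem (mem_zpowers l))
        have h4 := h1 k _ (mul_mem (inv_mem hg) v.2)
        rw [show l ^ k = l⁻¹ from hk] at h4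
        convert h4 using 1
        group⟩
      left_inv := fun v => Subtype.ext (by show l⁻¹ * (l * v.1 * l⁻¹) * l = v.1; group)
      right_inv := fun v => Subtype.ext (by show l * (l⁻¹ * v.1 * l) * l⁻¹ = v.1; group) }
  have hσ : ∀ (k : ℕ) (v : Ω), ((σ ^ k) v).1 = l ^ k * v.1 * (l ^ k)⁻¹ := by
    intro k
    induction k with
    | zero => intro v; simp
    | succ k ih =>
      intro v
      rw [pow_succ', Equiv.Perm.mul_apply]
      show l * ((σ ^ k) v).1 * l⁻¹ = _
      rw [ih, pow_succ']; group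
  have hσone : σ ^ q ^ i = 1 := Equiv.ext fun v => Subtype.ext (by
    rw [hσ, ← hl, pow_orderOf_eq_one]; simp)
  have hP : IsPGroup q (zpowers σ) := by
    obtain ⟨j, _, hj⟩ := (Nat.dvd_prime_pow hq).mp (orderOf_dvd_of_pow_eq_one hσone)
    exact IsPGroup.of_card (n := j) (by rw [Nat.card_zpowers, hj])
  have hcard : ¬ q ∣ Nat.card Ω := by
    let e : X ≃ Ω :=
      { toFun := fun u => ⟨g * u, by rw [inv_mul_cancel_left]; exact u.2⟩
        invFun := fun v => ⟨g⁻¹ * v.1, v.2⟩
        left_inv := fun u => Subtype.ext (inv_mul_cancel_left g _)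
        right_inv := fun v => Subtype.ext (mul_inv_cancel_left g _) }
    obtain ⟨j, hj⟩ := hX.exists_card_eq
    rw [← Nat.card_congr e, hj]
    exact fun hd => hqr ((Nat.prime_dvd_prime_iff_eq hq hr.out).mp (hq.dvd_of_dvd_pow hd))
  obtain ⟨v, hv⟩ := hP.nonempty_fixed_point_of_prime_not_dvd_card Ω hcard
  refine ⟨g⁻¹ * v.1, v.2, ?_⟩
  rw [mul_inv_cancel_left]
  have h1 : (⟨σ, mem_zpowers σ⟩ : zpowers σ) • v = v := hv _
  exact mul_inv_eq_iff_eq_mul.mp (congrArg Subtype.val h1 : l * v.1 * l⁻¹ = v.1)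

variable {N : Subgroup G} {R : Sylow r G} {m : ℕ}

/-- The hypotheses. -/
structure Hyp (N : Subgroup G) (R : Sylow r G) (m : ℕ) : Prop where
  normal : N.Normal
  le : (R : Subgroup G) ≤ N
  noncentral : ¬ (R : Subgroup G) ≤ center G
  sizes : ∀ x ∈ N, (centralizer ({x} : Set G)).index = 1 ∨ (centralizer ({x} : Set G)).index = m

namespace Hyp

variable (h : Hyp N R m)
include h

lemma mem_of_order {u : G} {i : ℕ} (hu : orderOf u = r ^ i) : u ∈ N := by
  obtain ⟨P, hP⟩ := (isPGroup_zpowers hu).exists_le_sylow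
  obtain ⟨g, rfl⟩ := MulAction.exists_smul_eq G R P
  have hmem := hP (mem_zpowers u)
  rw [Sylow.smul_def, Sylow.pointwise_smul_def] at hmem
  obtain ⟨v, hv, hvu⟩ := hmem
  rw [← hvu]
  exact h.normal.conj_mem v (h.le hv) g

lemma index_eq {x : G} (hx : x ∈ N) (hxc : x ∉ center G) :
    (centralizer ({x} : Set G)).index = m :=
  (h.sizes x hx).resolve_left fun h1 => hxc (cent_eq_top.mp (Subgroup.index_eq_one.mp h1))

lemma card_eq {x y : G} (hx : x ∈ N) (hxc : x ∉ center G) (hy : y ∈ N) (hyc : y ∉ center G) :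
    Nat.card (centralizer ({x} : Set G)) = Nat.card (centralizer ({y} : Set G)) := by
  have h1 := Subgroup.card_mul_index (centralizer ({x} : Set G))
  have h2 := Subgroup.card_mul_index (centralizer ({y} : Set G))
  rw [h.index_eq hx hxc] at h1
  rw [h.index_eq hy hyc] at h2
  have hn : m ≠ 0 := h.index_eq hx hxc ▸ Subgroup.index_ne_zero_of_finite
  exact Nat.eq_of_mul_eq_mul_right (Nat.pos_of_ne_zero hn) (h1.trans h2.symm)

lemma eq_of_le {x y : G} (hx : x ∈ N) (hy : y ∈ N) (hyc : y ∉ center G)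
    (hle : centralizer ({x} : Set G) ≤ centralizer ({y} : Set G)) :
    centralizer ({x} : Set G) = centralizer ({y} : Set G) := by
  have hxc : x ∉ center G :=
    fun hx => hyc (cent_eq_top.mp (top_le_iff.mp (cent_eq_top.mpr hx ▸ hle)))
  exact Subgroup.eq_of_le_of_card_ge hle (h.card_eq hy hyc hx hxc).le

/-- Commuting elements of coprime prime-power orders. -/
lemma key {x y : G} {p i q j : ℕ} (hp : p.Prime) (hq : q.Prime) (hqp : q ≠ p)
    (hxN : x ∈ N) (hxc : x ∉ center G) (hox : orderOf x = p ^ i)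
    (hyN : y ∈ N) (hy : y ∈ centralizer ({x} : Set G)) (hoy : orderOf y = q ^ j) :
    centralizer ({x} : Set G) ≤ centralizer ({y} : Set G) := by
  have hcop : Nat.Coprime (q ^ j) (orderOf x) := by
    rw [hox]; exact Nat.Coprime.pow j i ((Nat.coprime_primes hq hp).mpr hqp)
  have hcomm : Commute x y := (mem_cent.mp hy).symm
  have hle : centralizer ({x * y} : Set G) ≤ centralizer ({x} : Set G) := by
    intro g hg
    have h1 : Commute g ((x * y) ^ q ^ j) :=
      (show Commute g (x * y) from mem_cent.mp hg).pow_right _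
    rw [hcomm.mul_pow, ← hoy, pow_orderOf_eq_one, mul_one, hoy] at h1
    obtain ⟨k, hk⟩ := exists_pow_eq_self_of_coprime hcop
    rw [← hk]
    exact mem_cent.mpr (h1.pow_right k)
  have heq := h.eq_of_le (mul_mem hxN hyN) hxN hxc hle
  intro g hg
  have h2 : Commute g (x * y) := mem_cent.mp (heq ▸ hg : g ∈ centralizer ({x * y} : Set G))
  have h3 : Commute g x := mem_cent.mp hg
  refine mem_cent.mpr (?_ : Commute g y)
  simpa [mul_assoc] using h3.inv_right.mul_right h2

omit h in
/-- `y` is a non-central element of `N` of prime-power order prime to `r`. -/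
def Prime' (r : ℕ) (N : Subgroup G) (y : G) : Prop :=
  y ∈ N ∧ y ∉ center G ∧ ∃ q j, q.Prime ∧ q ≠ r ∧ orderOf y = q ^ j

omit h in
/-- `x` commutes with such an element. -/
def TypeB (r : ℕ) (N : Subgroup G) (x : G) : Prop :=
  ∃ y, y ∈ centralizer ({x} : Set G) ∧ Prime' r N y

lemma cent_eq_of_prime' {x y : G} {i : ℕ} (hxc : x ∉ center G) (hox : orderOf x = r ^ i)
    (hy : Prime' r N y) (hyx : y ∈ centralizer ({x} : Set G)) :
    centralizer ({x} : Set G) = centralizer ({y} : Set G) := by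
  obtain ⟨hyN, hyc, q, j, hq, hqr, hoy⟩ := hy
  exact h.eq_of_le (h.mem_of_order hox) hyN hyc
    (h.key hr.out hq hqr (h.mem_of_order hox) hxc hox hyN hyx hoy)

/-- For `x` of type B, `N ⊓ C(x)` is central in `C(x)`. -/
lemma cent_le_of_typeB {x : G} {i : ℕ} (hxc : x ∉ center G) (hox : orderOf x = r ^ i)
    (hB : TypeB r N x) {u : G} (hu : u ∈ N) (hux : u ∈ centralizer ({x} : Set G)) :
    centralizer ({x} : Set G) ≤ centralizer ({u} : Set G) := by
  obtain ⟨y, hyx, hy⟩ := hB
  have heq := h.cent_eq_of_prime' hxc hox hy hyx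
  obtain ⟨hyN, hyc, q, j, hq, hqr, hoy⟩ := hy
  suffices hu' : u ∈ centralizer ((centralizer ({x} : Set G) : Subgroup G) : Set G) by
    intro g hg
    exact mem_cent.mpr (mem_centralizer_iff.mp hu' g hg)
  refine mem_of_parts _ fun s hs => mem_centralizer_iff.mpr fun g hg => ?_
  set v := u ^ (orderOf u / s ^ (orderOf u).factorization s) with hv
  have hvN : v ∈ N := pow_mem hu _
  have hvx : v ∈ centralizer ({x} : Set G) := pow_mem hux _
  by_cases hsr : s = r
  · rw [heq] at hg hvx
    exact mem_cent.mp (h.key hq hs (hsr ▸ hqr.symm) hyN hyc hoy hvN hvx (part_order u s) hg)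
  · exact mem_cent.mp (h.key hr.out hs hsr (h.mem_of_order hox) hxc hox hvN hvx (part_order u s) hg)

omit h in
/-- The order of a Sylow `r`-subgroup of `C(x)`. -/
noncomputable def cc (r : ℕ) (x : G) : ℕ := r ^ (Nat.card (centralizer ({x} : Set G))).factorization r

lemma card_le_cc {x v : G} (hx : x ∈ N) (hxc : x ∉ center G) (hv : v ∈ N) (hvc : v ∉ center G)
    {T : Subgroup G} (hT : IsPGroup r T) (hTv : T ≤ centralizer ({v} : Set G)) :
    Nat.card T ≤ cc r x := by
  obtain ⟨k, hk⟩ := hT.exists_card_eq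
  rw [cc, h.card_eq hx hxc hv hvc, hk]
  refine Nat.pow_le_pow_right hr.out.pos ?_
  exact (hr.out.pow_dvd_iff_le_factorization Nat.card_pos.ne').mp (hk ▸ Subgroup.card_dvd_of_le hTv)

omit h in
lemma exists_sylow_of_cent (x : G) {K : Subgroup G} (hK : IsPGroup r K)
    (hKx : K ≤ centralizer ({x} : Set G)) :
    ∃ W : Subgroup G, K ≤ W ∧ W ≤ centralizer ({x} : Set G) ∧ IsPGroup r W ∧
      Nat.card W = cc r x := by
  obtain ⟨P, hP⟩ := (hK.comap_subtype (K := centralizer ({x} : Set G))).exists_le_sylow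
  refine ⟨(P : Subgroup _).map (centralizer ({x} : Set G)).subtype, fun k hk => ?_,
    map_subtype_le _, P.isPGroup'.map _, ?_⟩
  · exact ⟨⟨k, hKx hk⟩, hP (show k ∈ K from hk), rfl⟩
  · rw [Subgroup.card_map_of_injective (Subgroup.subtype_injective _), P.card_eq_multiplicity]
    rfl

omit h in
lemma exists_conj_le {W : Subgroup G} (hW : IsPGroup r W) :
    ∃ g : G, W.map (MulAut.conj g).toMonoidHom ≤ (R : Subgroup G) := by
  obtain ⟨P, hP⟩ := hW.exists_le_sylow
  obtain ⟨g, hg⟩ := MulAction.exists_smul_eq G P R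
  refine ⟨g, ?_⟩
  rw [← hg, Sylow.smul_def, Sylow.pointwise_smul_def]
  exact Subgroup.map_mono hP

omit h in
lemma center_mem_sylow {u : G} {i : ℕ} (hu : u ∈ center G) (hou : orderOf u = r ^ i) :
    u ∈ (R : Subgroup G) := by
  obtain ⟨g, hg⟩ := exists_conj_le (R := R) (isPGroup_zpowers hou)
  have := hg (mem_map_of_mem _ (mem_zpowers u))
  have h2 : (MulAut.conj g).toMonoidHom u = u := by
    show g * u * g⁻¹ = u
    rw [Subgroup.mem_center_iff.mp hu g, mul_inv_cancel_right]
  rwa [h2] at this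

omit h in
/-- `x` is central in `R` modulo the centre of `G`. -/
def Z2 (R : Sylow r G) (x : G) : Prop :=
  x ∈ (R : Subgroup G) ∧ x ∉ center G ∧ x ^ r ∈ center G ∧
    ∀ g ∈ (R : Subgroup G), g * x * g⁻¹ * x⁻¹ ∈ center G

omit h in
lemma exists_z2 {S : Subgroup G} (hSR : S ≤ (R : Subgroup G))
    (hSn : ∀ g ∈ (R : Subgroup G), ∀ u ∈ S, g * u * g⁻¹ ∈ S) (hS : ¬ S ≤ center G) :
    ∃ x ∈ S, Z2 R x := by
  classical
  let S' := S.subgroupOf (R : Subgroup G)
  let M := (center G).subgroupOf (R : Subgroup G)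
  haveI : S'.Normal := ⟨fun u hu g => hSn g g.2 u hu⟩
  have hle : ¬ S' ≤ M := fun hle => hS fun u hu => hle (show (⟨u, hSR hu⟩ : (R : Subgroup G)) ∈ S' from hu)
  obtain ⟨c, hcS, hcM, hcs⟩ := Screen.exists_central_mod R.isPGroup' S' M hle
  have hex : ∃ k, (c : G) ^ r ^ k ∈ center G := by
    obtain ⟨k, hk⟩ := R.isPGroup' c
    exact ⟨k, by rw [← Subgroup.coe_pow, hk]; exact one_mem _⟩
  have hk0 : Nat.find hex ≠ 0 := fun h0 => hcM (by
    have := Nat.find_spec hex
    rw [h0, pow_zero, pow_one] at this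
    exact this)
  obtain ⟨k, hk⟩ := Nat.exists_eq_succ_of_ne_zero hk0
  refine ⟨(c : G) ^ r ^ k, pow_mem hcS _, pow_mem c.2 _, Nat.find_min hex (by omega), ?_, ?_⟩
  · rw [← pow_mul, ← pow_succ]
    exact (show k + 1 = Nat.find hex by omega) ▸ Nat.find_spec hex
  · intro g hg
    have h1 : (QuotientGroup.mk' (center G)) (g * (c : G) * g⁻¹) =
        QuotientGroup.mk' (center G) (c : G) := by
      rw [← mul_inv_eq_one, ← map_inv, ← map_mul]
      exact (QuotientGroup.eq_one_iff _).mpr (hcs ⟨g, hg⟩)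
    rw [← QuotientGroup.eq_one_iff, ← QuotientGroup.mk'_apply, map_mul, map_inv, mul_inv_eq_one,
      ← conj_pow, map_pow, map_pow, h1]

omit h in
lemma Z2.order {x : G} (hx : Z2 R x) : ∃ i, orderOf x = r ^ i :=
  orderOf_eq_pow_of_mem R.isPGroup' hx.1

omit h in
lemma Z2.normalizes {x : G} (hx : Z2 R x) {g u : G} (hg : g ∈ (R : Subgroup G))
    (hu : u ∈ centralizer ({x} : Set G)) : g * u * g⁻¹ ∈ centralizer ({x} : Set G) := by
  have hz := hx.2.2.2 g hg
  set z := g * x * g⁻¹ * x⁻¹ with hzdef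
  have hgx : g * x * g⁻¹ = z * x := by rw [hzdef, inv_mul_cancel_right]
  have h1 : Commute (g * u * g⁻¹) (g * x * g⁻¹) := by
    have : Commute u x := mem_cent.mp hu
    exact this.map (MulAut.conj g).toMonoidHom
  rw [hgx] at h1
  have h2 : Commute (g * u * g⁻¹) z := Subgroup.mem_center_iff.mp hz _
  have := h2.inv_right.mul_right h1
  rw [inv_mul_cancel_left] at this
  exact mem_cent.mpr this

omit h in
lemma Z2.le_normalizer {x : G} (hx : Z2 R x) :
    (R : Subgroup G) ≤ normalizer ((centralizer ({x} : Set G) : Subgroup G) : Set G) := fun g hg =>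
  mem_normalizer_iff.mpr fun u => ⟨hx.normalizes hg, fun hu => by
    have := hx.normalizes (inv_mem hg) hu
    simpa [mul_assoc] using this⟩

lemma cc_le_inf {x : G} (hx : Z2 R x) :
    cc r x ≤ Nat.card ((R : Subgroup G) ⊓ centralizer ({x} : Set G) : Subgroup G) := by
  set H := normalizer ((centralizer ({x} : Set G) : Subgroup G) : Set G) with hH
  obtain ⟨W, -, hWx, hWp, hWc⟩ := exists_sylow_of_cent x (IsPGroup.of_bot (p := r)) bot_le
  have hWH : W ≤ H := hWx.trans le_normalizer
  obtain ⟨P, hP⟩ := (hWp.comap_subtype (K := H)).exists_le_sylow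
  obtain ⟨g, hg⟩ := MulAction.exists_smul_eq H P (R.subtype hx.le_normalizer)
  rw [← hWc, ← Subgroup.card_map_of_injective (K := W) (f := (MulAut.conj (g : G)).toMonoidHom)
    (MulAut.conj (g : G)).injective]
  refine Subgroup.card_le_of_le ?_
  rintro _ ⟨u, hu, rfl⟩
  refine ⟨?_, (mem_normalizer_iff.mp g.2 u).mp (hWx hu)⟩
  have h1 : g * ⟨u, hWH hu⟩ * g⁻¹ ∈ (R.subtype hx.le_normalizer : Subgroup H) := by
    rw [← hg, Sylow.smul_def, Sylow.pointwise_smul_def]
    exact ⟨⟨u, hWH hu⟩, hP (show u ∈ W from hu), rfl⟩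
  exact h1

omit h in
/-- An element normalising `R` and centralising `x` fixes `R / C_R(x)`. -/
lemma Z2.comm_mem {x l g : G} (hx : Z2 R x) (hl : l ∈ centralizer ({x} : Set G))
    (hg : g ∈ (R : Subgroup G)) : g⁻¹ * (l * g * l⁻¹) ∈ centralizer ({x} : Set G) := by
  have hz := hx.2.2.2 g hg
  set z := g * x * g⁻¹ * x⁻¹ with hzdef
  have hgx : g * x * g⁻¹ = z * x := by rw [hzdef, inv_mul_cancel_right]
  have hlx : Commute l x := mem_cent.mp hl
  have hlz : Commute l z := Subgroup.mem_center_iff.mp hz l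
  have h1 : (l * g * l⁻¹) * x * (l * g * l⁻¹)⁻¹ = z * x := by
    calc (l * g * l⁻¹) * x * (l * g * l⁻¹)⁻¹ = l * g * (l⁻¹ * x * l) * g⁻¹ * l⁻¹ := by group
      _ = l * (g * x * g⁻¹) * l⁻¹ := by
        rw [mul_assoc l⁻¹ x l, ← hlx.eq, inv_mul_cancel_left]; group
      _ = z * x := by rw [hgx, (hlz.mul_right hlx).eq, mul_inv_cancel_right]
  refine mem_cent.mpr ?_
  rw [← hgx] at h1
  have h2 : (g⁻¹ * (l * g * l⁻¹)) * x * (g⁻¹ * (l * g * l⁻¹))⁻¹ = x := by
    calc (g⁻¹ * (l * g * l⁻¹)) * x * (g⁻¹ * (l * g * l⁻¹))⁻¹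
        = g⁻¹ * ((l * g * l⁻¹) * x * (l * g * l⁻¹)⁻¹) * g := by group
      _ = x := by rw [h1]; group
  exact mul_inv_eq_iff_eq_mul.mp h2

lemma noncentral_of_cc {x y : G} (hx : Z2 R x) (hyN : y ∈ N) (hyc : y ∉ center G)
    {W : Subgroup G} (hWp : IsPGroup r W) (hW : Nat.card W = cc r y) : ¬ W ≤ center G := by
  obtain ⟨i, hox⟩ := hx.order
  intro hle
  have hcc : cc r y = cc r x := by rw [cc, cc, h.card_eq hyN hyc (h.mem_of_order hox) hx.2.1]
  have h1 : W ≤ ((R : Subgroup G) ⊓ center G) := fun u hu => by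
    obtain ⟨k, hk⟩ := orderOf_eq_pow_of_mem hWp hu
    exact ⟨center_mem_sylow (hle hu) hk, hle hu⟩
  let K := (R : Subgroup G) ⊓ centralizer ({x} : Set G)
  have h2 : W < K := by
    refine lt_of_le_of_ne (h1.trans (inf_le_inf_left _ (center_le_cent x))) fun heq => ?_
    exact hx.2.1 (hle (heq ▸ (⟨hx.1, mem_cent.mpr rfl⟩ : x ∈ K)))
  have h3 : Nat.card K ≤ cc r x := h.card_le_cc (h.mem_of_order hox) hx.2.1 (h.mem_of_order hox)
    hx.2.1 (R.isPGroup'.to_le inf_le_left) inf_le_right
  have h4 : Nat.card W < Nat.card K := by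
    refine lt_of_le_of_ne (Subgroup.card_le_of_le h2.le) fun heq => h2.ne ?_
    exact Subgroup.eq_of_le_of_card_ge h2.le heq.ge
  omega

/-- If some non-central prime-to-`r` element of prime-power order lies in `N`, every element of
`R` central modulo `Z(G)` is of type B. -/
lemma typeB_of_z2 {y : G} (hy : Prime' r N y) {x : G} (hx : Z2 R x) : TypeB r N x := by
  by_contra hA
  obtain ⟨ix, hox⟩ := hx.order
  have hxN := h.mem_of_order hox
  -- a conjugate of `y` commuting with a Sylow subgroup inside `R`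
  obtain ⟨hyN, hyc, q, j, hq, hqr, hoy⟩ := hy
  obtain ⟨W, -, hWy, hWp, hWc⟩ := exists_sylow_of_cent y (IsPGroup.of_bot (p := r)) bot_le
  have hWnc := h.noncentral_of_cc hx hyN hyc hWp hWc
  obtain ⟨g, hgW⟩ := exists_conj_le (R := R) hWp
  set S := W.map (MulAut.conj g).toMonoidHom with hS
  set y' := g * y * g⁻¹ with hy'
  have hSy : S ≤ centralizer ({y'} : Set G) := by
    rintro _ ⟨u, hu, rfl⟩
    exact mem_cent.mpr ((show Commute u y from mem_cent.mp (hWy hu)).map (MulAut.conj g).toMonoidHom)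
  have hy'c : y' ∉ center G := fun hc => hyc (by
    have := Subgroup.Normal.conj_mem inferInstance _ hc g⁻¹
    simpa [hy', mul_assoc] using this)
  have hy'P : Prime' r N y' :=
    ⟨h.normal.conj_mem y hyN g, hy'c, q, j, hq, hqr, by
      rw [hy', ← hoy]; exact MulEquiv.orderOf_eq (MulAut.conj g) y⟩
  have hScard : Nat.card S = cc r x := by
    rw [hS, Subgroup.card_map_of_injective (MulAut.conj g).injective, hWc, cc, cc,
      h.card_eq hyN hyc hxN hx.2.1]
  obtain ⟨w, hwS, hwc⟩ : ∃ w ∈ S, w ∉ center G := by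
    obtain ⟨u, hu, huc⟩ := SetLike.not_le_iff_exists.mp hWnc
    refine ⟨_, mem_map_of_mem _ hu, fun hc => huc ?_⟩
    have := Subgroup.Normal.conj_mem inferInstance _ hc g⁻¹
    simpa [mul_assoc] using this
  obtain ⟨iw, how⟩ := orderOf_eq_pow_of_mem (R.isPGroup'.to_le le_rfl) (hgW hwS)
  have hyw : centralizer ({w} : Set G) = centralizer ({y'} : Set G) :=
    h.cent_eq_of_prime' hwc how hy'P (mem_cent.mpr (mem_cent.mp (hSy hwS)).symm)
  let X := (R : Subgroup G) ⊓ centralizer ({x} : Set G)
  have hXp : IsPGroup r X := R.isPGroup'.to_le inf_le_left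
  have hSX : S ⊓ X ≤ center G := by
    rintro u ⟨huS, -, hux⟩
    by_contra huc
    obtain ⟨iu, hou⟩ := orderOf_eq_pow_of_mem R.isPGroup' (hgW huS)
    have huy := h.cent_eq_of_prime' huc hou hy'P (mem_cent.mpr (mem_cent.mp (hSy huS)).symm)
    have h1 : x ∈ centralizer ({y'} : Set G) := huy ▸ mem_cent.mpr (mem_cent.mp hux).symm
    exact hA ⟨y', mem_cent.mpr (mem_cent.mp h1).symm, hy'P⟩
  -- prime-to-`r` elements of `M ⊓ N` are central, where `M` is the stabiliser of `x Z(G)`
  let M : Subgroup G :=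
    (centralizer ({QuotientGroup.mk' (center G) x} : Set (G ⧸ center G))).comap
      (QuotientGroup.mk' (center G))
  have hM : ∀ v, v ∈ M ↔ v * x * v⁻¹ * x⁻¹ ∈ center G := fun v => by
    rw [← QuotientGroup.eq_one_iff (N := center G) (v * x * v⁻¹ * x⁻¹), ← QuotientGroup.mk'_apply,
      map_mul, map_inv, mul_inv_eq_one, map_mul, map_inv, mul_inv_eq_iff_eq_mul]
    exact mem_cent
  have hRK : (R : Subgroup G) ≤ M ⊓ N := fun v hv => ⟨(hM v).mpr (hx.2.2.2 v hv), h.le hv⟩
  have hKc : ∀ v ∈ M ⊓ N, ∀ {s k : ℕ}, s.Prime → s ≠ r → orderOf v = s ^ k → v ∈ center G := by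
    intro v hv s k hs hsr hov
    by_contra hvc
    refine hA ⟨v, ?_, hv.2, hvc, s, k, hs, hsr, hov⟩
    have hz := (hM v).mp hv.1
    set z := v * x * v⁻¹ * x⁻¹ with hzd
    have hvx : v * x * v⁻¹ = z * x := by rw [hzd, inv_mul_cancel_right]
    have hzcomm : ∀ t : G, Commute z t := fun t => (Subgroup.mem_center_iff.mp hz t).symm
    have hz1 : z = 1 := by
      refine eq_one_of_coprime_orders (j := ix) hs hsr (i := k) ?_ ?_
      · have hpow : ∀ n : ℕ, v ^ n * x * (v ^ n)⁻¹ = z ^ n * x := by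
          intro n
          induction n with
          | zero => simp
          | succ n ih =>
            calc v ^ (n + 1) * x * (v ^ (n + 1))⁻¹
                = v * (v ^ n * x * (v ^ n)⁻¹) * v⁻¹ := by rw [pow_succ']; group
              _ = v * z ^ n * (x * v⁻¹) := by rw [ih]; group
              _ = z ^ n * v * (x * v⁻¹) := by rw [((hzcomm v).pow_left n).eq]
              _ = z ^ n * (v * x * v⁻¹) := by group
              _ = z ^ (n + 1) * x := by rw [hvx, ← mul_assoc, ← pow_succ]
        have := hpow (s ^ k)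
        rw [← hov, pow_orderOf_eq_one, one_mul, inv_one, mul_one] at this
        rw [← hov]
        exact mul_eq_right.mp this.symm
      · have := congrArg (· ^ r ^ ix) hvx
        simp only [conj_pow, (hzcomm x).mul_pow] at this
        rw [← hox, pow_orderOf_eq_one, mul_one, mul_one, mul_inv_cancel] at this
        rw [← hox]; exact this.symm
    rw [hz1, one_mul] at hvx
    exact mem_cent.mpr (mul_inv_eq_iff_eq_mul.mp hvx)
  have hKR : M ⊓ N ≤ normalizer ((R : Subgroup G) : Set G) := by
    have h1 : M ⊓ N ≤ (R : Subgroup G) ⊔ center G := by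
      rw [← Subgroup.relIndex_eq_one]
      by_contra hne
      obtain ⟨s, hs, hsd⟩ := Nat.exists_prime_and_dvd hne
      haveI := Fact.mk hs
      by_cases hsr : s = r
      · subst hsr
        refine (R.subtype hRK).not_dvd_index (hsd.trans (Subgroup.index_dvd_of_le ?_))
        intro v hv
        exact mem_sup_left hv
      · obtain ⟨Q⟩ : Nonempty (Sylow s ↥(M ⊓ N)) := inferInstance
        refine Q.not_dvd_index (hsd.trans (Subgroup.index_dvd_of_le fun v hv => ?_))
        obtain ⟨k, hk⟩ := IsPGroup.iff_orderOf.mp Q.isPGroup' ⟨v, hv⟩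
        rw [Subgroup.orderOf_mk, ← Subgroup.orderOf_coe] at hk
        exact mem_sup_right (hKc v v.2 hs hsr hk)
    exact h1.trans (sup_le le_normalizer fun z hz => mem_normalizer_iff.mpr fun v => by
      rw [(Subgroup.mem_center_iff.mp hz v).symm, mul_inv_cancel_right])
  have hCR : ∀ l ∈ centralizer ({x} : Set G), ∀ v ∈ (R : Subgroup G),
      l * v * l⁻¹ ∈ (R : Subgroup G) := by
    intro l hl v hv
    set v' := l * v * l⁻¹ with hv'
    have hv'K : v' ∈ M ⊓ N := by
      refine ⟨(hM _).mpr ?_, h.normal.conj_mem v (h.le hv) l⟩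
      have hlx : Commute l x := mem_cent.mp hl
      have : v' * x * v'⁻¹ * x⁻¹ = l * (v * x * v⁻¹ * x⁻¹) * l⁻¹ := by
        calc v' * x * v'⁻¹ * x⁻¹ = l * v * (l⁻¹ * x * l) * v⁻¹ * l⁻¹ * x⁻¹ := by rw [hv']; group
          _ = l * v * x * v⁻¹ * (l⁻¹ * x⁻¹) := by
            rw [mul_assoc l⁻¹ x l, ← hlx.eq, inv_mul_cancel_left]; group
          _ = l * v * x * v⁻¹ * (x⁻¹ * l⁻¹) := by rw [hlx.inv_inv.eq]
          _ = l * (v * x * v⁻¹ * x⁻¹) * l⁻¹ := by group
      rw [this]
      exact Subgroup.Normal.conj_mem inferInstance _ (hx.2.2.2 v hv) l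
    obtain ⟨k, hk⟩ := orderOf_eq_pow_of_mem R.isPGroup' hv
    have hov' : orderOf v' = r ^ k := by rw [hv', ← hk]; exact MulEquiv.orderOf_eq (MulAut.conj l) v
    have := (isPGroup_zpowers hov').inf_normalizer_sylow R
    exact (this.le ⟨mem_zpowers v', hKR hv'K⟩).2
  -- prime-to-`r` elements of `C(x)` centralise `R`
  have hcent : ∀ l ∈ centralizer ({x} : Set G), ∀ {s k : ℕ}, s.Prime → s ≠ r → orderOf l = s ^ k →
      (R : Subgroup G) ≤ centralizer ({l} : Set G) := by
    intro l hl s k hs hsr hol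
    have hlX : ∀ u ∈ X, l * u * l⁻¹ ∈ X := fun u hu =>
      ⟨hCR l hl u hu.1, mul_mem (mul_mem hl hu.2) (Subgroup.inv_mem _ hl)⟩
    have hlxc : x ∈ centralizer ({l} : Set G) := mem_cent.mpr (mem_cent.mp hl).symm
    set Y := (R : Subgroup G) ⊓ centralizer ({l} : Set G) with hY
    have hcov : ∀ v ∈ (R : Subgroup G), ∃ u ∈ X, v * u ∈ Y := by
      intro v hv
      obtain ⟨u, hu, hcomm⟩ := exists_fixed_in_coset hXp hs hsr hol hlX
        ⟨mul_mem (Subgroup.inv_mem _ hv) (hCR l hl v hv), hx.comm_mem hl hv⟩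
      exact ⟨u, hu, mul_mem hv hu.1, mem_cent.mpr hcomm.eq.symm⟩
    -- `Y` is too large to centralise a non-central element of `N`
    have hYbig : cc r x < Nat.card Y := by
      let R' := (R : Subgroup G)
      let X' := X.subgroupOf R'
      let Y' := Y.subgroupOf R'
      let S' := S.subgroupOf R'
      haveI : X'.Normal := ⟨fun u hu v => ⟨(v * u * v⁻¹).2, hx.normalizes v.2 hu.2⟩⟩
      have hsup : X'.relIndex Y' = X'.index := by
        rw [← Subgroup.relIndex_sup_right, ← Subgroup.relIndex_top_right]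
        congr 1
        refine eq_top_iff.mpr fun v _ => ?_
        obtain ⟨u, hu, hvu⟩ := hcov v v.2
        have h1 : v = (⟨v * u, hvu.1⟩ : R') * (⟨u, hu.1⟩ : R')⁻¹ :=
          Subtype.ext (by simp)
        rw [h1]
        exact mul_mem (mem_sup_left hvu) (inv_mem (mem_sup_right hu))
      have hYS : X'.relIndex S' ≤ X'.relIndex Y' := by
        rw [hsup, ← Subgroup.relIndex_top_right]
        exact Subgroup.relIndex_le_of_le_right le_top (by
          rw [Subgroup.relIndex_top_right]; exact Subgroup.index_ne_zero_of_finite)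
      have hcardS : Nat.card S' = Nat.card S :=
        Nat.card_congr (Subgroup.subgroupOfEquivOfLe hgW).toEquiv
      have hcardY : Nat.card Y' = Nat.card Y :=
        Nat.card_congr (Subgroup.subgroupOfEquivOfLe inf_le_left).toEquiv
      have hform : ∀ A B : Subgroup R', Nat.card (A ⊓ B : Subgroup R') * A.relIndex B = Nat.card B :=
        fun A B => by
          rw [Subgroup.relIndex, ← Subgroup.card_mul_index (A.subgroupOf B)]
          congr 1
          rw [← Subgroup.card_map_of_injective B.subtype_injective, Subgroup.subgroupOf_map_subtype]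
      have hlt : Nat.card (X' ⊓ S' : Subgroup R') < Nat.card (X' ⊓ Y' : Subgroup R') := by
        have hle : X' ⊓ S' ≤ X' ⊓ Y' := fun u hu =>
          ⟨hu.1, u.2, mem_cent.mpr (Subgroup.mem_center_iff.mp (hSX ⟨hu.2, hu.1⟩) l).symm⟩
        refine lt_of_le_of_ne (Subgroup.card_le_of_le hle) fun heq => hx.2.1 ?_
        have hmem : (⟨x, hx.1⟩ : R') ∈ X' ⊓ S' := by
          rw [Subgroup.eq_of_le_of_card_ge hle heq.ge]
          exact ⟨⟨hx.1, mem_cent.mpr rfl⟩, hx.1, hlxc⟩
        exact hSX ⟨hmem.2, hmem.1⟩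
      rw [← hScard, ← hcardS, ← hcardY, ← hform X' S', ← hform X' Y']
      exact Nat.mul_lt_mul_of_lt_of_le hlt hYS
        (Nat.pos_of_ne_zero (hsup ▸ Subgroup.index_ne_zero_of_finite))
    by_contra hRl
    by_cases hXl : X ≤ centralizer ({l} : Set G)
    · apply hRl
      intro v hv
      obtain ⟨u, hu, hvu⟩ := hcov v hv
      have := mul_mem hvu.2 (Subgroup.inv_mem _ (hXl hu))
      rwa [mul_inv_cancel_right] at this
    let R' := (R : Subgroup G)
    let X' := X.subgroupOf R'
    let D : Subgroup R' := ((X ⊓ centralizer ({l} : Set G)).subgroupOf R').normalCore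
    haveI : X'.Normal := ⟨fun u hu v => ⟨(v * u * v⁻¹).2, hx.normalizes v.2 hu.2⟩⟩
    haveI : D.Normal := Subgroup.normalCore_normal _
    have hDle : ∀ d ∈ D, (d : G) ∈ X ∧ (d : G) ∈ centralizer ({l} : Set G) :=
      fun d hd => Subgroup.normalCore_le _ hd
    have hne : ¬ X' ≤ D := fun hle => hXl fun u hu =>
      (hDle ⟨u, hu.1⟩ (hle (show (⟨u, hu.1⟩ : R') ∈ X' from hu))).2
    obtain ⟨c, hcX, hcD, hcs⟩ := Screen.exists_central_mod R.isPGroup' X' D hne
    have hcl : (c : G) ∉ centralizer ({l} : Set G) := by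
      intro hcl
      apply hcD
      intro v
      have h1 := hDle _ (hcs v)
      have h2 : (v * c * v⁻¹ * c⁻¹) * c = v * c * v⁻¹ := inv_mul_cancel_right _ _
      rw [← h2]
      exact ⟨mul_mem h1.1 hcX, mul_mem h1.2 hcl⟩
    set c' := l * (c : G) * l⁻¹ with hc'
    have hcX' : (c : G) ∈ X := hcX
    have hkX : (c : G)⁻¹ * c' ∈ X := mul_mem (inv_mem hcX') (hlX _ hcX')
    have hkY : Y ≤ centralizer ({(c : G)⁻¹ * c'} : Set G) := by
      intro v hv
      obtain ⟨-, hdl⟩ := hDle _ (hcs ⟨v, hv.1⟩)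
      set d : G := v * (c : G) * v⁻¹ * (c : G)⁻¹ with hd
      have hdl' : Commute d l := mem_cent.mp hdl
      have hvl : Commute v l := mem_cent.mp hv.2
      have h1 : v * (c : G) * v⁻¹ = d * c := by rw [hd, inv_mul_cancel_right]
      have h2 : v * c' * v⁻¹ = d * c' := by
        calc v * c' * v⁻¹ = (v * l) * (c : G) * (l⁻¹ * v⁻¹) := by rw [hc']; group
          _ = (l * v) * (c : G) * (v⁻¹ * l⁻¹) := by rw [hvl.eq, hvl.inv_inv.eq]
          _ = l * (v * (c : G) * v⁻¹) * l⁻¹ := by group
          _ = (l * d) * (c : G) * l⁻¹ := by rw [h1]; group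
          _ = d * c' := by rw [hdl'.symm.eq, hc']; group
      refine mem_cent.mpr (mul_inv_eq_iff_eq_mul.mp ?_)
      calc v * ((c : G)⁻¹ * c') * v⁻¹ = (v * (c : G) * v⁻¹)⁻¹ * (v * c' * v⁻¹) := by group
        _ = (c : G)⁻¹ * c' := by rw [h1, h2]; group
    have hk0 : (c : G)⁻¹ * c' ∈ center G := by
      by_contra hkc
      obtain ⟨ik, hok⟩ := orderOf_eq_pow_of_mem hXp hkX
      exact absurd (h.card_le_cc hxN hx.2.1 (h.mem_of_order hok) hkc
        (R.isPGroup'.to_le inf_le_left) hkY) (not_le.mpr hYbig)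
    set z := (c : G)⁻¹ * c' with hz
    have hz1 : z = 1 := by
      obtain ⟨ic, hoc⟩ := orderOf_eq_pow_of_mem R.isPGroup' c.2
      refine eq_one_of_coprime_orders (i := k) (j := ic) hs hsr ?_ ?_
      · have hpow : ∀ n : ℕ, l ^ n * (c : G) * (l ^ n)⁻¹ = (c : G) * z ^ n := by
          intro n
          induction n with
          | zero => simp
          | succ n ih =>
            have hlz : Commute l (z ^ n) :=
              (show Commute l z from Subgroup.mem_center_iff.mp hk0 l).pow_right n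
            calc l ^ (n + 1) * (c : G) * (l ^ (n + 1))⁻¹
                = l * (l ^ n * (c : G) * (l ^ n)⁻¹) * l⁻¹ := by rw [pow_succ']; group
              _ = (l * (c : G) * l⁻¹) * (l * z ^ n * l⁻¹) := by rw [ih]; group
              _ = (c : G) * z * z ^ n := by
                rw [hlz.eq, mul_inv_cancel_right, ← hc', hz, mul_inv_cancel_left]
              _ = (c : G) * z ^ (n + 1) := by rw [mul_assoc, ← pow_succ']
        have := hpow (s ^ k)
        rw [← hol, pow_orderOf_eq_one, one_mul, inv_one, mul_one] at this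
        rw [← hol]
        exact mul_eq_left.mp this.symm
      · have h1 : c' = (c : G) * z := by rw [hz, mul_inv_cancel_left]
        have h2 : Commute (c : G) z := Subgroup.mem_center_iff.mp hk0 (c : G)
        have h3 := congrArg (· ^ r ^ ic) h1
        simp only [hc', conj_pow, h2.mul_pow] at h3
        rw [← hoc, pow_orderOf_eq_one, mul_one, one_mul, mul_inv_cancel] at h3
        rw [← hoc]; exact h3.symm
    apply hcl
    have h1 : c' = (c : G) := by
      rw [← mul_inv_cancel_left (c : G) c', ← hz, hz1, mul_one]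
    exact mem_cent.mpr (mul_inv_eq_iff_eq_mul.mp h1).symm
  -- every `q`-element of `C(x)` is in `C(y')`, so `y'` is in `C(x)`
  have hxy : x ∈ centralizer ({y'} : Set G) := by
    haveI := Fact.mk hq
    obtain ⟨V⟩ : Nonempty (Sylow q (centralizer ({x} : Set G))) := inferInstance
    set V' := (V : Subgroup _).map (centralizer ({x} : Set G)).subtype with hV'
    have hV'p : IsPGroup q V' := V.isPGroup'.map _
    have hVy : V' ≤ centralizer ({y'} : Set G) := by
      intro l hl
      obtain ⟨k, hk⟩ := IsPGroup.iff_orderOf.mp hV'p ⟨l, hl⟩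
      rw [Subgroup.orderOf_mk] at hk
      have hRl := hcent l (map_subtype_le _ hl) hq hqr hk
      rw [← hyw]
      exact mem_cent.mpr (mem_cent.mp (hRl (hgW hwS))).symm
    have hoy'' : orderOf y' = q ^ j := by rw [hy', ← hoy]; exact MulEquiv.orderOf_eq (MulAut.conj g) y
    -- `y'` normalises `V'`
    have hyV : ∀ l ∈ V', Commute l y' := fun l hl => mem_cent.mp (hVy hl)
    have hZ : zpowers y' ≤ normalizer (V' : Set G) := by
      refine le_trans (zpowers_le.mpr (mem_centralizer_iff.mpr fun l hl => hyV l hl))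
        ?_
      exact fun v hv => mem_normalizer_iff.mpr fun u => by
        constructor
        · intro hu
          rwa [← mem_centralizer_iff.mp hv u hu, mul_inv_cancel_right]
        · intro hu
          have h1 := mem_centralizer_iff.mp (inv_mem hv) _ hu
          have h2 : u = v⁻¹ * (v * u * v⁻¹) * v := by group
          rw [h2, ← h1, inv_mul_cancel_right]
          exact hu
    have hsup : IsPGroup q (zpowers y' ⊔ V' : Subgroup G) :=
      (isPGroup_zpowers (r := q) hoy'').to_sup_of_normal_right' hV'p hZ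
    obtain ⟨e, he⟩ := hsup.exists_card_eq
    have hle : zpowers y' ⊔ V' ≤ centralizer ({y'} : Set G) :=
      sup_le (zpowers_le.mpr (mem_cent.mpr rfl)) hVy
    have hcard : Nat.card ↥(zpowers y' ⊔ V') ≤ Nat.card V' := by
      rw [hV', Subgroup.card_map_of_injective (Subgroup.subtype_injective _), V.card_eq_multiplicity,
        h.card_eq hxN hx.2.1 hy'P.1 hy'P.2.1, he]
      exact Nat.pow_le_pow_right hq.pos ((hq.pow_dvd_iff_le_factorization Nat.card_pos.ne').mp
        (he ▸ Subgroup.card_dvd_of_le hle))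
    have := Subgroup.eq_of_le_of_card_ge (le_sup_right : V' ≤ zpowers y' ⊔ V') hcard
    have hyx : y' ∈ centralizer ({x} : Set G) :=
      map_subtype_le _ (this.ge (mem_sup_left (mem_zpowers y')))
    exact mem_cent.mpr (mem_cent.mp hyx).symm
  exact hA ⟨y', mem_cent.mpr (mem_cent.mp hxy).symm, hy'P⟩

variable {y : G} (hy : Prime' r N y)
include hy

/-- A Sylow `r`-subgroup of a centralizer inside `R` has index at most `r`. -/
lemma card_sylow_le {x : G} (hx : Z2 R x) :
    Nat.card (R : Subgroup G) ≤ r * cc r x := by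
  classical
  obtain ⟨ix, hox⟩ := hx.order
  have hxN := h.mem_of_order hox
  have hB := h.typeB_of_z2 hy hx
  let R' := (R : Subgroup G)
  let C := centralizer ({x} : Set G)
  let X' : Subgroup R' := C.subgroupOf R'
  haveI : X'.Normal := ⟨fun u hu v => hx.normalizes v.2 hu⟩
  have hXle : Nat.card X' ≤ cc r x := by
    rw [← Subgroup.card_map_of_injective R'.subtype_injective, Subgroup.subgroupOf_map_subtype]
    exact h.card_le_cc hxN hx.2.1 hxN hx.2.1 (R.isPGroup'.to_le inf_le_right) inf_le_left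
  -- the commutator with `x`
  have hz : ∀ v : R', ∃ z ∈ center G, (v : G) * x * (v : G)⁻¹ = z * x := fun v =>
    ⟨_, hx.2.2.2 v v.2, by rw [inv_mul_cancel_right]⟩
  have hexp : ∀ v : R' ⧸ X', v ^ r = 1 := by
    intro v
    obtain ⟨v, rfl⟩ := QuotientGroup.mk'_surjective X' v
    rw [← map_pow]
    refine (QuotientGroup.eq_one_iff _).mpr ?_
    obtain ⟨z, hzc, hvx⟩ := hz v
    have hzt : ∀ t : G, Commute z t := fun t => (Subgroup.mem_center_iff.mp hzc t).symm
    have hzr : z ^ r = 1 := by
      have h1 := congrArg (· ^ r) hvx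
      simp only [conj_pow, (hzt x).mul_pow] at h1
      rw [Subgroup.mem_center_iff.mp hx.2.2.1 (v : G), mul_inv_cancel_right] at h1
      exact mul_eq_right.mp h1.symm
    have hpow : ∀ n : ℕ, (v : G) ^ n * x * ((v : G) ^ n)⁻¹ = z ^ n * x := by
      intro n
      induction n with
      | zero => simp
      | succ n ih =>
        calc (v : G) ^ (n + 1) * x * ((v : G) ^ (n + 1))⁻¹
            = v * ((v : G) ^ n * x * ((v : G) ^ n)⁻¹) * (v : G)⁻¹ := by rw [pow_succ']; group
          _ = v * z ^ n * (x * (v : G)⁻¹) := by rw [ih]; group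
          _ = z ^ n * v * (x * (v : G)⁻¹) := by rw [((hzt v).pow_left n).eq]
          _ = z ^ n * (v * x * (v : G)⁻¹) := by group
          _ = z ^ (n + 1) * x := by rw [hvx, ← mul_assoc, ← pow_succ]
    have := hpow r
    rw [hzr, one_mul] at this
    show ((v ^ r : R') : G) ∈ centralizer ({x} : Set G)
    rw [Subgroup.coe_pow]
    exact mem_cent.mpr (mul_inv_eq_iff_eq_mul.mp this)
  have hcomm : ∀ a b : R' ⧸ X', a * b = b * a := by
    intro a b
    obtain ⟨a, rfl⟩ := QuotientGroup.mk'_surjective X' a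
    obtain ⟨b, rfl⟩ := QuotientGroup.mk'_surjective X' b
    rw [← map_mul, ← map_mul]
    refine (QuotientGroup.eq.mpr ?_)
    obtain ⟨za, hza, hax⟩ := hz a
    obtain ⟨zb, hzb, hbx⟩ := hz b
    have hca : ∀ t : G, Commute za t := fun t => (Subgroup.mem_center_iff.mp hza t).symm
    have hcb : ∀ t : G, Commute zb t := fun t => (Subgroup.mem_center_iff.mp hzb t).symm
    have hab : ((a * b : R') : G) * x * ((a * b : R') : G)⁻¹ =
        ((b * a : R') : G) * x * ((b * a : R') : G)⁻¹ := by
      push_cast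
      calc (a : G) * b * x * ((a : G) * b)⁻¹ = a * ((b : G) * x * (b : G)⁻¹) * (a : G)⁻¹ := by group
        _ = (a * zb) * x * (a : G)⁻¹ := by rw [hbx]; group
        _ = zb * (a * x * (a : G)⁻¹) := by rw [← (hcb a).eq]; group
        _ = za * (zb * x) := by rw [hax, ← mul_assoc, ← (hca zb).eq, mul_assoc]
        _ = (za * b) * x * (b : G)⁻¹ := by rw [← hbx]; group
        _ = b * (za * x) * (b : G)⁻¹ := by rw [(hca b).eq]; group
        _ = (b : G) * a * x * ((b : G) * a)⁻¹ := by rw [← hax]; group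
    show (((a * b)⁻¹ * (b * a) : R') : G) ∈ centralizer ({x} : Set G)
    refine mem_cent.mpr ?_
    push_cast at hab ⊢
    refine mul_inv_eq_iff_eq_mul.mp ?_
    calc ((a : G) * b)⁻¹ * (b * a) * x * (((a : G) * b)⁻¹ * (b * a))⁻¹
        = ((a : G) * b)⁻¹ * ((b : G) * a * x * ((b : G) * a)⁻¹) * ((a : G) * b) := by group
      _ = x := by rw [← hab]; group
  letI : CommGroup (R' ⧸ X') := { (inferInstance : Group (R' ⧸ X')) with mul_comm := hcomm }
  -- the group `N ⊓ C(x)`
  let D : Subgroup G := N ⊓ C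
  letI : CommGroup D :=
    { (inferInstance : Group D) with
      mul_comm := fun u v => Subtype.ext
        (mem_cent.mp (h.cent_le_of_typeB hx.2.1 hox hB v.2.1 v.2.2 u.2.2)) }
  have hnorm : ∀ v : R', ∀ u ∈ D, (v : G) * u * (v : G)⁻¹ ∈ D := fun v u hu =>
    ⟨h.normal.conj_mem u hu.1 v, hx.normalizes v.2 hu.2⟩
  let φ : R' →* MulAut D :=
    { toFun := fun v =>
        { toFun := fun u => ⟨v * u * (v : G)⁻¹, hnorm v u u.2⟩
          invFun := fun u => ⟨(v⁻¹ : R') * u * ((v⁻¹ : R') : G)⁻¹, hnorm v⁻¹ u u.2⟩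
          left_inv := fun u => Subtype.ext (by
            show ((v⁻¹ : R') : G) * (v * u * (v : G)⁻¹) * ((v⁻¹ : R') : G)⁻¹ = (u : G)
            push_cast; group)
          right_inv := fun u => Subtype.ext (by
            show (v : G) * ((v⁻¹ : R') * u * ((v⁻¹ : R') : G)⁻¹) * (v : G)⁻¹ = (u : G)
            push_cast; group)
          map_mul' := fun u w => Subtype.ext (by
            show (v : G) * ((u : G) * w) * (v : G)⁻¹ = (v * u * (v : G)⁻¹) * (v * w * (v : G)⁻¹)
            group) }
      map_one' := MulEquiv.ext fun u => Subtype.ext (by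
        show ((1 : R') : G) * u * ((1 : R') : G)⁻¹ = (u : G)
        simp)
      map_mul' := fun v w => MulEquiv.ext fun u => Subtype.ext (by
        show ((v * w : R') : G) * u * ((v * w : R') : G)⁻¹ = v * (w * u * (w : G)⁻¹) * (v : G)⁻¹
        push_cast; group) }
  have hker : X' ≤ φ.ker := fun v hv => MulEquiv.ext fun u => Subtype.ext (by
    show (v : G) * u * (v : G)⁻¹ = (u : G)
    have hvu : (v : G) * u = u * v := mem_cent.mp (h.cent_le_of_typeB hx.2.1 hox hB u.2.1 u.2.2 hv)
    rw [hvu, mul_inv_cancel_right])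
  letI : MulDistribMulAction (R' ⧸ X') D :=
    MulDistribMulAction.compHom _ (QuotientGroup.lift X' φ hker)
  have hfix : ∀ v : R' ⧸ X', v ≠ 1 → ∀ t : D, v • t = t → t ∈ (center G).subgroupOf D := by
    intro v hv t ht
    obtain ⟨v, rfl⟩ := QuotientGroup.mk'_surjective X' v
    by_contra htc
    apply hv
    refine (QuotientGroup.eq_one_iff _).mpr ?_
    have heq := h.eq_of_le hxN t.2.1 (show (t : G) ∉ center G from htc)
      (h.cent_le_of_typeB hx.2.1 hox hB t.2.1 t.2.2)
    show (v : G) ∈ centralizer ({x} : Set G)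
    rw [heq]
    exact mem_cent.mpr (mul_inv_eq_iff_eq_mul.mp (congrArg Subtype.val ht))
  obtain ⟨y', hy'x, hy'N, hy'c, q, j, hq, hqr, hoy⟩ := hB
  by_contra hlt
  push Not at hlt
  have hidx : r < Nat.card (R' ⧸ X') := by
    rw [← Subgroup.index_eq_card]
    by_contra hle
    push Not at hle
    have h2 : Nat.card R' ≤ r * cc r x := by
      rw [← Subgroup.card_mul_index X', mul_comm r]
      exact Nat.mul_le_mul hXle hle
    exact absurd h2 (not_le.mpr hlt)
  haveI : Nontrivial (R' ⧸ X') :=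
    Finite.one_lt_card_iff_nontrivial.mp (lt_trans hr.out.one_lt hidx)
  obtain ⟨g, hg⟩ := exists_ne (1 : R' ⧸ X')
  obtain ⟨k, hk⟩ : ∃ k, k ∉ zpowers g := by
    by_contra! hall
    have h1 : zpowers g = ⊤ := eq_top_iff.mpr fun v _ => hall v
    have h2 : Nat.card (zpowers g) = Nat.card (R' ⧸ X') := by rw [h1, Subgroup.card_top]
    rw [Nat.card_zpowers] at h2
    have h3 := Nat.le_of_dvd hr.out.pos (orderOf_dvd_of_pow_eq_one (hexp g))
    omega
  have hmem : ((⟨y', hy'N, hy'x⟩ : D) ^ r : D) ∈ (center G).subgroupOf D :=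
    pow_mem_of_rank_two _ hexp hfix hg hk _
  apply hy'c
  obtain ⟨e, he⟩ := exists_pow_eq_self_of_coprime (x := y') (n := r)
    (by rw [hoy]; exact Nat.Coprime.pow_right j ((Nat.coprime_primes hr.out hq).mpr hqr.symm))
  rw [← he]
  exact pow_mem (show y' ^ r ∈ center G from hmem) e

/-- Every non-central element of `N` has, up to conjugation, the centralizer of a `Z2`-element. -/
lemma exists_z2_conj {u : G} (hu : u ∈ N) (huc : u ∉ center G) :
    ∃ g x, Z2 R x ∧
      (centralizer ({u} : Set G)).map (MulAut.conj g).toMonoidHom = centralizer ({x} : Set G) := by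
  classical
  obtain ⟨x₀, -, hx₀⟩ := exists_z2 (R := R) (le_refl (R : Subgroup G))
    (fun g hg v hv => mul_mem (mul_mem hg hv) (inv_mem hg)) h.noncentral
  obtain ⟨i₀, ho₀⟩ := hx₀.order
  -- an `r`-element with the same centralizer
  obtain ⟨w, iw, how, hwc, hwu⟩ : ∃ w i, orderOf w = r ^ i ∧ w ∉ center G ∧
      centralizer ({u} : Set G) = centralizer ({w} : Set G) := by
    obtain ⟨q, k, i, hq, hnc, ho, -⟩ := exists_noncentral_part huc
    have heq := h.eq_of_le hu (pow_mem hu k) hnc (cent_le_pow u k)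
    by_cases hqr : q = r
    · subst hqr
      exact ⟨_, i, ho, hnc, heq⟩
    · obtain ⟨W, -, hWu, hWp, hWc⟩ :=
        exists_sylow_of_cent (u ^ k) (IsPGroup.of_bot (p := r)) bot_le
      obtain ⟨w, hwW, hwc⟩ := SetLike.not_le_iff_exists.mp
        (h.noncentral_of_cc hx₀ (pow_mem hu k) hnc hWp hWc)
      obtain ⟨j, hj⟩ := orderOf_eq_pow_of_mem hWp hwW
      refine ⟨w, j, hj, hwc, heq.trans ?_⟩
      exact (h.cent_eq_of_prime' hwc hj ⟨pow_mem hu k, hnc, q, i, hq, hqr, ho⟩
        (mem_cent.mpr (mem_cent.mp (hWu hwW)).symm)).symm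
  have hwN := h.mem_of_order how
  obtain ⟨W, hwW, hWw, hWp, hWc⟩ := exists_sylow_of_cent w (isPGroup_zpowers how)
    (zpowers_le.mpr (mem_cent.mpr rfl))
  obtain ⟨g, hgW⟩ := exists_conj_le (R := R) hWp
  set S := W.map (MulAut.conj g).toMonoidHom with hS
  set w' := (MulAut.conj g).toMonoidHom w with hw'
  have hw'S : w' ∈ S := mem_map_of_mem _ (hwW (mem_zpowers w))
  have hw'c : w' ∉ center G := fun hc => hwc (by
    have := Subgroup.Normal.conj_mem inferInstance _ hc g⁻¹
    simpa [hw', mul_assoc] using this)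
  have hSw' : ∀ v ∈ S, Commute v w' := by
    rintro _ ⟨v, hv, rfl⟩
    exact (show Commute v w from mem_cent.mp (hWw hv)).map _
  have hScard : Nat.card S = cc r x₀ := by
    rw [hS, Subgroup.card_map_of_injective (MulAut.conj g).injective, hWc, cc, cc,
      h.card_eq hwN hwc (h.mem_of_order ho₀) hx₀.2.1]
  -- `S` is normal in `R`
  have hSn : ∀ v ∈ (R : Subgroup G), ∀ s ∈ S, v * s * v⁻¹ ∈ S := by
    let R' := (R : Subgroup G)
    let S' := S.subgroupOf R'
    have hS' : Nat.card S' = Nat.card S :=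
      Nat.card_congr (Subgroup.subgroupOfEquivOfLe hgW).toEquiv
    have hidx : S'.index ≤ r := by
      have h1 := Subgroup.card_mul_index S'
      rw [hS', hScard] at h1
      have h2 := h.card_sylow_le hy hx₀
      have hpos : 0 < cc r x₀ := Nat.pow_pos hr.out.pos
      refine Nat.le_of_mul_le_mul_left ?_ hpos
      rw [h1, mul_comm]
      exact h2
    obtain ⟨e, he⟩ : ∃ e, S'.index = r ^ e := by
      obtain ⟨k, hk⟩ := R.isPGroup'.exists_card_eq
      obtain ⟨e, -, he⟩ := (Nat.dvd_prime_pow hr.out).mp (hk ▸ S'.index_dvd_card)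
      exact ⟨e, he⟩
    have hn : S'.Normal := by
      rcases e with _ | e
      · rw [pow_zero, Subgroup.index_eq_one] at he
        rw [he]; infer_instance
      · rcases e with _ | e
        · rw [zero_add, pow_one] at he
          refine Subgroup.normal_of_index_eq_minFac_card ?_
          obtain ⟨k, hk⟩ := R.isPGroup'.exists_card_eq
          rcases k with _ | k
          · rw [pow_zero] at hk
            have := S'.index_dvd_card
            rw [he, hk, Nat.dvd_one] at this
            exact absurd this hr.out.one_lt.ne'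
          · rw [he, hk, Nat.pow_minFac k.succ_ne_zero, hr.out.minFac_eq]
        · rw [he, pow_succ, pow_succ] at hidx
          have h3 := hr.out.two_le
          have : r * 2 ≤ r ^ e * r * r :=
            Nat.mul_le_mul (Nat.le_mul_of_pos_left _ (Nat.pow_pos hr.out.pos)) h3
          omega
    exact fun v hv s hs => hn.conj_mem ⟨s, hgW hs⟩ hs ⟨v, hv⟩
  obtain ⟨x, hxS, hx⟩ := exists_z2 hgW hSn (fun hle => hw'c (hle hw'S))
  obtain ⟨ix, hox⟩ := hx.order
  refine ⟨g, x, hx, ?_⟩
  have hmap : (centralizer ({w} : Set G)).map (MulAut.conj g).toMonoidHom =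
      centralizer ({w'} : Set G) := by
    rw [Subgroup.map_equiv_eq_comap_symm']
    ext v
    rw [Subgroup.mem_comap, mem_cent, mem_cent, hw']
    constructor <;> intro hv
    · simpa [mul_assoc] using congrArg (MulAut.conj g) hv
    · simpa [mul_assoc] using congrArg (MulAut.conj g).symm hv
  rw [hwu, hmap]
  have hw'N : w' ∈ N := h.normal.conj_mem w hwN g
  refine (h.eq_of_le (h.mem_of_order hox) hw'N hw'c ?_).symm
  exact h.cent_le_of_typeB hx.2.1 hox (h.typeB_of_z2 hy hx) hw'N (mem_cent.mpr (hSw' x hxS).eq.symm)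

/-- For a `Z2`-element `x`, `C(x)` and `C(R)` agree modulo `N`. -/
lemma cent_sup_eq {x : G} (hx : Z2 R x) :
    centralizer ({x} : Set G) ⊔ N = centralizer ((R : Subgroup G) : Set G) ⊔ N := by
  obtain ⟨ix, hox⟩ := hx.order
  have hB := h.typeB_of_z2 hy hx
  haveI := h.normal
  set C := centralizer ({x} : Set G) with hC
  refine le_antisymm (sup_le ?_ le_sup_right) (sup_le ?_ le_sup_right)
  · -- a Frattini argument in `C R`
    set M := C ⊔ (R : Subgroup G) with hM
    let K : Subgroup M := N.subgroupOf M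
    have hRM : (R : Subgroup G) ≤ M := le_sup_right
    obtain ⟨P⟩ : Nonempty (Sylow r K) := inferInstance
    intro g hg
    have hgM : g ∈ M := mem_sup_left hg
    -- conjugate `g R g⁻¹` back to `R` inside `K`
    let RK : Sylow r K :=
      { toSubgroup := ((R : Subgroup G).subgroupOf M).subgroupOf K
        isPGroup' := (R.isPGroup'.comap_subtype).comap_subtype
        is_maximal' := by
          intro Q hQ hle
          refine le_antisymm (fun v hv => ?_) hle
          have h1 : IsPGroup r (((Q.map K.subtype).map M.subtype : Subgroup G)) :=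
            (hQ.map _).map _
          have h2 := R.is_maximal' h1 (fun w hw => ⟨⟨w, hRM hw⟩,
            ⟨⟨⟨w, hRM hw⟩, h.le hw⟩, hle (show w ∈ (R : Subgroup G) from hw), rfl⟩, rfl⟩)
          show ((v : M) : G) ∈ (R : Subgroup G)
          exact h2.le (mem_map_of_mem _ (mem_map_of_mem _ hv)) }
    have hF : normalizer (((RK : Subgroup K).map K.subtype : Subgroup M) : Set M) ⊔ K = ⊤ :=
      Sylow.normalizer_sup_eq_top RK
    have hdec : (⟨g, hgM⟩ : M) ∈
        normalizer (((RK : Subgroup K).map K.subtype : Subgroup M) : Set M) ⊔ K := hF ▸ mem_top _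
    rw [← SetLike.mem_coe, Subgroup.mul_normal, Set.mem_mul] at hdec
    obtain ⟨n, hn, k, hk, hnk⟩ := hdec
    have hnR : ∀ v ∈ (R : Subgroup G), (n : G) * v * (n : G)⁻¹ ∈ (R : Subgroup G) := by
      intro v hv
      have h1 := (Subgroup.mem_normalizer_iff.mp hn ⟨v, hRM hv⟩).mp
        ⟨⟨⟨v, hRM hv⟩, h.le hv⟩, hv, rfl⟩
      obtain ⟨w, hw, hwe⟩ := h1
      have h2 : ((w : M) : G) = (n : G) * v * (n : G)⁻¹ := congrArg Subtype.val hwe
      rw [← h2]; exact hw
    -- write `n = c ρ`
    have hn' : (n : G) ∈ ((C : Set G) * ((R : Subgroup G) : Set G)) := by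
      rw [← Subgroup.coe_mul_of_right_le_normalizer_left C (R : Subgroup G) hx.le_normalizer]
      exact n.2
    obtain ⟨c, hc, ρ, hρ, hcρ'⟩ := hn'
    have hcρ : c * ρ = (n : G) := hcρ'
    have hcR : ∀ v ∈ (R : Subgroup G), c * v * c⁻¹ ∈ (R : Subgroup G) := by
      intro v hv
      have h1 := hnR (ρ⁻¹ * v * ρ) (mul_mem (mul_mem (inv_mem hρ) hv) hρ)
      rw [← hcρ] at h1
      simpa [mul_assoc] using h1
    -- parts of `c`
    have hcmem : c ∈ centralizer ((R : Subgroup G) : Set G) ⊔ N := by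
      refine mem_of_parts _ fun s hs => ?_
      by_cases hsr : s = r
      · subst hsr
        exact mem_sup_right (h.mem_of_order (part_order c s))
      refine mem_sup_left (mem_centralizer_iff.mpr fun v hv => ?_)
      set l := c ^ (orderOf c / s ^ (orderOf c).factorization s) with hl
      have hlC : l ∈ C := pow_mem hc _
      have hcR' : ∀ n : ℕ, ∀ v ∈ (R : Subgroup G), c ^ n * v * (c ^ n)⁻¹ ∈ (R : Subgroup G) := by
        intro n
        induction n with
        | zero => intro v hv; simpa using hv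
        | succ n ih =>
          intro v hv
          have h3 : c * (c ^ n * v * (c ^ n)⁻¹) * c⁻¹ = c ^ (n + 1) * v * (c ^ (n + 1))⁻¹ := by
            rw [pow_succ']; group
          rw [← h3]; exact hcR _ (ih v hv)
      let X := (R : Subgroup G) ⊓ C
      have hXl : ∀ u ∈ X, Commute l u := fun u hu =>
        mem_cent.mp (h.cent_le_of_typeB hx.2.1 hox hB (h.le hu.1) hu.2 hlC)
      have hlX : ∀ u ∈ X, l * u * l⁻¹ ∈ X := fun u hu => by
        rw [(hXl u hu).eq, mul_inv_cancel_right]; exact hu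
      obtain ⟨u, hu, hcomm⟩ := exists_fixed_in_coset (R.isPGroup'.to_le inf_le_left) hs hsr
        (part_order c s) hlX
        ⟨mul_mem (Subgroup.inv_mem _ hv) (hcR' _ v hv), hx.comm_mem hlC hv⟩
      have := hcomm.mul_right (hXl u hu).inv_right
      rw [mul_inv_cancel_right] at this
      exact this.eq.symm
    have hgeq : g = c * ρ * (k : G) := by
      rw [hcρ]; exact (congrArg Subtype.val hnk).symm
    rw [hgeq]
    exact mul_mem (mul_mem hcmem (mem_sup_right (h.le hρ))) (mem_sup_right hk)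
  · intro g hg
    exact mem_sup_left (mem_cent.mpr (mem_centralizer_iff.mp hg x hx.1).symm)

lemma card_inf_cent {x x' : G} (hx : Z2 R x) (hx' : Z2 R x') :
    Nat.card (N ⊓ centralizer ({x} : Set G) : Subgroup G) =
      Nat.card (N ⊓ centralizer ({x'} : Set G) : Subgroup G) := by
  haveI := h.normal
  have key : ∀ C : Subgroup G, Nat.card (N ⊓ C : Subgroup G) * N.relIndex (C ⊔ N) = Nat.card C := by
    intro C
    rw [Subgroup.relIndex_sup_right, Subgroup.relIndex, ← Subgroup.card_mul_index (N.subgroupOf C)]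
    congr 1
    rw [← Subgroup.card_map_of_injective C.subtype_injective, Subgroup.subgroupOf_map_subtype]
  have h1 := key (centralizer ({x} : Set G))
  have h2 := key (centralizer ({x'} : Set G))
  obtain ⟨i, hox⟩ := hx.order
  obtain ⟨i', hox'⟩ := hx'.order
  rw [h.cent_sup_eq hy hx, h.card_eq (h.mem_of_order hox) hx.2.1 (h.mem_of_order hox') hx'.2.1,
    ← h2, h.cent_sup_eq hy hx'] at h1
  exact Nat.eq_of_mul_eq_mul_right (Nat.pos_of_ne_zero Subgroup.index_ne_zero_of_finite) h1

/-- The centralizers of all non-central elements of `N` meet `N` in subgroups of equal order. -/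
lemma card_inf_cent_eq {u v : G} (hu : u ∈ N) (huc : u ∉ center G) (hv : v ∈ N)
    (hvc : v ∉ center G) :
    Nat.card (N ⊓ centralizer ({u} : Set G) : Subgroup G) =
      Nat.card (N ⊓ centralizer ({v} : Set G) : Subgroup G) := by
  have key : ∀ {u : G}, u ∈ N → u ∉ center G → ∃ x, Z2 R x ∧
      Nat.card (N ⊓ centralizer ({u} : Set G) : Subgroup G) =
        Nat.card (N ⊓ centralizer ({x} : Set G) : Subgroup G) := by
    intro u hu huc
    obtain ⟨g, x, hx, hgx⟩ := h.exists_z2_conj hy hu huc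
    refine ⟨x, hx, ?_⟩
    haveI := h.normal
    rw [← Subgroup.card_map_of_injective (K := N ⊓ centralizer ({u} : Set G))
        (f := (MulAut.conj g).toMonoidHom) (MulAut.conj g).injective,
      Subgroup.map_inf_eq _ _ _ (MulAut.conj g).injective, hgx]
    rw [show N.map (MulAut.conj g).toMonoidHom = N from ?_]
    ext w
    constructor
    · rintro ⟨a, ha, rfl⟩
      exact h.normal.conj_mem a ha g
    · intro hw
      refine ⟨g⁻¹ * w * g, ?_, ?_⟩
      · simpa using h.normal.conj_mem w hw g⁻¹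
      · show g * (g⁻¹ * w * g) * g⁻¹ = w
        group
  obtain ⟨x, hx, h1⟩ := key hu huc
  obtain ⟨x', hx', h2⟩ := key hv hvc
  rw [h1, h2, h.card_inf_cent hy hx hx']

/-- The centralizers of non-central elements of `N` meet `N` in central subgroups of themselves. -/
lemma commute_inf_cent {u a b : G} (hu : u ∈ N) (huc : u ∉ center G) (ha : a ∈ N)
    (hau : a ∈ centralizer ({u} : Set G)) (hb : b ∈ N) (hbu : b ∈ centralizer ({u} : Set G)) :
    Commute a b := by
  obtain ⟨g, x, hx, hgx⟩ := h.exists_z2_conj hy hu huc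
  obtain ⟨ix, hox⟩ := hx.order
  have hconj : ∀ {a : G}, a ∈ centralizer ({u} : Set G) →
      g * a * g⁻¹ ∈ centralizer ({x} : Set G) := fun ha => hgx ▸ mem_map_of_mem _ ha
  have h1 : Commute (g * a * g⁻¹) (g * b * g⁻¹) :=
    mem_cent.mp (h.cent_le_of_typeB hx.2.1 hox (h.typeB_of_z2 hy hx) (h.normal.conj_mem b hb g)
      (hconj hbu) (hconj hau))
  have := h1.map (MulAut.conj g).symm.toMonoidHom
  simpa [mul_assoc] using this


end Hyp


theorem isNilpotent_of_hyp {N : Subgroup G} {R : Sylow r G} {m : ℕ} (h : Hyp N R m) :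
    Group.IsNilpotent N := by
  classical
  haveI := h.normal
  let Z' := (center G).subgroupOf N
  have hZc : Z' ≤ center N := fun z hz => Subgroup.mem_center_iff.mpr fun t =>
    Subtype.ext (Subgroup.mem_center_iff.mp hz (t : G))
  by_cases hy : ∃ y, Hyp.Prime' r N y
  swap
  · -- `N` is an `r`-group modulo the centre
    push Not at hy
    have hQ : IsPGroup r (N ⧸ Z') := by
      intro v
      obtain ⟨v, rfl⟩ := QuotientGroup.mk'_surjective Z' v
      refine ⟨(orderOf v).factorization r, ?_⟩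
      rw [← map_pow]
      refine (QuotientGroup.eq_one_iff _).mpr ?_
      show ((v ^ r ^ (orderOf v).factorization r : N) : G) ∈ center G
      rw [Subgroup.coe_pow, ← Subgroup.orderOf_coe]
      set w := (v : G) ^ r ^ (orderOf (v : G)).factorization r with hw
      refine mem_of_parts _ fun s hs => ?_
      by_contra hwc
      set a := w ^ (orderOf w / s ^ (orderOf w).factorization s) with ha
      refine hy a ⟨pow_mem (pow_mem v.2 _) _, hwc, s, _, hs, fun hsr => hwc ?_, part_order w s⟩
      subst hsr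
      have hnd : ¬ s ∣ orderOf w := by
        rw [hw, orderOf_pow_of_dvd (pow_ne_zero _ hs.ne_zero) (Nat.ordProj_dvd _ _)]
        exact Nat.not_dvd_ordCompl hs (orderOf_pos _).ne'
      have h1 : orderOf a = 1 := by
        rw [ha, part_order, Nat.factorization_eq_zero_of_not_dvd hnd, pow_zero]
      rw [orderOf_eq_one_iff.mp h1]
      exact one_mem _
    haveI : Group.IsNilpotent (N ⧸ Z') := hQ.isNilpotent
    exact Subgroup.isNilpotent_of_ker_le_center (QuotientGroup.mk' Z')
      (by rw [QuotientGroup.ker_mk']; exact hZc)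
  obtain ⟨y, hy⟩ := hy
  -- either `N` is abelian, or the centralizers partition `N / Z`
  by_cases htop : ∃ u ∈ N, u ∉ center G ∧ N ≤ centralizer ({u} : Set G)
  · obtain ⟨u, hu, huc, hle⟩ := htop
    letI : CommGroup N :=
      { (inferInstance : Group N) with
        mul_comm := fun a b => Subtype.ext
          (h.commute_inf_cent hy hu huc a.2 (hle a.2) b.2 (hle b.2)) }
    exact CommGroup.isNilpotent
  exfalso
  push Not at htop
  let π := QuotientGroup.mk' Z'
  let A : (N ⧸ Z') → Subgroup (N ⧸ Z') := fun a =>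
    ((centralizer ({((Quotient.out a : N) : G)} : Set G)).subgroupOf N).map π
  have hout : ∀ a : N ⧸ Z', π (Quotient.out a) = a := fun a => QuotientGroup.out_eq' a
  have houtc : ∀ a : N ⧸ Z', a ≠ 1 → ((Quotient.out a : N) : G) ∉ center G := fun a ha hm =>
    ha (by rw [← hout a]; exact (QuotientGroup.eq_one_iff _).mpr hm)
  have hlift : ∀ {g : N} {x : G}, π g ∈ ((centralizer ({x} : Set G)).subgroupOf N).map π →
      (g : G) ∈ centralizer ({x} : Set G) := by
    rintro g x ⟨w, hw, hwg⟩
    have hz : ((w⁻¹ * g : N) : G) ∈ center G := (QuotientGroup.eq (s := Z')).mp hwg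
    have := mul_mem (show (w : G) ∈ centralizer ({x} : Set G) from hw) (center_le_cent x hz)
    rwa [Subgroup.coe_mul, Subgroup.coe_inv, mul_inv_cancel_left] at this
  have hsame : ∀ {g x : N}, π g = π x → centralizer ({(g : G)} : Set G) ≤
      centralizer ({(x : G)} : Set G) := by
    intro g x hgx w hw
    have hz : ((g⁻¹ * x : N) : G) ∈ center G := (QuotientGroup.eq (s := Z')).mp hgx
    have := (show Commute w (g : G) from mem_cent.mp hw).mul_right
      (show Commute w ((g⁻¹ * x : N) : G) from Subgroup.mem_center_iff.mp hz w)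
    rw [Subgroup.coe_mul, Subgroup.coe_inv, mul_inv_cancel_left] at this
    exact mem_cent.mpr this
  obtain ⟨hyN, hyc, q, j, hq, hqr, hoy⟩ := hy
  have hy : Hyp.Prime' r N y := ⟨hyN, hyc, q, j, hq, hqr, hoy⟩
  let y₁ : N := ⟨y, hyN⟩
  have hcardmap : ∀ {u : G}, u ∈ N → u ∉ center G →
      Nat.card (((centralizer ({u} : Set G)).subgroupOf N).map π) =
        Nat.card (((centralizer ({y} : Set G)).subgroupOf N).map π) := by
    intro u hu huc
    have hker : ∀ v : G, π.ker ≤ (centralizer ({v} : Set G)).subgroupOf N := fun v z hz => by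
      rw [QuotientGroup.ker_mk'] at hz
      exact center_le_cent v hz
    have hc : ∀ v : G, Nat.card ((centralizer ({v} : Set G)).subgroupOf N) =
        Nat.card (N ⊓ centralizer ({v} : Set G) : Subgroup G) := fun v => by
      rw [← Subgroup.card_map_of_injective N.subtype_injective, Subgroup.subgroupOf_map_subtype,
        inf_comm]
    have h1 := Subgroup.card_mul_index ((centralizer ({u} : Set G)).subgroupOf N)
    have h2 := Subgroup.card_mul_index ((centralizer ({y} : Set G)).subgroupOf N)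
    have h3 := Subgroup.card_mul_index (((centralizer ({u} : Set G)).subgroupOf N).map π)
    have h4 := Subgroup.card_mul_index (((centralizer ({y} : Set G)).subgroupOf N).map π)
    rw [Subgroup.index_map_eq _ (QuotientGroup.mk'_surjective _) (hker u)] at h3
    rw [Subgroup.index_map_eq _ (QuotientGroup.mk'_surjective _) (hker y)] at h4
    rw [hc, h.card_inf_cent_eq hy hu huc hyN hyc, ← hc] at h1
    have h5 : ((centralizer ({u} : Set G)).subgroupOf N).index =
        ((centralizer ({y} : Set G)).subgroupOf N).index :=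
      Nat.eq_of_mul_eq_mul_left Nat.card_pos (h1.trans h2.symm)
    rw [h5] at h3
    exact Nat.eq_of_mul_eq_mul_right (Nat.pos_of_ne_zero Subgroup.index_ne_zero_of_finite)
      (h3.trans h4.symm)
  have hdata : EquallyPartitioned.Data A
      (Nat.card (((centralizer ({y} : Set G)).subgroupOf N).map π)) := by
    constructor
    · intro a _
      exact ⟨Quotient.out a, mem_cent.mpr rfl, hout a⟩
    · intro a b ha hb hab'
      rw [← hout a] at hab'
      have hm : ((Quotient.out a : N) : G) ∈ centralizer ({((Quotient.out b : N) : G)} : Set G) :=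
        hlift hab'
      -- both centralizers meet `N` in the same subgroup
      have hsub : ∀ {u v : N}, (u : G) ∉ center G → (v : G) ∉ center G →
          (v : G) ∈ centralizer ({(u : G)} : Set G) →
          (centralizer ({(u : G)} : Set G)).subgroupOf N ≤
            (centralizer ({(v : G)} : Set G)).subgroupOf N := by
        intro u v huc hvc hvu w hw
        exact mem_cent.mpr (h.commute_inf_cent hy u.2 huc w.2 hw v.2 hvu).eq
      exact le_antisymm
        (Subgroup.map_mono (hsub (houtc a ha) (houtc b hb) (mem_cent.mpr (mem_cent.mp hm).symm)))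
        (Subgroup.map_mono (hsub (houtc b hb) (houtc a ha) hm))
    · intro a ha
      exact hcardmap (Quotient.out a).2 (houtc a ha)
    · rintro a ha _ ⟨u, hu, rfl⟩ _ ⟨v, hv, rfl⟩
      rw [← map_mul, ← map_mul]
      exact congrArg π (Subtype.ext
        (h.commute_inf_cent hy (Quotient.out a).2 (houtc a ha) u.2 hu v.2 hv).eq)
    · rintro g a ha _ ⟨u, hu, rfl⟩
      obtain ⟨g, rfl⟩ := QuotientGroup.mk'_surjective Z' g
      refine ⟨g * u * g⁻¹, ?_, by simp only [map_mul, map_inv]; rfl⟩
      refine hsame (g := g * Quotient.out a * g⁻¹) ?_ ?_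
      · rw [hout]; simp only [map_mul, map_inv, hout]; rfl
      · have : Commute (u : G) ((Quotient.out a : N) : G) := mem_cent.mp hu
        exact mem_cent.mpr (this.map (MulAut.conj (g : G)).toMonoidHom).eq
  have hy1 : π y₁ ≠ 1 := fun h1 => hyc ((QuotientGroup.eq_one_iff y₁).mp h1)
  haveI : Nontrivial (N ⧸ Z') := ⟨⟨_, _, hy1⟩⟩
  obtain ⟨p, hp, hP⟩ := EquallyPartitioned.exists_isPGroup hdata (fun a ha htop' => by
    refine htop _ (Quotient.out a).2 (houtc a ha) fun g hg => hlift (g := ⟨g, hg⟩) ?_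
    show π ⟨g, hg⟩ ∈ A a
    rw [htop']; trivial) inferInstance
  haveI := Fact.mk hp
  -- both `r` and `q` divide the order of `N / Z`
  have hprime : ∀ (u : N) {s i : ℕ}, s.Prime → orderOf (u : G) = s ^ i → (u : G) ∉ center G →
      s = p := by
    intro u s i hs hou huc
    obtain ⟨k, hk⟩ := IsPGroup.iff_orderOf.mp hP (π u)
    have hd : orderOf (π u) ∣ s ^ i := by
      rw [← hou, Subgroup.orderOf_coe]; exact orderOf_map_dvd π u
    rw [hk] at hd
    rcases k with _ | k
    · rw [pow_zero, orderOf_eq_one_iff] at hk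
      exact absurd ((QuotientGroup.eq_one_iff u).mp hk) huc
    · exact ((Nat.prime_dvd_prime_iff_eq hp hs).mp
        (hp.dvd_of_dvd_pow ((dvd_pow_self p k.succ_ne_zero).trans hd))).symm
  obtain ⟨u, hu, huc⟩ := SetLike.not_le_iff_exists.mp h.noncentral
  obtain ⟨i, hou⟩ := orderOf_eq_pow_of_mem R.isPGroup' hu
  exact hqr ((hprime y₁ hq hoy hyc).trans (hprime ⟨u, h.le hu⟩ hr.out hou huc).symm)

end Cfsg.Agent.FGS3.TwoSizesNormal
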